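import Mathlib
import Cfsg.Agent.Lib.Involution.Counting

/-!
# Abstract Brauer–Suzuki–Wall: the group theoretic part of the set-up

`Setup G` packages a centralizer of an involution of dihedral type: an abelian subgroup `K`
of `C(t)` containing `t`, inverted by the involution `s`, a TI subgroup, all involutions conjugate.
-/

set_option autoImplicit false

namespace Cfsg.Agent.BSW7

open Subgroup Involution

/-- The hypotheses of the abstract Brauer–Suzuki–Wall theorem. -/
structure Setup (G : Type*) [Group G] where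
  t : G
  K : Subgroup G
  s : G
  ht : orderOf t = 2
  comm : ∀ x ∈ K, ∀ y ∈ K, x * y = y * x
  le : K ≤ centralizer ({t} : Set G)
  tK : t ∈ K
  hs : orderOf s = 2
  sH : s ∈ centralizer ({t} : Set G)
  sK : s ∉ K
  gen : K ⊔ zpowers s = centralizer ({t} : Set G)
  inter : K ⊓ centralizer ({s} : Set G) = zpowers t
  inv : ∀ x ∈ K, s * x * s⁻¹ = x⁻¹
  ti : ∀ g : G, g ∉ centralizer ({t} : Set G) → K ⊓ K.map (MulAut.conj g).toMonoidHom = ⊥
  conj : ∀ x y : G, orderOf x = 2 → orderOf y = 2 → IsConj x y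

namespace Setup

variable {G : Type*} [Group G] (S : Setup G)

/-- `g` is conjugate to an element of `K`. -/
def InConjK (g : G) : Prop := ∃ x : G, x * g * x⁻¹ ∈ S.K

theorem t_mul_self : S.t * S.t = 1 := mul_self_of_orderOf S.ht

theorem s_mul_self : S.s * S.s = 1 := mul_self_of_orderOf S.hs

theorem s_inv : S.s⁻¹ = S.s := inv_eq_of_mul_eq_one_right S.s_mul_self

theorem t_ne_one : S.t ≠ 1 := fun h => by simpa [h] using S.ht

theorem inv_t : S.t⁻¹ = S.t := inv_eq_of_mul_eq_one_right S.t_mul_self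

theorem mem_H {g : G} : g ∈ centralizer ({S.t} : Set G) ↔ g * S.t = S.t * g :=
  mem_centralizer_singleton

theorem mul_s {x : G} (hx : x ∈ S.K) : S.s * x = x⁻¹ * S.s := by
  rw [← S.inv x hx, inv_mul_cancel_right]

theorem mem_H_cases {h : G} (hh : h ∈ centralizer ({S.t} : Set G)) :
    h ∈ S.K ∨ h * S.s ∈ S.K := by
  let L : Subgroup G :=
    { carrier := {g | g ∈ S.K ∨ g * S.s ∈ S.K}
      one_mem' := Or.inl S.K.one_mem
      mul_mem' := by
        intro a b ha hb
        rcases ha with ha | ha <;> rcases hb with hb | hb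
        · exact Or.inl (mul_mem ha hb)
        · exact Or.inr (by rw [mul_assoc]; exact mul_mem ha hb)
        · refine Or.inr ?_
          have h1 : a * b * S.s = (a * S.s) * (S.s * b * S.s⁻¹) := by
            rw [S.s_inv]
            calc a * b * S.s = a * (S.s * S.s) * b * S.s := by rw [S.s_mul_self, mul_one]
              _ = _ := by group
          rw [h1, S.inv b hb]
          exact mul_mem ha (inv_mem hb)
        · refine Or.inl ?_
          have h1 : a * b = (a * S.s) * (S.s * (b * S.s) * S.s⁻¹) := by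
            rw [S.s_inv]
            calc a * b = a * (S.s * S.s) * b * (S.s * S.s) := by rw [S.s_mul_self, mul_one, mul_one]
              _ = _ := by group
          rw [h1, S.inv _ hb]
          exact mul_mem ha (inv_mem hb)
      inv_mem' := by
        intro a ha
        rcases ha with ha | ha
        · exact Or.inl (inv_mem ha)
        · refine Or.inr ?_
          have h1 : a⁻¹ * S.s = (S.s * (a * S.s)⁻¹ * S.s⁻¹)⁻¹⁻¹ := by
            rw [inv_inv, S.s_inv, mul_inv_rev, S.s_inv]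
            calc a⁻¹ * S.s = (S.s * S.s) * a⁻¹ * S.s := by rw [S.s_mul_self, one_mul]
              _ = _ := by group
          rw [h1, S.inv _ (inv_mem ha)]
          exact inv_mem (inv_mem (inv_mem (inv_mem ha))) }
  have hle : S.K ⊔ zpowers S.s ≤ L :=
    sup_le (fun x hx => Or.inl hx) (by
      rw [zpowers_le]
      exact Or.inr (by rw [S.s_mul_self]; exact S.K.one_mem))
  rw [S.gen] at hle
  exact hle hh

theorem eq_t_of_sq {x : G} (hx : x ∈ S.K) (h2 : x * x = 1) : x = 1 ∨ x = S.t := by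
  have hi : x⁻¹ = x := inv_eq_of_mul_eq_one_right h2
  have h1 : x ∈ S.K ⊓ centralizer ({S.s} : Set G) :=
    ⟨hx, mem_centralizer_singleton.mpr (by rw [S.mul_s hx, hi])⟩
  rw [S.inter] at h1
  obtain ⟨j, rfl⟩ := mem_zpowers_iff.mp h1
  rcases Int.even_or_odd j with ⟨i, rfl⟩ | ⟨i, rfl⟩
  · left
    rw [← two_mul, zpow_mul, zpow_two, S.t_mul_self, one_zpow]
  · right
    rw [zpow_add, zpow_mul, zpow_two, S.t_mul_self, one_zpow, one_mul, zpow_one]

theorem conj_K_of_mem {h x : G} (hh : h ∈ S.K) (hx : x ∈ S.K) : h * x * h⁻¹ = x := by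
  rw [S.comm h hh x hx, mul_inv_cancel_right]

theorem conj_inv_of_notMem {h x : G} (hh : h ∈ centralizer ({S.t} : Set G)) (hK : h ∉ S.K)
    (hx : x ∈ S.K) : h * x * h⁻¹ = x⁻¹ := by
  have hy : h * S.s ∈ S.K := (S.mem_H_cases hh).resolve_left hK
  have h1 : h * x * h⁻¹ = (h * S.s) * (S.s * x * S.s⁻¹) * (h * S.s)⁻¹ := by
    rw [mul_inv_rev, S.s_inv]
    calc h * x * h⁻¹ = h * (S.s * S.s) * x * (S.s * S.s) * h⁻¹ := by
          rw [S.s_mul_self, mul_one, mul_one]
      _ = _ := by group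
  rw [h1, S.inv x hx, S.conj_K_of_mem hy (inv_mem hx)]

theorem conj_eq_or {h x : G} (hh : h ∈ centralizer ({S.t} : Set G)) (hx : x ∈ S.K) :
    h * x * h⁻¹ = x ∨ h * x * h⁻¹ = x⁻¹ := by
  by_cases hK : h ∈ S.K
  · exact Or.inl (S.conj_K_of_mem hK hx)
  · exact Or.inr (S.conj_inv_of_notMem hh hK hx)

theorem conj_mem_K {h x : G} (hh : h ∈ centralizer ({S.t} : Set G)) (hx : x ∈ S.K) :
    h * x * h⁻¹ ∈ S.K := by
  rcases S.conj_eq_or hh hx with h1 | h1 <;> rw [h1]
  exacts [hx, inv_mem hx]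

theorem reflection {h : G} (hh : h ∈ centralizer ({S.t} : Set G)) (hK : h ∉ S.K) :
    orderOf h = 2 := by
  have hy : h * S.s ∈ S.K := (S.mem_H_cases hh).resolve_left hK
  refine orderOf_eq_prime ?_ (fun h1 => hK (h1 ▸ S.K.one_mem))
  have h1 : h * h = (h * S.s) * (S.s * (h * S.s) * S.s⁻¹) := by
    rw [S.s_inv]
    calc h * h = h * (S.s * S.s) * h * (S.s * S.s) := by rw [S.s_mul_self, mul_one, mul_one]
      _ = _ := by group
  rw [pow_two, h1, S.inv _ hy, mul_inv_cancel]

theorem mem_H_of_conj_mem {g x : G} (hx : x ∈ S.K) (hx1 : x ≠ 1) (hg : g * x * g⁻¹ ∈ S.K) :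
    g ∈ centralizer ({S.t} : Set G) := by
  by_contra h
  have h1 : g * x * g⁻¹ ∈ S.K ⊓ S.K.map (MulAut.conj g).toMonoidHom := ⟨hg, x, hx, rfl⟩
  rw [S.ti g h, mem_bot] at h1
  exact hx1 (conj_eq_one_iff.mp h1)

theorem conj_eq_or' {g x : G} (hx : x ∈ S.K) (hx1 : x ≠ 1) (hg : g * x * g⁻¹ ∈ S.K) :
    g * x * g⁻¹ = x ∨ g * x * g⁻¹ = x⁻¹ :=
  S.conj_eq_or (S.mem_H_of_conj_mem hx hx1 hg) hx

theorem centralizer_eq {x : G} (hx : x ∈ S.K) (hx1 : x ≠ 1) (hxt : x ≠ S.t) :
    centralizer ({x} : Set G) = S.K := by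
  refine le_antisymm (fun g hg => ?_) (fun g hg => mem_centralizer_singleton.mpr (S.comm g hg x hx))
  have hc : g * x * g⁻¹ = x := by rw [mem_centralizer_singleton.mp hg, mul_inv_cancel_right]
  have hH := S.mem_H_of_conj_mem hx hx1 (by rw [hc]; exact hx)
  by_contra hK
  have h2 := S.conj_inv_of_notMem hH hK hx
  rw [hc] at h2
  rcases S.eq_t_of_sq hx (eq_inv_iff_mul_eq_one.mp h2) with h3 | h3
  exacts [hx1 h3, hxt h3]

theorem exists_conj_t {i : G} (hi : orderOf i = 2) : ∃ x : G, x * i * x⁻¹ = S.t :=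
  isConj_iff.mp (S.conj i S.t hi S.ht)

theorem inConjK_t : S.InConjK S.t := ⟨1, by simpa using S.tK⟩

theorem inConjK_involution {i : G} (hi : orderOf i = 2) : S.InConjK i := by
  obtain ⟨x, hx⟩ := S.exists_conj_t hi
  exact ⟨x, hx ▸ S.tK⟩

theorem inConjK_one : S.InConjK 1 := ⟨1, by simp⟩

theorem inConjK_inv {g : G} (h : S.InConjK g) : S.InConjK g⁻¹ := by
  obtain ⟨x, hx⟩ := h
  exact ⟨x, by simpa [mul_assoc] using inv_mem hx⟩

theorem inConjK_conj {g : G} (x : G) (h : S.InConjK (x * g * x⁻¹)) : S.InConjK g := by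
  obtain ⟨y, hy⟩ := h
  exact ⟨y * x, by simpa [mul_assoc] using hy⟩

theorem inConjK_of_commute_involution {g i : G} (hi : orderOf i = 2) (hc : g * i = i * g) :
    S.InConjK g := by
  obtain ⟨x, hx⟩ := S.exists_conj_t hi
  refine S.inConjK_conj x ?_
  have hH : x * g * x⁻¹ ∈ centralizer ({S.t} : Set G) := by
    rw [S.mem_H, ← hx]
    calc x * g * x⁻¹ * (x * i * x⁻¹) = x * (g * i) * x⁻¹ := by group
      _ = x * (i * g) * x⁻¹ := by rw [hc]
      _ = _ := by group
  by_cases hK : x * g * x⁻¹ ∈ S.K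
  · exact ⟨1, by simpa using hK⟩
  · exact S.inConjK_involution (S.reflection hH hK)

variable [Finite G]

theorem inConjK_of_commute_even {g c : G} (hc2 : 2 ∣ orderOf c) (hc : g * c = c * g) :
    S.InConjK g := by
  refine S.inConjK_of_commute_involution (i := c ^ (orderOf c / 2)) ?_ (Commute.pow_right hc _).eq
  exact orderOf_pow_orderOf_div (orderOf_pos c).ne' hc2

theorem inConjK_of_even {g : G} (h : 2 ∣ orderOf g) : S.InConjK g :=
  S.inConjK_of_commute_even h rfl

theorem sq_ne_one {g : G} (hg : ¬ S.InConjK g) : g * g ≠ 1 := by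
  intro h
  rcases eq_or_ne g 1 with h1 | h1
  · exact hg (h1 ▸ S.inConjK_one)
  · exact hg (S.inConjK_involution (orderOf_eq_prime (by rw [pow_two, h]) h1))

theorem card_H : Nat.card (centralizer ({S.t} : Set G)) = 2 * Nat.card S.K := by
  have h2 : (S.K.subgroupOf (centralizer ({S.t} : Set G))).index = 2 := by
    rw [Subgroup.index_eq_two_iff]
    refine ⟨⟨S.s, S.sH⟩, fun b => ?_⟩
    simp only [mem_subgroupOf, Subgroup.coe_mul]
    by_cases hb : (b : G) ∈ S.K
    · exact Or.inr ⟨hb, fun h => S.sK ((mul_mem_cancel_left hb).mp h)⟩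
    · exact Or.inl ⟨(S.mem_H_cases b.2).resolve_left hb, hb⟩
  have h1 := (S.K.subgroupOf (centralizer ({S.t} : Set G))).card_mul_index
  rw [h2, Nat.card_congr (subgroupOfEquivOfLe S.le).toEquiv] at h1
  omega

theorem two_dvd_card_K : 2 ∣ Nat.card S.K := S.ht ▸ S.K.orderOf_dvd_natCard S.tK

theorem card_involutions_mul :
    Nat.card {y : G // orderOf y = 2} * (2 * Nat.card S.K) = Nat.card G := by
  rw [← S.card_H, ← Involution.card_isConj_mul_card_centralizer S.t]
  congr 1
  refine Nat.card_congr (Equiv.subtypeEquivRight fun y => ⟨fun h => S.conj _ _ S.ht h, fun h => ?_⟩)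
  obtain ⟨x, rfl⟩ := isConj_iff.mp h
  rw [← MulAut.conj_apply, MulEquiv.orderOf_eq, S.ht]

include S in
theorem card_involutions_odd : ¬ 2 ∣ Nat.card {y : G // orderOf y = 2} := by
  haveI := Fact.mk Nat.prime_two
  obtain ⟨P⟩ := (inferInstance : Nonempty (Sylow 2 G))
  have h2 : 2 ∣ Nat.card G := S.ht ▸ orderOf_dvd_natCard S.t
  haveI : Nontrivial P := (Subgroup.nontrivial_iff_ne_bot _).mpr (P.ne_bot_of_dvd_card h2)
  haveI := P.isPGroup'.center_nontrivial
  obtain ⟨z, hz1⟩ := exists_ne (1 : Subgroup.center P)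
  obtain ⟨e, he⟩ := IsPGroup.iff_orderOf.mp P.isPGroup' (z : P)
  have hzo : 2 ∣ orderOf ((z : P) : G) := by
    rw [Subgroup.orderOf_coe, he]
    refine dvd_pow_self 2 fun h0 => hz1 ?_
    rw [h0, pow_zero, orderOf_eq_one_iff] at he
    exact Subtype.ext he
  set c : G := ((z : P) : G) with hc
  have hi : orderOf (c ^ (orderOf c / 2)) = 2 := orderOf_pow_orderOf_div (orderOf_pos c).ne' hzo
  set i := c ^ (orderOf c / 2) with hidef
  have hle : (P : Subgroup G) ≤ centralizer ({i} : Set G) := by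
    intro g hg
    rw [mem_centralizer_singleton]
    exact (Commute.pow_right (congrArg Subtype.val (Subgroup.mem_center_iff.mp z.2 ⟨g, hg⟩)) _).eq
  intro hn
  obtain ⟨x, hx⟩ := S.exists_conj_t hi
  have hcard : Nat.card (centralizer ({i} : Set G)) = 2 * Nat.card S.K := by
    have h1 := Involution.card_isConj_mul_card_centralizer i
    have h2 : Nat.card {y : G // IsConj i y} = Nat.card {y : G // orderOf y = 2} :=
      Nat.card_congr (Equiv.subtypeEquivRight fun y => ⟨fun h => by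
        obtain ⟨w, rfl⟩ := isConj_iff.mp h
        rw [← MulAut.conj_apply, MulEquiv.orderOf_eq, hi], fun h => S.conj _ _ hi h⟩)
    rw [h2, ← S.card_involutions_mul] at h1
    refine Nat.eq_of_mul_eq_mul_left ?_ h1
    haveI : Nonempty {y : G // orderOf y = 2} := ⟨⟨i, hi⟩⟩
    exact Nat.card_pos
  have hidx : (centralizer ({i} : Set G)).index = Nat.card {y : G // orderOf y = 2} := by
    have h1 := (centralizer ({i} : Set G)).card_mul_index
    rw [hcard, ← S.card_involutions_mul, mul_comm (Nat.card {y : G // orderOf y = 2})] at h1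
    exact Nat.eq_of_mul_eq_mul_left (Nat.mul_pos two_pos Nat.card_pos) h1
  exact P.not_dvd_index (hn.trans (hidx ▸ Subgroup.index_dvd_of_le hle))

/-- Ordered pairs of involutions with product a nontrivial element of `K`. -/
theorem card_pairs_K {x : G} (hx : x ∈ S.K) (hx1 : x ≠ 1) :
    Nat.card {p : G × G // orderOf p.1 = 2 ∧ orderOf p.2 = 2 ∧ p.1 * p.2 = x} = Nat.card S.K := by
  rw [card_pairs_eq]
  refine Nat.card_congr (Equiv.trans ?_ ((Equiv.mulRight S.s).subtypeEquiv
    (p := fun i : G => i * S.s ∈ S.K) (q := fun y : G => y ∈ S.K) fun _ => Iff.rfl))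
  refine Equiv.subtypeEquivRight fun i => ⟨fun ⟨hi, hix⟩ => ?_, fun h => ?_⟩
  · have hinv : i * x * i⁻¹ = x⁻¹ := by
      have h1 := mul_self_of_orderOf hix
      have h2 : i⁻¹ = i := inv_eq_of_mul_eq_one_right (mul_self_of_orderOf hi)
      rw [h2]
      refine eq_inv_of_mul_eq_one_left ?_
      rwa [mul_assoc (i * x)]
    have hH := S.mem_H_of_conj_mem hx hx1 (hinv ▸ inv_mem hx)
    by_cases hK : i ∈ S.K
    · exfalso
      have h3 := (S.eq_t_of_sq hK (mul_self_of_orderOf hi)).resolve_left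
        fun h => by simp [h] at hi
      have h4 := (S.eq_t_of_sq (mul_mem hK hx) (mul_self_of_orderOf hix)).resolve_left
        fun h => by simp [h] at hix
      rw [h3, mul_eq_left] at h4
      exact hx1 h4
    · exact (S.mem_H_cases hH).resolve_left hK
  · have hH : i ∈ centralizer ({S.t} : Set G) := by
      have := mul_mem (S.le h) S.sH
      rwa [mul_assoc, S.s_mul_self, mul_one] at this
    have hK : i ∉ S.K := fun hi => S.sK ((mul_mem_cancel_left hi).mp h)
    exact ⟨S.reflection hH hK, S.reflection (mul_mem hH (S.le hx))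
      fun h' => hK ((mul_mem_cancel_right hx).mp h')⟩

/-- An involution inverting an element outside the conjugates of `K` inverts its centralizer. -/
theorem inverts_centralizer {g i : G} (hg : ¬ S.InConjK g) (hi : orderOf i = 2)
    (hig : i * g * i⁻¹ = g⁻¹) {c : G} (hc : c * g = g * c) : i * c * i⁻¹ = c⁻¹ := by
  classical
  have hii : i * i = 1 := mul_self_of_orderOf hi
  have hi' : i⁻¹ = i := inv_eq_of_mul_eq_one_right hii
  set C := centralizer ({g} : Set G) with hC
  have hstab : ∀ a ∈ C, i * a * i⁻¹ ∈ C := by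
    intro a ha
    rw [hC, mem_centralizer_singleton] at ha ⊢
    have h1 : (i * a * i⁻¹) * g⁻¹ = g⁻¹ * (i * a * i⁻¹) := by
      rw [← hig]
      calc i * a * i⁻¹ * (i * g * i⁻¹) = i * (a * g) * i⁻¹ := by group
        _ = i * (g * a) * i⁻¹ := by rw [ha]
        _ = _ := by group
    exact (Commute.inv_right_iff.mp h1).eq
  have hfix : ∀ a ∈ C, i * a * i⁻¹ = a → a = 1 := by
    intro a ha hai
    rw [hC, mem_centralizer_singleton] at ha
    by_contra ha1
    have hcomm : a * i = i * a := by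
      calc a * i = i * a * i⁻¹ * i := by rw [hai]
        _ = _ := by group
    obtain ⟨x, hx⟩ := S.inConjK_of_commute_involution hi hcomm
    have hne1 : x * a * x⁻¹ ≠ 1 := fun h => ha1 (conj_eq_one_iff.mp h)
    have hnet : x * a * x⁻¹ ≠ S.t := fun h => by
      have ho : orderOf a = 2 := by
        rw [← MulEquiv.orderOf_eq (MulAut.conj x) a, MulAut.conj_apply, h, S.ht]
      exact hg (S.inConjK_of_commute_involution ho ha.symm)
    refine hg ⟨x, ?_⟩
    rw [← S.centralizer_eq hx hne1 hnet, mem_centralizer_singleton]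
    calc x * g * x⁻¹ * (x * a * x⁻¹) = x * (g * a) * x⁻¹ := by group
      _ = x * (a * g) * x⁻¹ := by rw [ha]
      _ = _ := by group
  let f : C → C := fun a => ⟨(a : G)⁻¹ * (i * a * i⁻¹), mul_mem (inv_mem a.2) (hstab a a.2)⟩
  have hinj : Function.Injective f := by
    intro a b hab
    have h1 : (a : G)⁻¹ * (i * a * i⁻¹) = (b : G)⁻¹ * (i * b * i⁻¹) := congrArg Subtype.val hab
    have h2 : i * ((b : G) * (a : G)⁻¹) * i⁻¹ = (b : G) * (a : G)⁻¹ := by
      calc i * ((b : G) * (a : G)⁻¹) * i⁻¹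
          = (b : G) * ((b : G)⁻¹ * (i * b * i⁻¹)) * (i * a * i⁻¹)⁻¹ := by group
        _ = (b : G) * ((a : G)⁻¹ * (i * a * i⁻¹)) * (i * a * i⁻¹)⁻¹ := by rw [h1]
        _ = _ := by group
    exact Subtype.ext (mul_inv_eq_one.mp (hfix _ (mul_mem b.2 (inv_mem a.2)) h2)).symm
  obtain ⟨a, ha⟩ := Finite.injective_iff_surjective.mp hinj
    ⟨c, mem_centralizer_singleton.mpr hc⟩
  have h3 : c = (a : G)⁻¹ * (i * a * i⁻¹) := (congrArg Subtype.val ha).symm
  rw [h3, hi']
  calc i * ((a : G)⁻¹ * (i * a * i)) * i = i * (a : G)⁻¹ * i * a * (i * i) := by group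
    _ = i * (a : G)⁻¹ * i * a := by rw [hii, mul_one]
    _ = _ := by
      rw [mul_inv_rev, mul_inv_rev, mul_inv_rev, inv_inv, hi']
      group

theorem centralizer_comm {g i : G} (hg : ¬ S.InConjK g) (hi : orderOf i = 2)
    (hig : i * g * i⁻¹ = g⁻¹) {a b : G} (ha : a * g = g * a) (hb : b * g = g * b) :
    a * b = b * a := by
  have h1 := S.inverts_centralizer hg hi hig (c := a * b)
    (Commute.mul_left (show Commute a g from ha) hb).eq
  rw [show i * (a * b) * i⁻¹ = (i * a * i⁻¹) * (i * b * i⁻¹) by group,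
    S.inverts_centralizer hg hi hig ha, S.inverts_centralizer hg hi hig hb, ← mul_inv_rev] at h1
  exact (inv_injective h1).symm

theorem card_pairs_eq_centralizer {g i : G} (hg : ¬ S.InConjK g) (hi : orderOf i = 2)
    (hig : i * g * i⁻¹ = g⁻¹) :
    Nat.card {p : G × G // orderOf p.1 = 2 ∧ orderOf p.2 = 2 ∧ p.1 * p.2 = g} =
      Nat.card (centralizer ({g} : Set G)) := by
  rw [card_pairs_eq_inverting (by rw [pow_two]; exact S.sq_ne_one hg),
    ← card_inverting_eq_centralizer hig]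
  refine Nat.card_congr (Equiv.subtypeEquivRight fun j => ⟨fun h => h.2, fun hj => ⟨?_, hj⟩⟩)
  have hc : (i * j) * g = g * (i * j) := by
    have hjg : j * g = g⁻¹ * j := by rw [← hj]; group
    have hig' : i * g⁻¹ = g * i := by
      have h1 : i * g = g⁻¹ * i := by rw [← hig]; group
      calc i * g⁻¹ = g * (g⁻¹ * i) * g⁻¹ := by group
        _ = g * (i * g) * g⁻¹ := by rw [h1]
        _ = _ := by group
    rw [mul_assoc, hjg, ← mul_assoc, hig', mul_assoc]
  have h2 := S.inverts_centralizer hg hi hig hc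
  have hii : i * i = 1 := mul_self_of_orderOf hi
  rw [inv_eq_of_mul_eq_one_right hii, ← mul_assoc, hii, one_mul, mul_inv_rev,
    inv_eq_of_mul_eq_one_right hii] at h2
  refine orderOf_eq_prime ?_ fun h1 => ?_
  · have h3 : j = j⁻¹ := mul_right_cancel h2
    rw [pow_two]
    exact eq_inv_iff_mul_eq_one.mp h3
  · rw [h1, one_mul, inv_one, mul_one] at hj
    exact S.sq_ne_one hg (eq_inv_iff_mul_eq_one.mp hj)

/-- A real element outside the conjugates of `K` is inverted by an involution. -/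
theorem exists_involution_inverting {g x : G} (hg : ¬ S.InConjK g) (hx : x * g * x⁻¹ = g⁻¹) :
    ∃ i : G, orderOf i = 2 ∧ i * g * i⁻¹ = g⁻¹ := by
  obtain ⟨a, o, ho, hao⟩ := Nat.exists_eq_two_pow_mul_odd (orderOf_pos x).ne'
  have hx2 : Commute (x * x) g := by
    have h1 : x * g⁻¹ * x⁻¹ = g := by
      rw [show x * g⁻¹ * x⁻¹ = (x * g * x⁻¹)⁻¹ by group, hx, inv_inv]
    show x * x * g = g * (x * x)
    calc x * x * g = x * (x * g * x⁻¹) * x := by group
      _ = x * g⁻¹ * x⁻¹ * (x * x) := by rw [hx]; group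
      _ = g * (x * x) := by rw [h1]
  obtain ⟨j, rfl⟩ := ho
  have hy : x ^ (2 * j + 1) * g * (x ^ (2 * j + 1))⁻¹ = g⁻¹ := by
    rw [pow_succ', pow_mul, mul_inv_rev, pow_two]
    have := (hx2.pow_left j).eq
    calc x * (x * x) ^ j * g * (((x * x) ^ j)⁻¹ * x⁻¹)
        = x * ((x * x) ^ j * g) * ((x * x) ^ j)⁻¹ * x⁻¹ := by group
      _ = x * (g * (x * x) ^ j) * ((x * x) ^ j)⁻¹ * x⁻¹ := by rw [this]
      _ = _ := by rw [← hx]; group
  refine ⟨_, orderOf_eq_prime ?_ fun h1 => ?_, hy⟩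
  · by_contra hne
    refine hg (S.inConjK_of_commute_even (c := (x ^ (2 * j + 1)) ^ 2) ?_ ?_)
    · have hd : orderOf ((x ^ (2 * j + 1)) ^ 2) ∣ 2 ^ a := by
        refine orderOf_dvd_of_pow_eq_one ?_
        rw [← pow_mul, ← pow_mul,
          show (2 * j + 1) * (2 * 2 ^ a) = 2 ^ a * (2 * j + 1) * 2 by ring, ← hao, pow_mul,
          pow_orderOf_eq_one, one_pow]
      obtain ⟨e, -, he⟩ := (Nat.dvd_prime_pow Nat.prime_two).mp hd
      rw [he]
      refine dvd_pow_self 2 fun h0 => hne ?_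
      rwa [h0, pow_zero, orderOf_eq_one_iff] at he
    · rw [← pow_mul, mul_comm, pow_mul, pow_two]
      exact (hx2.pow_left _).eq.symm
  · rw [h1, one_mul, inv_one, mul_one] at hy
    exact S.sq_ne_one hg (eq_inv_iff_mul_eq_one.mp hy)

end Setup

end Cfsg.Agent.BSW7
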