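import Mathlib
import Cfsg.Agent.Lib.CharCore.Linear
import Cfsg.Agent.Lib.CharCore.Virtual

/-!
# Linear characters of a finite abelian group
-/

set_option autoImplicit false

open scoped ComplexConjugate

namespace Cfsg.Agent.BSW7

universe u

variable (A : Type u) [CommGroup A] [Finite A]

instance dual_enoughRoots :
    HasEnoughRootsOfUnity ℂ (Monoid.exponent A) :=
  haveI : NeZero ((Monoid.exponent A : ℕ) : ℂ) :=
    ⟨by exact_mod_cast Monoid.exponent_ne_zero_of_finite⟩
  inferInstance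

instance dual_finite : Finite (A →* ℂˣ) :=
  Nat.finite_of_card_ne_zero (by
    rw [CommGroup.card_monoidHom_of_hasEnoughRootsOfUnity A ℂ]; exact Nat.card_pos.ne')

noncomputable instance dual_fintype : Fintype (A →* ℂˣ) := Fintype.ofFinite _

variable {A}

theorem card_dual : Fintype.card (A →* ℂˣ) = Nat.card A := by
  rw [← Nat.card_eq_fintype_card, CommGroup.card_monoidHom_of_hasEnoughRootsOfUnity A ℂ]

theorem sum_dual_eq_zero {x : A} (hx : x ≠ 1) : ∑ l : A →* ℂˣ, (l x : ℂ) = 0 := by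
  obtain ⟨m, hm⟩ := CommGroup.exists_apply_ne_one_of_hasEnoughRootsOfUnity A ℂ hx
  refine eq_zero_of_mul_eq_self_left (b := (m x : ℂ)) ?_ ?_
  · exact fun h => hm (Units.ext h)
  · rw [Finset.mul_sum]
    exact Fintype.sum_equiv (Equiv.mulLeft m) _ _ fun l => by simp

variable [Fintype A]

theorem classInner_dual [DecidableEq (A →* ℂˣ)] (l m : A →* ℂˣ) :
    Cfsg.classInner (fun x => (l x : ℂ)) (fun x => (m x : ℂ)) = if l = m then 1 else 0 := by
  classical
  have h := CharCore.classInner_irr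
    (⟨_, CharCore.isIrrCharacter_hom l⟩ : Cfsg.IrrCharacter A) ⟨_, CharCore.isIrrCharacter_hom m⟩
  rw [h]
  refine if_congr ⟨fun h' => MonoidHom.ext fun x => Units.ext (congrFun (congrArg Subtype.val h') x),
    fun h' => by subst h'; rfl⟩ rfl rfl

/-- Fourier inversion. -/
theorem fourier (f : A → ℂ) (x : A) :
    f x = ∑ l : A →* ℂˣ, Cfsg.classInner f (fun y => (l y : ℂ)) * (l x : ℂ) := by
  classical
  have hconj : ∀ (l : A →* ℂˣ) (y : A), conj ((l y : ℂ)) = (l y⁻¹ : ℂ) := fun l y =>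
    (CharCore.irr_apply_inv (⟨_, CharCore.isIrrCharacter_hom l⟩ : Cfsg.IrrCharacter A) y).symm
  simp only [Cfsg.classInner, hconj, Finset.sum_mul, mul_assoc, ← Units.val_mul, ← map_mul]
  simp only [Finset.mul_sum]
  rw [Finset.sum_comm, Finset.sum_eq_single x]
  · simp only [inv_mul_cancel, map_one, Units.val_one, mul_one]
    rw [Finset.sum_const, Finset.card_univ, card_dual, nsmul_eq_mul, ← mul_assoc,
      mul_inv_cancel₀ (Nat.cast_ne_zero.mpr Nat.card_pos.ne'), one_mul]
  · intro y _ hy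
    rw [← Finset.mul_sum, ← Finset.mul_sum, sum_dual_eq_zero, mul_zero, mul_zero]
    exact fun h => hy (inv_mul_eq_one.mp h)
  · simp

omit [Fintype A] in
/-- If `A` has exactly one involution, so has its dual. -/
theorem exists_unique_dual_involution {t : A} (ht : t ≠ 1) (ht2 : t * t = 1)
    (huniq : ∀ x : A, x * x = 1 → x = 1 ∨ x = t) :
    ∃ m : A →* ℂˣ, m ≠ 1 ∧ m * m = 1 ∧ ∀ l : A →* ℂˣ, l * l = 1 → l = 1 ∨ l = m := by
  obtain ⟨e⟩ := CommGroup.monoidHom_mulEquiv_of_hasEnoughRootsOfUnity A ℂ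
  refine ⟨e.symm t, fun h => ht ?_, ?_, fun l hl => ?_⟩
  · simpa using congrArg e h
  · rw [← map_mul, ht2, map_one]
  · rcases huniq (e l) (by rw [← map_mul, hl, map_one]) with h | h
    · exact Or.inl (e.injective (by rw [h, map_one]))
    · exact Or.inr (by rw [← h, MulEquiv.symm_apply_apply])

end Cfsg.Agent.BSW7
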