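import Cfsg.Agent.BSW7.Basic
import Cfsg.Agent.BSW7.Dual
import Cfsg.Agent.Lib.CharInd.Char
import Cfsg.Agent.InvChar68.CharTools

/-!
# Abstract Brauer–Suzuki–Wall: the induced class functions and their coefficients
-/

set_option autoImplicit false
set_option linter.unusedSectionVars false

open scoped ComplexConjugate

namespace Cfsg.Agent.BSW7.Setup

open Subgroup

variable {G : Type*} [Group G] [Fintype G] (S : Setup G)

noncomputable instance instCommGroupK : CommGroup S.K :=
  { S.K.toGroup with mul_comm := fun a b => Subtype.ext (S.comm a a.2 b b.2) }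

noncomputable instance instFintypeK : Fintype S.K := Fintype.ofFinite _

/-- The linear characters of `K`. -/
abbrev Dual := S.K →* ℂˣ

/-- The function `1 - l` on `K`. -/
noncomputable def fn (l : S.Dual) : S.K → ℂ := fun x => 1 - (l x : ℂ)

/-- The class function of `G` induced from `1 - l`. -/
noncomputable def A (l : S.Dual) : G → ℂ := Cfsg.indFun S.K (S.fn l)

theorem fn_eq (l : S.Dual) : S.fn l = (1 : S.K → ℂ) - fun x => (l x : ℂ) := rfl

theorem A_generalized (l : S.Dual) : Cfsg.IsGeneralizedCharacter G (S.A l) := by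
  refine CharInd.isGeneralizedCharacter_indFun _ ?_
  rw [fn_eq]
  exact ⟨_, _, CharCore.isCharacter_one,
    CharCore.IsIrrCharacter.isCharacter (CharCore.isIrrCharacter_hom l), rfl⟩

theorem A_classFun (l : S.Dual) : Cfsg.IsClassFunction G (S.A l) :=
  CharInd.isClassFunction_indFun _ _

theorem A_other (l : S.Dual) {g : G} (hg : ¬ S.InConjK g) : S.A l g = 0 := by
  rw [A, CharInd.indFun_apply]
  rw [Finset.sum_eq_zero, mul_zero]
  intro x _
  exact CharInd.extendByZero_notMem _ fun h => hg ⟨x⁻¹, by simpa using h⟩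

theorem A_one (l : S.Dual) : S.A l 1 = 0 := by
  rw [A, CharInd.indFun_apply]
  rw [Finset.sum_eq_zero, mul_zero]
  intro x _
  rw [show x⁻¹ * 1 * x = ((1 : S.K) : G) by simp, CharInd.extendByZero_coe]
  simp [fn]

theorem A_K (l : S.Dual) (x : S.K) :
    S.A l (x : G) = 2 - (l x : ℂ) - (l x⁻¹ : ℂ) := by
  classical
  by_cases hx : x = 1
  · subst hx
    rw [OneMemClass.coe_one, A_one, inv_one, map_one, Units.val_one]
    norm_num
  have hx' : (x : G) ≠ 1 := fun h => hx (Subtype.ext h)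
  have key : ∀ g : G, Cfsg.extendByZero S.K (S.fn l) (g⁻¹ * (x : G) * g) =
      (if g ∈ S.K then S.fn l x else 0) +
        (if g ∈ centralizer ({S.t} : Set G) ∧ g ∉ S.K then S.fn l x⁻¹ else 0) := by
    intro g
    by_cases hK : g ∈ S.K
    · rw [if_pos hK, if_neg (fun h => h.2 hK), add_zero]
      have h1 := S.conj_K_of_mem (inv_mem hK) x.2
      rw [inv_inv] at h1
      rw [h1, CharInd.extendByZero_coe]
    rw [if_neg hK, zero_add]
    by_cases hH : g ∈ centralizer ({S.t} : Set G)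
    · rw [if_pos ⟨hH, hK⟩]
      have h1 := S.conj_inv_of_notMem (inv_mem hH) (fun h => hK (inv_mem_iff.mp h)) x.2
      rw [inv_inv] at h1
      rw [h1, show ((x : G))⁻¹ = ((x⁻¹ : S.K) : G) from rfl, CharInd.extendByZero_coe]
    · rw [if_neg (fun h => hH h.1)]
      refine CharInd.extendByZero_notMem _ fun h => hH ?_
      have := S.mem_H_of_conj_mem (g := g⁻¹) x.2 hx' (by simpa using h)
      exact inv_mem_iff.mp this
  rw [A, CharInd.indFun_apply]
  simp only [key, Finset.sum_add_distrib, ← Finset.sum_filter, Finset.sum_const, nsmul_eq_mul]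
  have hc1 : (Finset.univ.filter (fun g => g ∈ S.K)).card = Nat.card S.K := by
    rw [Nat.card_eq_fintype_card, Fintype.card_subtype]
  have hc2 : (Finset.univ.filter
      (fun g => g ∈ centralizer ({S.t} : Set G) ∧ g ∉ S.K)).card = Nat.card S.K := by
    have h2 := S.card_H
    rw [Nat.card_eq_fintype_card (α := centralizer ({S.t} : Set G)), Fintype.card_subtype,
      ← Finset.card_filter_add_card_filter_not (p := fun g => g ∈ S.K),
      Finset.filter_filter, Finset.filter_filter] at h2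
    have h3 : Finset.univ.filter (fun g => g ∈ centralizer ({S.t} : Set G) ∧ g ∈ S.K) =
        Finset.univ.filter (fun g => g ∈ S.K) :=
      Finset.filter_congr fun g _ => ⟨fun h => h.2, fun h => ⟨S.le h, h⟩⟩
    rw [h3, hc1] at h2
    omega
  rw [hc1, hc2, ← mul_add, inv_mul_cancel_left₀ (Nat.cast_ne_zero.mpr Nat.card_pos.ne')]
  simp only [fn]
  ring

open scoped Classical in
theorem inner_A (l m : S.Dual) (hl : l ≠ 1) (hm : m ≠ 1) :
    Cfsg.classInner (S.A l) (S.A m) =
      2 + (if l = m then 1 else 0) + (if l = m⁻¹ then 1 else 0) := by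
  rw [show S.A l = Cfsg.indFun S.K (S.fn l) from rfl,
    CharInd.classInner_indFun_left _ _ (S.A_classFun m), fn_eq]
  have hm' : m⁻¹ ≠ 1 := fun h => hm (MonoidHom.ext fun x =>
    inv_eq_one.mp (DFunLike.congr_fun h x))
  have h1 : (fun x : S.K => S.A m (x : G)) = (fun x : S.K => ((1 : S.Dual) x : ℂ)) +
      (fun x : S.K => ((1 : S.Dual) x : ℂ)) - (fun x : S.K => (m x : ℂ)) -
      (fun x : S.K => (m⁻¹ x : ℂ)) := by
    funext x
    simp only [Pi.sub_apply, Pi.add_apply, MonoidHom.one_apply, Units.val_one, S.A_K,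
      MonoidHom.inv_apply, map_inv]
    norm_num
  have h0 : (1 : S.K → ℂ) = fun x : S.K => ((1 : S.Dual) x : ℂ) := by
    funext x; simp
  rw [h1, h0]
  simp only [CharCore.classInner_sub_left, CharCore.classInner_sub_right,
    CharCore.classInner_add_right, classInner_dual, if_true, if_neg hl, if_neg hm.symm,
    if_neg hm'.symm]
  ring

/-- The multiplicity of `χ` in `A l`. -/
noncomputable def a (χ : Cfsg.IrrCharacter G) (l : S.Dual) : ℤ :=
  (CharCore.IsGeneralizedCharacter.exists_classInner_irr_eq_intCast (S.A_generalized l) χ).choose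

theorem a_spec (χ : Cfsg.IrrCharacter G) (l : S.Dual) :
    Cfsg.classInner (S.A l) (χ : G → ℂ) = (S.a χ l : ℂ) :=
  (CharCore.IsGeneralizedCharacter.exists_classInner_irr_eq_intCast
    (S.A_generalized l) χ).choose_spec

/-- The trivial character of `G`. -/
noncomputable def triv : Cfsg.IrrCharacter G := ⟨1, CharCore.isIrrCharacter_one⟩

theorem A_eq_sum (l : S.Dual) (g : G) :
    S.A l g = ∑ χ : Cfsg.IrrCharacter G, (S.a χ l : ℂ) * (χ : G → ℂ) g := by
  conv_lhs => rw [CharCore.eq_sum_classInner (S.A_classFun l)]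
  simp [a_spec]

theorem sum_a_degree (l : S.Dual) :
    ∑ χ : Cfsg.IrrCharacter G, (S.a χ l : ℂ) * (χ : G → ℂ) 1 = 0 := by
  rw [← A_eq_sum, A_one]

theorem sum_a_other (l : S.Dual) {g : G} (hg : ¬ S.InConjK g) :
    ∑ χ : Cfsg.IrrCharacter G, (S.a χ l : ℂ) * (χ : G → ℂ) g = 0 := by
  rw [← A_eq_sum, A_other S l hg]

open scoped Classical in
theorem sum_a_mul (l m : S.Dual) (hl : l ≠ 1) (hm : m ≠ 1) :
    ∑ χ : Cfsg.IrrCharacter G, S.a χ l * S.a χ m =
      2 + (if l = m then 1 else 0) + (if l = m⁻¹ then 1 else 0) := by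
  have h := CharCore.classInner_eq_sum (S.A_classFun l) (S.A_classFun m)
  rw [S.inner_A l m hl hm] at h
  simp only [a_spec, map_intCast] at h
  have h2 : (((∑ χ : Cfsg.IrrCharacter G, S.a χ l * S.a χ m : ℤ)) : ℂ) =
      (((2 + (if l = m then 1 else 0) + (if l = m⁻¹ then 1 else 0) : ℤ)) : ℂ) := by
    push_cast
    exact h.symm
  exact_mod_cast h2

/-- Fourier coefficients of the restriction to `K`. -/
theorem exists_coeff (χ : Cfsg.IrrCharacter G) :
    ∃ c : S.Dual → ℤ, (∀ x : S.K, (χ : G → ℂ) x = ∑ l, (c l : ℂ) * (l x : ℂ)) ∧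
      ∀ l, S.a χ l = c 1 - c l := by
  classical
  have hres := CharCore.isCharacter_restrict (CharCore.irr_isCharacter χ) S.K
  have hn : ∀ l : S.Dual, ∃ n : ℕ,
      Cfsg.classInner (fun x : S.K => (χ : G → ℂ) x) (fun x => (l x : ℂ)) = n := fun l =>
    CharCore.IsCharacter.exists_classInner_eq_natCast hres
      (CharCore.IsIrrCharacter.isCharacter (CharCore.isIrrCharacter_hom l))
  choose c hc using hn
  refine ⟨fun l => (c l : ℤ), fun x => ?_, fun l => ?_⟩
  · rw [fourier (fun x : S.K => (χ : G → ℂ) x) x]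
    simp [hc]
  · have h := S.a_spec χ l
    rw [show S.A l = Cfsg.indFun S.K (S.fn l) from rfl,
      CharInd.classInner_indFun_left _ _ (CharCore.irr_isClassFunction χ), fn_eq,
      CharCore.classInner_sub_left, ← CharCore.conj_classInner (fun x : S.K => (χ : G → ℂ) x),
      ← CharCore.conj_classInner (fun x : S.K => (χ : G → ℂ) x) (fun x => (l x : ℂ))] at h
    have h0 : (1 : S.K → ℂ) = fun x : S.K => ((1 : S.Dual) x : ℂ) := by funext x; simp
    rw [h0, hc, hc, map_natCast, map_natCast] at h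
    refine Int.cast_injective (α := ℂ) ?_
    push_cast
    exact h.symm

theorem a_one (χ : Cfsg.IrrCharacter G) : S.a χ 1 = 0 := by
  obtain ⟨c, -, hc⟩ := S.exists_coeff χ
  rw [hc, sub_self]

theorem a_triv {l : S.Dual} (hl : l ≠ 1) : S.a triv l = 1 := by
  classical
  have h := S.a_spec triv l
  rw [show S.A l = Cfsg.indFun S.K (S.fn l) from rfl,
    CharInd.classInner_indFun_left _ _ (CharCore.irr_isClassFunction _), fn_eq] at h
  have h0 : (fun x : S.K => ((triv : Cfsg.IrrCharacter G) : G → ℂ) x) =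
      fun x : S.K => ((1 : S.Dual) x : ℂ) := by funext x; simp [triv]
  rw [h0, show (1 : S.K → ℂ) = fun x : S.K => ((1 : S.Dual) x : ℂ) by funext x; simp,
    CharCore.classInner_sub_left, classInner_dual, classInner_dual, if_pos rfl, if_neg hl,
    sub_zero] at h
  exact_mod_cast h.symm

theorem apply_K (χ : Cfsg.IrrCharacter G) {x : S.K} (hx : x ≠ 1) :
    (χ : G → ℂ) x = - ∑ l : S.Dual, (S.a χ l : ℂ) * (l x : ℂ) := by
  obtain ⟨c, hc, ha⟩ := S.exists_coeff χ
  simp only [ha, Int.cast_sub, sub_mul, Finset.sum_sub_distrib, ← Finset.mul_sum,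
    sum_dual_eq_zero hx, mul_zero, zero_sub, neg_neg]
  exact hc x

theorem degree_congr (χ : Cfsg.IrrCharacter G) {d : ℤ} (hd : (χ : G → ℂ) 1 = d) :
    (Nat.card S.K : ℤ) ∣ d + ∑ l : S.Dual, S.a χ l := by
  obtain ⟨c, hc, ha⟩ := S.exists_coeff χ
  refine ⟨c 1, ?_⟩
  have h1 := hc 1
  simp only [OneMemClass.coe_one, hd, map_one, Units.val_one, mul_one] at h1
  have h2 : d = ∑ l, c l := by exact_mod_cast h1
  simp only [ha, Finset.sum_sub_distrib, Finset.sum_const, Finset.card_univ, card_dual,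
    nsmul_eq_mul, h2]
  ring

/-- The class sum coefficient at `g`, in terms of the coefficients `a`. -/
theorem card_pairs_char (g : G) :
    (Nat.card {p : G × G // orderOf p.1 = 2 ∧ orderOf p.2 = 2 ∧ p.1 * p.2 = g} : ℂ) *
        Nat.card G =
      (Nat.card {y : G // orderOf y = 2} : ℂ) ^ 2 *
        ∑ χ : Cfsg.IrrCharacter G,
          (χ : G → ℂ) S.t ^ 2 * conj ((χ : G → ℂ) g) / (χ : G → ℂ) 1 := by
  have hiff : ∀ y : G, IsConj S.t y ↔ orderOf y = 2 := fun y => ⟨fun h => by
    obtain ⟨w, rfl⟩ := isConj_iff.mp h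
    rw [← MulAut.conj_apply, MulEquiv.orderOf_eq, S.ht], fun h => S.conj _ _ S.ht h⟩
  have h := InvChar68.card_pairs_mul_card S.t g
  simp only [hiff] at h
  exact h

/-- The involution equation paired with `A l`. -/
theorem equation (l : S.Dual) (hl : l ≠ 1) :
    (Nat.card {y : G // orderOf y = 2} : ℂ) *
        ∑ χ : Cfsg.IrrCharacter G, (χ : G → ℂ) S.t ^ 2 * (S.a χ l : ℂ) / (χ : G → ℂ) 1 =
      2 * (Nat.card S.K : ℂ) ^ 2 := by
  classical
  set n := Nat.card {y : G // orderOf y = 2}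
  set k := Nat.card S.K with hk
  have hk0 : (k : ℂ) ≠ 0 := Nat.cast_ne_zero.mpr Nat.card_pos.ne'
  have hn0 : (n : ℂ) ≠ 0 := Nat.cast_ne_zero.mpr fun h => S.card_involutions_odd (show 2 ∣ n from h ▸ dvd_zero 2)
  have hsum : ∑ x : S.K, (1 - (l x : ℂ)) *
      ((Nat.card {p : G × G // orderOf p.1 = 2 ∧ orderOf p.2 = 2 ∧ p.1 * p.2 = (x : G)} : ℂ) *
        Nat.card G) = (k : ℂ) * k * Nat.card G := by
    have h1 : ∀ x : S.K, (1 - (l x : ℂ)) *
      ((Nat.card {p : G × G // orderOf p.1 = 2 ∧ orderOf p.2 = 2 ∧ p.1 * p.2 = (x : G)} : ℂ) *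
        Nat.card G) = (1 - (l x : ℂ)) * (k * Nat.card G) := by
      intro x
      by_cases hx : x = 1
      · simp [hx]
      · rw [S.card_pairs_K x.2 fun h => hx (Subtype.ext h)]
    simp only [h1, ← Finset.sum_mul, Finset.sum_sub_distrib, Finset.sum_const, Finset.card_univ,
      nsmul_eq_mul, mul_one, ← Nat.card_eq_fintype_card]
    have h0 : ∑ x : S.K, (l x : ℂ) = 0 := by
      have := classInner_dual l (1 : S.Dual)
      rw [if_neg hl] at this
      simpa [Cfsg.classInner] using this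
    rw [h0, sub_zero, mul_assoc]
  simp only [S.card_pairs_char] at hsum
  have hfour : ∀ χ : Cfsg.IrrCharacter G,
      ∑ x : S.K, (1 - (l x : ℂ)) * conj ((χ : G → ℂ) x) = k * (S.a χ l : ℂ) := by
    intro χ
    have h := S.a_spec χ l
    rw [show S.A l = Cfsg.indFun S.K (S.fn l) from rfl,
      CharInd.classInner_indFun_left _ _ (CharCore.irr_isClassFunction χ)] at h
    rw [← h, Cfsg.classInner, ← mul_assoc, mul_inv_cancel₀ hk0, one_mul]
    rfl
  have hswap : ∑ x : S.K, (1 - (l x : ℂ)) * ((n : ℂ) ^ 2 * ∑ χ : Cfsg.IrrCharacter G,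
      (χ : G → ℂ) S.t ^ 2 * conj ((χ : G → ℂ) x) / (χ : G → ℂ) 1) =
      (n : ℂ) ^ 2 * k *
        ∑ χ : Cfsg.IrrCharacter G, (χ : G → ℂ) S.t ^ 2 * (S.a χ l : ℂ) / (χ : G → ℂ) 1 := by
    simp only [Finset.mul_sum]
    rw [Finset.sum_comm]
    refine Finset.sum_congr rfl fun χ _ => ?_
    rw [show (n : ℂ) ^ 2 * k * ((χ : G → ℂ) S.t ^ 2 * (S.a χ l : ℂ) / (χ : G → ℂ) 1) =
      (n : ℂ) ^ 2 * (χ : G → ℂ) S.t ^ 2 / (χ : G → ℂ) 1 * (k * (S.a χ l : ℂ)) by ring,
      ← hfour χ, Finset.mul_sum]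
    exact Finset.sum_congr rfl fun x _ => by ring
  rw [hswap] at hsum
  have hG : (Nat.card G : ℂ) = n * (2 * k) := by exact_mod_cast S.card_involutions_mul.symm
  refine mul_left_cancel₀ (mul_ne_zero hn0 hk0) ?_
  linear_combination hsum + (k : ℂ) * k * hG

end Cfsg.Agent.BSW7.Setup
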