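import Cfsg.Agent.BSW7.Data
import Cfsg.Agent.Lib.Transfer.Hall

/-!
# Abstract Brauer–Suzuki–Wall: element types and counting
-/

set_option autoImplicit false
set_option linter.unusedSectionVars false

open scoped ComplexConjugate

namespace Cfsg.Agent.BSW7

open Subgroup

section General

variable {G : Type*} [Group G] [Finite G]

theorem ti_normalizer {A : Subgroup G} (hA : ∀ a ∈ A, a ≠ 1 → centralizer ({a} : Set G) = A)
    {x a : G} (ha : a ∈ A) (ha1 : a ≠ 1) (hx : x * a * x⁻¹ ∈ A) :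
    x ∈ normalizer (A : Set G) := by
  have h1 : x * a * x⁻¹ ≠ 1 := fun h => ha1 (conj_eq_one_iff.mp h)
  rw [Subgroup.mem_normalizer_iff]
  intro h
  conv_lhs => rw [← hA a ha ha1]
  conv_rhs => rw [← hA _ hx h1]
  rw [mem_centralizer_singleton_iff, mem_centralizer_singleton_iff]
  constructor
  · intro e
    calc x * h * x⁻¹ * (x * a * x⁻¹) = x * (h * a) * x⁻¹ := by group
      _ = x * (a * h) * x⁻¹ := by rw [e]
      _ = _ := by group
  · intro e
    calc h * a = x⁻¹ * (x * h * x⁻¹ * (x * a * x⁻¹)) * x := by group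
      _ = x⁻¹ * (x * a * x⁻¹ * (x * h * x⁻¹)) * x := by rw [e]
      _ = _ := by group

/-- A fixed-point-free involution inverts. -/
theorem inverts_of_fpf {A : Subgroup G} {i : G} (hi : i * i = 1)
    (hstab : ∀ a ∈ A, i * a * i⁻¹ ∈ A) (hfix : ∀ a ∈ A, i * a * i⁻¹ = a → a = 1) {c : G}
    (hc : c ∈ A) : i * c * i⁻¹ = c⁻¹ := by
  have hi' : i⁻¹ = i := inv_eq_of_mul_eq_one_right hi
  let f : A → A := fun a => ⟨(a : G)⁻¹ * (i * a * i⁻¹), mul_mem (inv_mem a.2) (hstab a a.2)⟩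
  have hinj : Function.Injective f := by
    intro a b hab
    have h1 : (a : G)⁻¹ * (i * a * i⁻¹) = (b : G)⁻¹ * (i * b * i⁻¹) := congrArg Subtype.val hab
    have h2 : i * ((b : G) * (a : G)⁻¹) * i⁻¹ = (b : G) * (a : G)⁻¹ := by
      calc i * ((b : G) * (a : G)⁻¹) * i⁻¹
          = (b : G) * ((b : G)⁻¹ * (i * b * i⁻¹)) * (i * a * i⁻¹)⁻¹ := by group
        _ = (b : G) * ((a : G)⁻¹ * (i * a * i⁻¹)) * (i * a * i⁻¹)⁻¹ := by rw [h1]
        _ = _ := by group
    exact Subtype.ext (mul_inv_eq_one.mp (hfix _ (mul_mem b.2 (inv_mem a.2)) h2)).symm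
  obtain ⟨a, ha⟩ := Finite.injective_iff_surjective.mp hinj ⟨c, hc⟩
  have h3 : c = (a : G)⁻¹ * (i * a * i⁻¹) := (congrArg Subtype.val ha).symm
  rw [h3, hi']
  calc i * ((a : G)⁻¹ * (i * a * i)) * i = i * (a : G)⁻¹ * i * a * (i * i) := by group
    _ = i * (a : G)⁻¹ * i * a := by rw [hi, mul_one]
    _ = _ := by
      rw [mul_inv_rev, mul_inv_rev, mul_inv_rev, inv_inv, hi']
      group

/-- The union of the conjugates of a TI subgroup. -/
theorem card_conjugates {A : Subgroup G}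
    (hTI : ∀ x a : G, a ∈ A → a ≠ 1 → x * a * x⁻¹ ∈ A → x ∈ normalizer (A : Set G)) :
    Nat.card {g : G // g ≠ 1 ∧ ∃ x : G, x * g * x⁻¹ ∈ A} * Nat.card (normalizer (A : Set G)) =
      Nat.card G * (Nat.card A - 1) := by
  classical
  have := Fintype.ofFinite G
  set N := normalizer (A : Set G) with hN
  let f : G × {a : A // a ≠ 1} → {g : G // g ≠ 1 ∧ ∃ x : G, x * g * x⁻¹ ∈ A} := fun p =>
    ⟨p.1⁻¹ * ((p.2.1 : A) : G) * p.1, fun h => p.2.2 (Subtype.ext (by
      have := congrArg (fun z => p.1 * z * p.1⁻¹) h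
      simpa [mul_assoc] using this)),
      p.1, by
        rw [show p.1 * (p.1⁻¹ * ((p.2.1 : A) : G) * p.1) * p.1⁻¹ = ((p.2.1 : A) : G) by group]
        exact p.2.1.2⟩
  have hfib : ∀ g, Nat.card {p // f p = g} = Nat.card N := by
    rintro ⟨g, hg1, x0, hx0⟩
    have ha1 : x0 * g * x0⁻¹ ≠ 1 := fun h => hg1 (conj_eq_one_iff.mp h)
    refine (Nat.card_congr (Equiv.ofBijective
      (fun n : N => (⟨((n : G) * x0, ⟨⟨(n : G) * (x0 * g * x0⁻¹) * (n : G)⁻¹,
          (Subgroup.mem_normalizer_iff.mp n.2 _).mp hx0⟩,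
          fun h => ha1 (conj_eq_one_iff.mp (congrArg Subtype.val h))⟩), Subtype.ext (by
            show ((n : G) * x0)⁻¹ * ((n : G) * (x0 * g * x0⁻¹) * (n : G)⁻¹) * ((n : G) * x0) = g
            group)⟩ : {p // f p = ⟨g, hg1, x0, hx0⟩}))
      ⟨fun a b h => Subtype.ext (mul_right_cancel (congrArg (fun z => z.1.1) h)), ?_⟩)).symm
    rintro ⟨⟨x, ⟨⟨a, ha⟩, hane⟩⟩, hp⟩
    have hg : x⁻¹ * a * x = g := congrArg Subtype.val hp
    have hn : (x * x0⁻¹) * (x0 * g * x0⁻¹) * (x * x0⁻¹)⁻¹ = a := by rw [← hg]; group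
    refine ⟨⟨x * x0⁻¹, hTI _ _ hx0 ha1 (hn ▸ ha)⟩,
      Subtype.ext (Prod.ext (inv_mul_cancel_right x x0) (Subtype.ext (Subtype.ext hn)))⟩
  have h1 : Nat.card (G × {a : A // a ≠ 1}) =
      Nat.card {g : G // g ≠ 1 ∧ ∃ x : G, x * g * x⁻¹ ∈ A} * Nat.card N := by
    rw [Nat.card_congr (Equiv.sigmaFiberEquiv f).symm, Nat.card_sigma]
    simp only [hfib, Finset.sum_const, Finset.card_univ, smul_eq_mul, Nat.card_eq_fintype_card]
  rw [← h1, Nat.card_prod]
  congr 1
  rw [Nat.card_eq_fintype_card, Fintype.card_subtype_compl, Fintype.card_subtype_eq,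
    ← Nat.card_eq_fintype_card]

end General

namespace Setup

variable {G : Type*} [Group G] [Fintype G] (S : Setup G)

theorem normalizer_K : normalizer (S.K : Set G) = centralizer ({S.t} : Set G) := by
  refine le_antisymm (fun g hg =>
    S.mem_H_of_conj_mem S.tK S.t_ne_one ((Subgroup.mem_normalizer_iff.mp hg _).mp S.tK)) ?_
  intro g hg
  rw [Subgroup.mem_normalizer_iff]
  refine fun h => ⟨fun hh => S.conj_mem_K hg hh, fun hh => ?_⟩
  have := S.conj_mem_K (inv_mem hg) hh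
  simpa [mul_assoc] using this

theorem card_inConjK :
    Nat.card {g : G // g ≠ 1 ∧ S.InConjK g} * (2 * Nat.card S.K) =
      Nat.card G * (Nat.card S.K - 1) := by
  rw [← S.card_H, ← S.normalizer_K]
  exact card_conjugates fun x a ha ha1 hx => by
    rw [S.normalizer_K]; exact S.mem_H_of_conj_mem ha ha1 hx

theorem not_inConjK_of_commute {g y : G} (hg : ¬ S.InConjK g) (hy : y ≠ 1)
    (hc : y * g = g * y) : ¬ S.InConjK y := by
  rintro ⟨x, hx⟩
  refine hg (S.inConjK_conj x ?_)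
  have hne : x * y * x⁻¹ ≠ 1 := fun h => hy (conj_eq_one_iff.mp h)
  have hcc : (x * g * x⁻¹) * (x * y * x⁻¹) = (x * y * x⁻¹) * (x * g * x⁻¹) := by
    calc (x * g * x⁻¹) * (x * y * x⁻¹) = x * (g * y) * x⁻¹ := by group
      _ = x * (y * g) * x⁻¹ := by rw [hc]
      _ = _ := by group
  by_cases ht : x * y * x⁻¹ = S.t
  · rw [ht] at hcc
    exact S.inConjK_of_commute_involution S.ht hcc
  · refine ⟨1, ?_⟩
    rw [one_mul, inv_one, mul_one, ← S.centralizer_eq hx hne ht, mem_centralizer_singleton_iff]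
    exact hcc

/-- The centralizer of an inverted element is an abelian TI subgroup. -/
theorem centralizer_of_inverted {g i : G} (hg : ¬ S.InConjK g) (hi : orderOf i = 2)
    (hig : i * g * i⁻¹ = g⁻¹) {y : G} (hy : y ∈ centralizer ({g} : Set G)) (hy1 : y ≠ 1) :
    centralizer ({y} : Set G) = centralizer ({g} : Set G) := by
  rw [mem_centralizer_singleton_iff] at hy
  have hyK := S.not_inConjK_of_commute hg hy1 hy
  have hiy := S.inverts_centralizer hg hi hig hy
  refine le_antisymm (fun z hz => ?_) fun z hz => ?_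
  · rw [mem_centralizer_singleton_iff] at hz ⊢
    exact S.centralizer_comm hyK hi hiy hz hy.symm
  · rw [mem_centralizer_singleton_iff] at hz ⊢
    exact S.centralizer_comm hg hi hig hz hy

theorem exists_inverting {g : G} (hg : ¬ S.InConjK g)
    (h : Nat.card {p : G × G // orderOf p.1 = 2 ∧ orderOf p.2 = 2 ∧ p.1 * p.2 = g} ≠ 0) :
    ∃ i : G, orderOf i = 2 ∧ i * g * i⁻¹ = g⁻¹ := by
  obtain ⟨⟨⟨u, v⟩, hu, hv, huv⟩⟩ := (Nat.card_ne_zero.mp h).1
  exact ⟨u, hu, Involution.conj_eq_inv_of_pair hu hv huv⟩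

/-- Normal subgroups of `C(t)` inside `K`. -/
theorem normalizer_of_le {X : Subgroup G} (hX : X ≤ S.K) (hne : X ≠ ⊥) :
    normalizer (X : Set G) = centralizer ({S.t} : Set G) := by
  refine le_antisymm (fun g hg => ?_) (fun g hg => ?_)
  · obtain ⟨⟨a, ha⟩, ha1⟩ := @exists_ne X ((Subgroup.nontrivial_iff_ne_bot X).mpr hne) 1
    exact S.mem_H_of_conj_mem (hX ha) (fun h => ha1 (Subtype.ext h))
      (hX ((Subgroup.mem_normalizer_iff.mp hg a).mp ha))
  · rw [Subgroup.mem_normalizer_iff]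
    intro h
    constructor
    · intro hh
      rcases S.conj_eq_or hg (hX hh) with e | e <;> rw [e]
      exacts [hh, inv_mem hh]
    · intro hh
      rcases S.conj_eq_or (inv_mem hg) (hX hh) with e | e
      · rw [show g⁻¹ * (g * h * g⁻¹) * g⁻¹⁻¹ = h by group] at e
        exact e ▸ hh
      · rw [show g⁻¹ * (g * h * g⁻¹) * g⁻¹⁻¹ = h by group] at e
        exact e ▸ inv_mem hh

namespace Shape

variable {S} (D : Shape S)

/-- The order of the subgroup `Q`. -/
noncomputable def q : ℕ := D.F.natAbs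

/-- `g` has order involving a prime of `q`. -/
def InP (g : G) : Prop := ∃ p : ℕ, p.Prime ∧ p ∣ D.q ∧ p ∣ orderOf g

theorem two_le_k : 2 ≤ Nat.card S.K := Nat.le_of_dvd Nat.card_pos S.two_dvd_card_K

theorem q_cases : (D.F = (D.q : ℤ) ∧ D.q = 2 * Nat.card S.K + 1) ∨
    (D.F = -(D.q : ℤ) ∧ D.q + 1 = 2 * Nat.card S.K) := by
  have := two_le_k (S := S)
  rcases D.basic.1 with h | h
  · left; unfold q; omega
  · right; unfold q; omega

theorem q_ge : 3 ≤ D.q := by
  have := two_le_k (S := S)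
  rcases D.q_cases with h | h <;> omega

theorem card_eq : 2 * Nat.card G = D.q * (D.q + 1) * (D.q - 1) := by
  obtain ⟨r, hr⟩ : ∃ r, D.q = r + 1 := ⟨D.q - 1, by have := D.q_ge; omega⟩
  have h := D.card_G
  have h2 : (2 : ℤ) * Nat.card G = (D.q : ℤ) * ((D.q : ℤ) + 1) * ((D.q : ℤ) - 1) := by
    rcases D.q_cases with ⟨e, e'⟩ | ⟨e, e'⟩
    · have e2 : (D.q : ℤ) = 2 * (Nat.card S.K : ℤ) + 1 := by exact_mod_cast e'
      rw [h, e, e2]; ring
    · have e2 : (D.q : ℤ) + 1 = 2 * (Nat.card S.K : ℤ) := by exact_mod_cast e'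
      rw [h, e, e2]; linear_combination (-(D.q : ℤ) + (D.q : ℤ) ^ 2) * (e2.symm - e2.symm)
  rw [hr] at h2 ⊢
  rw [show r + 1 - 1 = r from rfl]
  push_cast at h2
  have : ((2 * Nat.card G : ℕ) : ℤ) = (((r + 1) * (r + 1 + 1) * r : ℕ) : ℤ) := by
    push_cast; linear_combination h2
  exact_mod_cast this

theorem not_inConjK_of_inP {g : G} (h : D.InP g) : ¬ S.InConjK g := by
  obtain ⟨p, hp, hpq, hpo⟩ := h
  rintro ⟨x, hx⟩
  refine (D.not_dvd_K_of_dvd_F hp hpq).1 (hpo.trans ?_)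
  rw [← MulEquiv.orderOf_eq (MulAut.conj x) g, MulAut.conj_apply]
  exact S.K.orderOf_dvd_natCard hx

include D in
theorem inConjK_of_dvd_K {g : G} {p : ℕ} (hp : p.Prime) (hpk : p ∣ Nat.card S.K)
    (hpo : p ∣ orderOf g) : S.InConjK g := by
  by_cases hp2 : p = 2
  · subst hp2; exact S.inConjK_of_even hpo
  haveI := Fact.mk hp
  obtain ⟨Q⟩ := (inferInstance : Nonempty (Sylow p S.K))
  have hidx : ¬ p ∣ (S.K.index) := by
    have hG := congrArg Int.natAbs D.card_G
    simp only [Int.natAbs_natCast, Int.natAbs_mul] at hG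
    rw [← S.K.card_mul_index, mul_assoc] at hG
    rw [Nat.eq_of_mul_eq_mul_left Nat.card_pos hG, hp.dvd_mul]
    rintro (h | h)
    · exact (D.not_dvd_K_of_dvd_F hp h).1 hpk
    · exact (D.not_dvd_of_dvd_succ hp hp2 h).1 hpk
  let Q' : Sylow p G := (Q.2.map S.K.subtype).toSylow (by
    rw [Subgroup.index_map_subtype, hp.dvd_mul]
    exact fun h => h.elim Q.not_dvd_index hidx)
  set y := g ^ (orderOf g / p) with hy
  have hyo : orderOf y = p := orderOf_pow_orderOf_div (orderOf_pos g).ne' hpo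
  obtain ⟨R, hR⟩ := (IsPGroup.of_card (n := 1)
    (show Nat.card (zpowers y) = p ^ 1 by rw [Nat.card_zpowers, hyo, pow_one])).exists_le_sylow
  obtain ⟨x, hx⟩ := MulAction.exists_smul_eq G R Q'
  have hyx : x * y * x⁻¹ ∈ S.K := by
    have h1 : x * y * x⁻¹ ∈ ((x • R : Sylow p G) : Subgroup G) := by
      rw [Sylow.coe_subgroup_smul]
      exact ⟨y, hR (mem_zpowers y), by simp [MulDistribMulAction.toMonoidEnd_apply]⟩
    rw [hx] at h1
    obtain ⟨z, -, hz⟩ := h1
    rw [← hz]; exact z.2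
  refine S.inConjK_conj x ⟨1, ?_⟩
  have hne : x * y * x⁻¹ ≠ 1 := fun h => by
    rw [conj_eq_one_iff.mp h, orderOf_one] at hyo; exact hp.ne_one hyo.symm
  have hnt : x * y * x⁻¹ ≠ S.t := fun h => by
    have := MulEquiv.orderOf_eq (MulAut.conj x) y
    rw [MulAut.conj_apply, h, S.ht, hyo] at this
    exact hp2 this.symm
  rw [one_mul, inv_one, mul_one, ← S.centralizer_eq hyx hne hnt, mem_centralizer_singleton_iff]
  have hc : g * y = y * g := (Commute.self_pow g _).eq
  calc x * g * x⁻¹ * (x * y * x⁻¹) = x * (g * y) * x⁻¹ := by group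
    _ = x * (y * g) * x⁻¹ := by rw [hc]
    _ = _ := by group

/-- The primes of the order of an element outside the conjugates of `K`. -/
theorem prime_cases {g : G} (hg : ¬ S.InConjK g) {p : ℕ} (hp : p.Prime) (hpo : p ∣ orderOf g) :
    p ≠ 2 ∧ (p ∣ D.q ∨ p ∣ (D.F + 1).natAbs) := by
  refine ⟨fun h => hg (S.inConjK_of_even (h ▸ hpo)), ?_⟩
  have hG := congrArg Int.natAbs D.card_G
  simp only [Int.natAbs_natCast, Int.natAbs_mul] at hG
  have h := hpo.trans (orderOf_dvd_natCard g)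
  rw [hG] at h
  rcases hp.dvd_mul.mp h with h | h
  · rcases hp.dvd_mul.mp h with h | h
    · exact absurd (D.inConjK_of_dvd_K hp h hpo) hg
    · exact Or.inl h
  · exact Or.inr h

theorem Ξ_of_inP {g : G} (h : D.InP g) : D.Ξ g = 0 := by
  obtain ⟨p, hp, h1, h2⟩ := h
  exact D.Ξ_p hp h1 h2

theorem Ξ_of_not_inP {g : G} (hg : ¬ S.InConjK g) (h : ¬ D.InP g) : D.Ξ g = -1 := by
  have h1 : orderOf g ≠ 1 := fun h1 => hg (orderOf_eq_one_iff.mp h1 ▸ S.inConjK_one)
  obtain ⟨p, hp, hpo⟩ := Nat.exists_prime_and_dvd h1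
  obtain ⟨hp2, h' | h'⟩ := D.prime_cases hg hp hpo
  · exact absurd ⟨p, hp, h', hpo⟩ h
  · exact D.Ξ_r hp hp2 h' hpo

theorem prime_dvd_q_of_inP {g : G} (h : D.InP g) {p : ℕ} (hp : p.Prime) (hpo : p ∣ orderOf g) :
    p ∣ D.q := by
  obtain ⟨hp2, h' | h'⟩ := D.prime_cases (D.not_inConjK_of_inP h) hp hpo
  · exact h'
  · have e := D.Ξ_r hp hp2 h' hpo
    rw [D.Ξ_of_inP h] at e
    norm_num at e

theorem coprime_q : Nat.Coprime D.q (Nat.card S.K * (D.F + 1).natAbs) := by
  refine Nat.coprime_of_dvd fun p hp h1 h2 => ?_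
  obtain ⟨a, b⟩ := D.not_dvd_K_of_dvd_F hp h1
  exact (hp.dvd_mul.mp h2).elim a b

theorem card_eq_q_mul : Nat.card G = D.q * (Nat.card S.K * (D.F + 1).natAbs) := by
  have hG := congrArg Int.natAbs D.card_G
  simp only [Int.natAbs_natCast, Int.natAbs_mul] at hG
  rw [hG, q]; ring

theorem pairs_inP {g : G} (h : D.InP g) :
    Nat.card {p : G × G // orderOf p.1 = 2 ∧ orderOf p.2 = 2 ∧ p.1 * p.2 = g} =
      if 0 < D.F then D.q else 0 := by
  have e := D.pairs (D.not_inConjK_of_inP h)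
  rw [D.Ξ_of_inP h, map_zero, zero_div, add_zero] at e
  have hk := two_le_k (S := S)
  have hn : 2 * (Nat.card {y : G // orderOf y = 2} : ℂ) = (D.F : ℂ) * ((D.F : ℂ) + 1) := by
    exact_mod_cast D.basic.2
  have hk0 : (2 * (Nat.card S.K : ℂ)) ≠ 0 :=
    mul_ne_zero two_ne_zero (Nat.cast_ne_zero.mpr (by omega))
  have hF1 : (1 + (D.F : ℂ)) ≠ 0 := by
    have : (1 + D.F : ℤ) ≠ 0 := by rcases D.q_cases with a | a <;> omega
    exact_mod_cast this
  apply Nat.cast_injective (R := ℂ)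
  refine mul_right_cancel₀ hk0 (e.trans ?_)
  field_simp
  rcases D.q_cases with ⟨a, b⟩ | ⟨a, b⟩
  · rw [if_pos (by have := D.q_ge; omega)]
    have a' : (D.F : ℂ) = (D.q : ℂ) := by exact_mod_cast a
    have b' : (D.q : ℂ) = 2 * (Nat.card S.K : ℂ) + 1 := by exact_mod_cast b
    rw [a'] at hn ⊢
    rw [b'] at hn ⊢
    linear_combination 2 * (Nat.card S.K : ℂ) * hn
  · rw [if_neg (by have := D.q_ge; omega), Nat.cast_zero]
    have a' : (D.F : ℂ) = -(D.q : ℂ) := by exact_mod_cast a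
    have b' : (D.q : ℂ) = 2 * (Nat.card S.K : ℂ) - 1 := by
      have : (D.q : ℂ) + 1 = 2 * (Nat.card S.K : ℂ) := by exact_mod_cast b
      linear_combination this
    rw [a', b']
    ring

open scoped Classical in
theorem card_types :
    Nat.card {g : G // D.InP g} = D.q ^ 2 - 1 ∧
      (Nat.card {g : G // ¬ S.InConjK g ∧ ¬ D.InP g} : ℤ) =
        D.F + (Nat.card {y : G // orderOf y = 2} : ℤ) * ((Nat.card S.K : ℤ) - 1) := by
  classical
  have hsum := D.Ξ_sum
  have hsplit : ∀ g : G, D.Ξ g = (if g = 1 then (D.F : ℂ) else 0) +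
      (if g ≠ 1 ∧ S.InConjK g then 1 else 0) - (if ¬ S.InConjK g ∧ ¬ D.InP g then 1 else 0) := by
    intro g
    by_cases h1 : g = 1
    · subst h1
      rw [D.Ξ_one, if_pos rfl, if_neg (fun h => h.1 rfl),
        if_neg (fun h => h.1 S.inConjK_one)]
      ring
    by_cases hK : S.InConjK g
    · rw [D.Ξ_K hK h1, if_neg h1, if_pos ⟨h1, hK⟩, if_neg (fun h => h.1 hK)]
      ring
    by_cases hP : D.InP g
    · rw [D.Ξ_of_inP hP, if_neg h1, if_neg (fun h => hK h.2), if_neg (fun h => h.2 hP)]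
      ring
    · rw [D.Ξ_of_not_inP hK hP, if_neg h1, if_neg (fun h => hK h.2), if_pos ⟨hK, hP⟩]
      ring
  simp only [hsplit, Finset.sum_sub_distrib, Finset.sum_add_distrib, Finset.sum_ite_eq',
    Finset.mem_univ, if_true, Finset.sum_boole, ← Fintype.card_subtype,
    ← Nat.card_eq_fintype_card] at hsum
  have hone : Nat.card {g : G // g ≠ 1} + 1 = Nat.card G := by
    rw [Nat.card_eq_fintype_card, Fintype.card_subtype_compl, Fintype.card_subtype_eq,
      Nat.card_eq_fintype_card]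
    exact Nat.sub_add_cancel Fintype.card_pos
  have htot : Nat.card {g : G // g ≠ 1 ∧ S.InConjK g} + (Nat.card {g : G // D.InP g} +
      Nat.card {g : G // ¬ S.InConjK g ∧ ¬ D.InP g}) = Nat.card {g : G // g ≠ 1} := by
    simp only [Nat.card_eq_fintype_card, Fintype.card_subtype]
    rw [← Finset.card_union_of_disjoint
        (Finset.disjoint_filter.mpr fun g _ h h' => h'.2 h),
      ← Finset.card_union_of_disjoint (Finset.disjoint_left.mpr fun g h h' => by
        simp only [Finset.mem_union, Finset.mem_filter, Finset.mem_univ, true_and] at h h'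
        rcases h' with h' | h'
        exacts [D.not_inConjK_of_inP h' h.2, h'.1 h.2]), ← Finset.filter_or, ← Finset.filter_or]
    congr 1
    refine Finset.filter_congr fun g _ => ⟨?_, fun h1 => ?_⟩
    · rintro (h | h | h) h1
      · exact h.1 h1
      · exact D.not_inConjK_of_inP h (h1 ▸ S.inConjK_one)
      · exact h.1 (h1 ▸ S.inConjK_one)
    · by_cases hK : S.InConjK g
      · exact Or.inl ⟨h1, hK⟩
      · by_cases hP : D.InP g
        exacts [Or.inr (Or.inl hP), Or.inr (Or.inr ⟨hK, hP⟩)]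
  have hK := S.card_inConjK
  rw [← S.card_involutions_mul] at hK
  have hK' : Nat.card {g : G // g ≠ 1 ∧ S.InConjK g} =
      Nat.card {y : G // orderOf y = 2} * (Nat.card S.K - 1) := by
    refine Nat.eq_of_mul_eq_mul_right (show 0 < 2 * Nat.card S.K by
      have := two_le_k (S := S); omega) ?_
    rw [hK]; ring
  rw [hK'] at htot
  have hk1 : 1 ≤ Nat.card S.K := Nat.card_pos
  have hR : (Nat.card {g : G // ¬ S.InConjK g ∧ ¬ D.InP g} : ℤ) =
      D.F + (Nat.card {y : G // orderOf y = 2} : ℤ) * ((Nat.card S.K : ℤ) - 1) := by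
    have h : ((D.F + (Nat.card {g : G // g ≠ 1 ∧ S.InConjK g} : ℤ) -
      (Nat.card {g : G // ¬ S.InConjK g ∧ ¬ D.InP g} : ℤ) : ℤ) : ℂ) = ((0 : ℤ) : ℂ) := by
      push_cast; linear_combination hsum
    have h' := Int.cast_injective h
    rw [hK', Nat.cast_mul, Nat.cast_sub hk1, Nat.cast_one] at h'
    linarith
  refine ⟨?_, hR⟩
  have h1 := D.q_ge
  have h2 : 1 ≤ D.q ^ 2 := Nat.one_le_pow _ _ (by omega)
  have key : (Nat.card {g : G // D.InP g} : ℤ) = (D.q : ℤ) ^ 2 - 1 := by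
    have ht := congrArg (Nat.cast (R := ℤ)) htot
    have ho := congrArg (Nat.cast (R := ℤ)) hone
    have hm := congrArg (Nat.cast (R := ℤ)) S.card_involutions_mul
    push_cast [Nat.cast_sub hk1] at ht ho hm
    have hn := D.basic.2
    have hq2 : (D.q : ℤ) ^ 2 = D.F ^ 2 := by rw [q, Int.natAbs_sq]
    rw [hq2]
    linear_combination ht + ho - hm + hn - hR
  rw [← Nat.cast_inj (R := ℤ), Nat.cast_sub h2]
  push_cast
  exact key

/-- The normalizer of an abelian centralizer of order `q` whose nonidentity elements are exactly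
the conjugates of the elements of type `P`. -/
theorem card_normalizer {A : Subgroup G} (hA : Nat.card A = D.q)
    (hcen : ∀ a ∈ A, a ≠ 1 → centralizer ({a} : Set G) = A)
    (hall : ∀ g : G, D.InP g →
      Nat.card (centralizer ({g} : Set G)) = D.q ∧ IsMulCommutative (centralizer ({g} : Set G)))
    (hP : ∀ a ∈ A, a ≠ 1 → D.InP a) (hAab : IsMulCommutative A) :
    Nat.card (normalizer (A : Set G)) * (D.q + 1) = Nat.card G := by
  have h := card_conjugates fun x a ha ha1 hx => ti_normalizer hcen ha ha1 hx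
  have hset : Nat.card {g : G // g ≠ 1 ∧ ∃ x : G, x * g * x⁻¹ ∈ A} =
      Nat.card {g : G // D.InP g} := by
    refine Nat.card_congr (Equiv.subtypeEquivRight fun g => ⟨?_, fun hg => ⟨?_, ?_⟩⟩)
    · rintro ⟨h1, x, hx⟩
      obtain ⟨p, hp, hpq, hpo⟩ := hP _ hx fun h => h1 (conj_eq_one_iff.mp h)
      refine ⟨p, hp, hpq, ?_⟩
      rwa [← MulAut.conj_apply, MulEquiv.orderOf_eq] at hpo
    · exact fun h => D.not_inConjK_of_inP hg (h ▸ S.inConjK_one)
    · obtain ⟨hc, hab⟩ := hall g hg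
      obtain ⟨x, hx⟩ := Transfer.nilpotent_hall_conj (centralizer ({g} : Set G)) A
        (by open scoped IsMulCommutative in infer_instance)
        (by open scoped IsMulCommutative in infer_instance)
        (by
          have h1 := (centralizer ({g} : Set G)).card_mul_index
          rw [hc, D.card_eq_q_mul] at h1
          rw [hc, Nat.eq_of_mul_eq_mul_left (by have := D.q_ge; omega) h1]
          exact D.coprime_q) (hc.trans hA.symm)
      exact ⟨x, hx ▸ ⟨g, mem_centralizer_singleton_iff.mpr rfl, rfl⟩⟩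
  rw [hset, D.card_types.1, hA] at h
  obtain ⟨r, hr⟩ : ∃ r, D.q = r + 2 := ⟨D.q - 2, by have := D.q_ge; omega⟩
  rw [hr] at h ⊢
  rw [show (r + 2) ^ 2 - 1 = (r + 1) * (r + 3) by
    have : (r + 2) ^ 2 = (r + 1) * (r + 3) + 1 := by ring
    omega, show r + 2 - 1 = r + 1 from rfl] at h
  refine Nat.eq_of_mul_eq_mul_left (Nat.succ_pos r) ?_
  linarith

end Shape

end Setup

end Cfsg.Agent.BSW7
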