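import Cfsg.Agent.BSW7.Shape
import Cfsg.Agent.Lib.CharInd.DefectZero

/-!
# Abstract Brauer–Suzuki–Wall: the character-theoretic conclusions
-/

set_option autoImplicit false
set_option linter.unusedSectionVars false

open scoped ComplexConjugate

namespace Cfsg.Agent.BSW7

theorem arith_shape {n k : ℕ} {F E : ℤ} (hk : 0 < k) (hs : 1 + F + 2 * E = 0)
    (hF : (k : ℤ) ∣ F - 1) (hE : (k : ℤ) ∣ E + 1)
    (heq : (n : ℤ) * (F - 1) ^ 2 = 2 * (k : ℤ) ^ 2 * F * (F + 1)) (hF0 : F ≠ 0) (hE0 : E ≠ 0) :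
    (F = 1 + 2 * (k : ℤ) ∨ F = 1 - 2 * (k : ℤ)) ∧ 2 * (n : ℤ) = F * (F + 1) := by
  obtain ⟨j, hj⟩ := hE
  have hF' : F = 1 - 2 * (k : ℤ) * j := by linarith
  subst hF'
  have hk' : (k : ℤ) ≠ 0 := by exact_mod_cast hk.ne'
  have h2 : (n : ℤ) * j ^ 2 = (1 - 2 * (k : ℤ) * j) * (1 - k * j) := by
    refine mul_left_cancel₀ (show 4 * (k : ℤ) ^ 2 ≠ 0 by positivity) ?_
    linear_combination heq
  have h3 : j ∣ 1 := ⟨(n : ℤ) * j + 3 * k - 2 * k ^ 2 * j, by linear_combination -h2⟩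
  rcases Int.isUnit_iff.mp (isUnit_of_dvd_one h3) with rfl | rfl
  · exact ⟨Or.inr (by ring), by linear_combination 2 * h2⟩
  · exact ⟨Or.inl (by ring), by linear_combination 2 * h2⟩

/-- An irreducible character whose degree is divisible by the `p`-part of `|G|` vanishes on
`p`-singular elements. -/
theorem eq_zero_of_defect {G : Type*} [Group G] [Fintype G] (χ : Cfsg.IrrCharacter G) (d : ℕ)
    (hd : (χ : G → ℂ) 1 = d) {p : ℕ} (hp : p.Prime) {c : ℕ} (hG : Nat.card G = d * c)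
    (hc : ¬ p ∣ c) {g : G} (hg : p ∣ orderOf g) : (χ : G → ℂ) g = 0 := by
  haveI := Fact.mk hp
  have hd0 : d ≠ 0 := fun h => by
    rw [h, zero_mul] at hG
    exact Nat.card_pos.ne' hG
  obtain ⟨a, r, hr, hdr⟩ := Nat.exists_eq_pow_mul_and_not_dvd hd0 p hp.ne_one
  refine CharInd.char_eq_zero_of_defect_zero χ.2 p a r (r := r * c) ?_ ?_ ?_ g hg
  · rw [hG, hdr, mul_assoc]
  · rw [hp.dvd_mul]; exact fun h => h.elim hr hc
  · rw [hd, hdr]

namespace Setup

open Subgroup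

variable {G : Type*} [Group G] [Fintype G] (S : Setup G)

namespace Shape

variable {S} (D : Shape S)

/-- Signed degree of the central character. -/
noncomputable def F : ℤ := D.e * deg D.X

/-- Signed degree of the two others. -/
noncomputable def E : ℤ := D.e1 * deg D.E1

theorem sum_eq : 1 + D.F + 2 * D.E = 0 := by
  have h := S.sum_a_degree S.l0
  rw [D.sum0 (fun χ => (χ : G → ℂ) 1)] at h
  simp only [deg_spec, deg_triv] at h
  have h' : ((1 + D.e * deg D.X + D.e1 * deg D.E1 + D.e2 * deg D.E2 : ℤ) : ℂ) = ((0 : ℤ) : ℂ) := by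
    push_cast; linear_combination h
  have h'' := Int.cast_injective h'
  have := D.hE
  unfold F E
  omega

theorem E1_t : (D.E1 : G → ℂ) S.t = -(D.e1 : ℂ) * (S.l0 ⟨S.t, S.tK⟩ : ℂ) := by
  rw [S.apply_t, Finset.sum_eq_single S.l0 (fun l _ hl => by rw [D.aE1.2 l hl]; simp)
    (fun h => absurd (Finset.mem_univ _) h), D.aE1.1]
  ring

theorem E2_t : (D.E2 : G → ℂ) S.t = -(D.e2 : ℂ) * (S.l0 ⟨S.t, S.tK⟩ : ℂ) := by
  rw [S.apply_t, Finset.sum_eq_single S.l0 (fun l _ hl => by rw [D.aE2.2 l hl]; simp)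
    (fun h => absurd (Finset.mem_univ _) h), D.aE2.1]
  ring

theorem sq_e : (D.e : ℂ) ^ 2 = 1 := by rcases D.he with h | h <;> simp [h]

theorem sq_e1 : (D.e1 : ℂ) ^ 2 = 1 := by rcases D.he1 with h | h <;> simp [h]

theorem sq_e2 : (D.e2 : ℂ) ^ 2 = 1 := by rcases D.he2 with h | h <;> simp [h]

theorem F_ne : D.F ≠ 0 := sign_mul_deg_ne_zero D.he D.X

theorem E_ne : D.E ≠ 0 := sign_mul_deg_ne_zero D.he1 D.E1

theorem basic :
    (D.F = 1 + 2 * (Nat.card S.K : ℤ) ∨ D.F = 1 - 2 * (Nat.card S.K : ℤ)) ∧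
      2 * (Nat.card {y : G // orderOf y = 2} : ℤ) = D.F * (D.F + 1) := by
  classical
  refine arith_shape Nat.card_pos D.sum_eq ?_ ?_ ?_ D.F_ne D.E_ne
  · obtain ⟨c, hc⟩ := S.degree_congr D.X (deg_spec D.X)
    have hsum : ∑ l : S.Dual, S.a D.X l = ((Nat.card S.K : ℤ) - 1) * D.e := by
      rw [← Finset.sum_erase_add _ _ (Finset.mem_univ (1 : S.Dual)), a_one, add_zero,
        Finset.sum_congr rfl fun l hl => D.aX l (Finset.ne_of_mem_erase hl), Finset.sum_const,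
        Finset.card_erase_of_mem (Finset.mem_univ _), Finset.card_univ, card_dual, nsmul_eq_mul,
        Nat.cast_sub Nat.card_pos, Nat.cast_one]
    rw [hsum] at hc
    refine ⟨D.e * c - 1, ?_⟩
    unfold F
    rcases D.he with h | h <;> rw [h] at hc ⊢ <;> linear_combination (norm := ring_nf) hc
    all_goals linarith
  · obtain ⟨c, hc⟩ := S.degree_congr D.E1 (deg_spec D.E1)
    rw [Finset.sum_eq_single S.l0 (fun l _ hl => D.aE1.2 l hl)
      (fun h => absurd (Finset.mem_univ _) h), D.aE1.1] at hc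
    refine ⟨D.e1 * c, ?_⟩
    unfold E
    rcases D.he1 with h | h <;> rw [h] at hc ⊢ <;> linarith
  · have h := S.equation S.l0 S.l0_ne_one
    rw [Finset.sum_congr rfl fun (χ : Cfsg.IrrCharacter G) _ =>
      show (χ : G → ℂ) S.t ^ 2 * (S.a χ S.l0 : ℂ) / (χ : G → ℂ) 1 =
        (S.a χ S.l0 : ℂ) * ((χ : G → ℂ) S.t ^ 2 / (deg χ : ℂ)) by rw [deg_spec]; ring,
      D.sum0, show ((triv : Cfsg.IrrCharacter G) : G → ℂ) S.t = 1 from rfl, deg_triv,
      S.centre_t D.aX, D.E1_t, D.E2_t, mul_pow, mul_pow, neg_sq, neg_sq, D.sq_e, D.sq_e1,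
      D.sq_e2] at h
    have ht : (S.l0 ⟨S.t, S.tK⟩ : ℂ) ^ 2 = 1 := by
      rcases S.l_t S.l0 with u | u <;> simp [u]
    rw [ht] at h
    simp only [mul_div, mul_one, one_pow, Int.cast_one, div_one] at h
    rw [sign_div D.he, sign_div D.he1, sign_div D.he2, ← D.hE] at h
    have hF : ((D.F : ℤ) : ℂ) ≠ 0 := Int.cast_ne_zero.mpr D.F_ne
    have hE : ((D.E : ℤ) : ℂ) ≠ 0 := Int.cast_ne_zero.mpr D.E_ne
    have hs : (1 : ℂ) + (D.F : ℂ) + 2 * (D.E : ℂ) = 0 := by exact_mod_cast D.sum_eq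
    rw [show D.e * deg D.X = D.F from rfl, show D.e1 * deg D.E1 = D.E from rfl] at h
    field_simp at h
    have key : ((Nat.card {y : G // orderOf y = 2} : ℂ) * ((D.F : ℂ) - 1) ^ 2) =
        2 * (Nat.card S.K : ℂ) ^ 2 * D.F * (D.F + 1) := by
      linear_combination (-2 : ℂ) * h + ((Nat.card {y : G // orderOf y = 2} : ℂ) * ((D.F : ℂ) + 1)
        - 2 * (Nat.card S.K : ℂ) ^ 2 * (D.F : ℂ)) * hs
    exact_mod_cast key

/-- The signed central character. -/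
noncomputable def Ξ : G → ℂ := fun g => (D.e : ℂ) * (D.X : G → ℂ) g

theorem Ξ_one : D.Ξ 1 = (D.F : ℂ) := by
  rw [Ξ, deg_spec, F]; push_cast; rfl

theorem Ξ_sum : ∑ g : G, D.Ξ g = 0 := by
  have h := CharCore.classInner_irr_of_ne D.hX
  rw [Cfsg.classInner, mul_eq_zero, or_iff_right (inv_ne_zero
    (Nat.cast_ne_zero.mpr Nat.card_pos.ne'))] at h
  have h' : ∀ g : G, (D.X : G → ℂ) g * conj (((triv : Cfsg.IrrCharacter G) : G → ℂ) g) =
      (D.X : G → ℂ) g := fun g => by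
    rw [show ((triv : Cfsg.IrrCharacter G) : G → ℂ) g = 1 from rfl, map_one, mul_one]
  simp only [h'] at h
  simp only [Ξ, ← Finset.mul_sum, h, mul_zero]

theorem Ξ_K {g : G} (hg : S.InConjK g) (hg1 : g ≠ 1) : D.Ξ g = 1 := by
  classical
  obtain ⟨x, hx⟩ := hg
  have hne : (⟨_, hx⟩ : S.K) ≠ 1 := fun h => hg1 (conj_eq_one_iff.mp (congrArg Subtype.val h))
  have hv : (D.X : G → ℂ) g = D.e := by
    rw [← CharCore.irr_isClassFunction D.X g x,
      show x * g * x⁻¹ = ((⟨_, hx⟩ : S.K) : G) from rfl, S.apply_K _ hne]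
    have h : ∀ l : S.Dual, (S.a D.X l : ℂ) * (l ⟨_, hx⟩ : ℂ) =
        (D.e : ℂ) * (l ⟨_, hx⟩ : ℂ) - (if l = 1 then (D.e : ℂ) else 0) := by
      intro l
      by_cases hl : l = 1
      · subst hl; simp [a_one]
      · rw [D.aX l hl, if_neg hl, sub_zero]
    simp only [h, Finset.sum_sub_distrib, ← Finset.mul_sum, sum_dual_eq_zero hne,
      Finset.sum_ite_eq', Finset.mem_univ, if_true]
    ring
  rw [Ξ, hv, ← pow_two, D.sq_e]

theorem leaf_other {g : G} (hg : ¬ S.InConjK g) :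
    (D.e1 : ℂ) * (D.E1 : G → ℂ) g + (D.e2 : ℂ) * (D.E2 : G → ℂ) g = -1 - D.Ξ g := by
  have h := S.sum_a_other S.l0 hg
  rw [D.sum0 (fun χ => (χ : G → ℂ) g),
    show ((triv : Cfsg.IrrCharacter G) : G → ℂ) g = 1 from rfl] at h
  rw [Ξ]
  linear_combination h

theorem card_G :
    (Nat.card G : ℤ) = (Nat.card S.K : ℤ) * D.F * (D.F + 1) := by
  have h : (Nat.card {y : G // orderOf y = 2} : ℤ) * (2 * (Nat.card S.K : ℤ)) = Nat.card G := by
    exact_mod_cast S.card_involutions_mul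
  linear_combination -h + (Nat.card S.K : ℤ) * D.basic.2

theorem natAbs_deg {e : ℤ} (he : e = 1 ∨ e = -1) (χ : Cfsg.IrrCharacter G) :
    (χ : G → ℂ) 1 = ((e * deg χ).natAbs : ℂ) := by
  have h : (((e * deg χ).natAbs : ℤ) : ℂ) = ((deg χ : ℤ) : ℂ) := by
    have := deg_pos χ
    rcases he with rfl | rfl <;> congr 1 <;> omega
  rw [deg_spec, ← h]; simp

theorem not_dvd_K_of_dvd_F {p : ℕ} (hp : p.Prime) (h : p ∣ D.F.natAbs) :
    ¬ p ∣ Nat.card S.K ∧ ¬ p ∣ (D.F + 1).natAbs := by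
  have h' : (p : ℤ) ∣ D.F := Int.natCast_dvd.mpr h
  have h1 : ¬ (p : ℤ) ∣ 1 := fun hh => hp.ne_one (Nat.dvd_one.mp (by exact_mod_cast hh))
  refine ⟨fun hk => h1 ?_, fun hF => h1 ?_⟩
  · have hk' : (p : ℤ) ∣ (Nat.card S.K : ℤ) := Int.natCast_dvd_natCast.mpr hk
    rcases D.basic.1 with e | e
    · simpa [e] using dvd_sub h' (hk'.mul_left 2)
    · simpa [e] using dvd_add h' (hk'.mul_left 2)
  · simpa using dvd_sub (Int.natCast_dvd.mpr hF) h'

theorem Ξ_p {p : ℕ} (hp : p.Prime) (h : p ∣ D.F.natAbs) {g : G} (hg : p ∣ orderOf g) :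
    D.Ξ g = 0 := by
  have hG := congrArg Int.natAbs D.card_G
  simp only [Int.natAbs_natCast, Int.natAbs_mul] at hG
  obtain ⟨h1, h2⟩ := D.not_dvd_K_of_dvd_F hp h
  rw [Ξ, eq_zero_of_defect D.X D.F.natAbs (natAbs_deg D.he D.X) hp
    (c := Nat.card S.K * (D.F + 1).natAbs) (by rw [hG]; ring)
    (fun hh => (hp.dvd_mul.mp hh).elim h1 h2) hg, mul_zero]

theorem not_dvd_of_dvd_succ {p : ℕ} (hp : p.Prime) (hp2 : p ≠ 2) (h : p ∣ (D.F + 1).natAbs) :
    ¬ p ∣ Nat.card S.K ∧ ¬ p ∣ D.F.natAbs := by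
  refine ⟨fun hk => hp2 ?_, fun hF => (D.not_dvd_K_of_dvd_F hp hF).2 h⟩
  have hk' : (p : ℤ) ∣ (Nat.card S.K : ℤ) := Int.natCast_dvd_natCast.mpr hk
  have h' : (p : ℤ) ∣ D.F + 1 := Int.natCast_dvd.mpr h
  have h2 : (p : ℤ) ∣ ((2 : ℕ) : ℤ) := by
    rcases D.basic.1 with e | e
    · have := dvd_sub h' (hk'.mul_left 2)
      rw [e] at this
      ring_nf at this
      exact_mod_cast this
    · have := dvd_add h' (hk'.mul_left 2)
      rw [e] at this
      ring_nf at this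
      exact_mod_cast this
  exact (Nat.prime_dvd_prime_iff_eq hp Nat.prime_two).mp (Int.natCast_dvd_natCast.mp h2)

theorem Ξ_r {p : ℕ} (hp : p.Prime) (hp2 : p ≠ 2) (h : p ∣ (D.F + 1).natAbs) {g : G}
    (hg : p ∣ orderOf g) : D.Ξ g = -1 := by
  have hG := congrArg Int.natAbs D.card_G
  simp only [Int.natAbs_natCast, Int.natAbs_mul] at hG
  obtain ⟨h1, h2⟩ := D.not_dvd_of_dvd_succ hp hp2 h
  have hs := D.sum_eq
  have hc : ¬ p ∣ 2 * (Nat.card S.K * D.F.natAbs) := by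
    rw [hp.dvd_mul, hp.dvd_mul]
    rintro (hh | hh | hh)
    exacts [hp2 ((Nat.prime_dvd_prime_iff_eq hp Nat.prime_two).mp hh), h1 hh, h2 hh]
  have hE : (D.F + 1).natAbs = 2 * D.E.natAbs := by omega
  have hcard : Nat.card G = D.E.natAbs * (2 * (Nat.card S.K * D.F.natAbs)) := by
    rw [hG, hE]; ring
  have e1 := eq_zero_of_defect D.E1 D.E.natAbs (natAbs_deg D.he1 D.E1) hp hcard hc hg
  have e2 := eq_zero_of_defect D.E2 D.E.natAbs
    (by rw [E, D.hE]; exact natAbs_deg D.he2 D.E2) hp hcard hc hg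
  have hnot : ¬ S.InConjK g := fun hh => by
    obtain ⟨x, hx⟩ := hh
    refine h1 (hg.trans ?_)
    rw [← MulEquiv.orderOf_eq (MulAut.conj x) g, MulAut.conj_apply]
    exact S.K.orderOf_dvd_natCard hx
  have hl := D.leaf_other hnot
  rw [e1, e2, mul_zero, mul_zero, add_zero] at hl
  linear_combination hl

theorem pairs {g : G} (hg : ¬ S.InConjK g) :
    (Nat.card {p : G × G // orderOf p.1 = 2 ∧ orderOf p.2 = 2 ∧ p.1 * p.2 = g} : ℂ) *
        (2 * (Nat.card S.K : ℂ)) =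
      (Nat.card {y : G // orderOf y = 2} : ℂ) *
        (1 + conj (D.Ξ g) / (D.F : ℂ) +
          (2 * (Nat.card S.K : ℂ) - 2) * ((1 + conj (D.Ξ g)) / (1 + (D.F : ℂ)))) := by
  classical
  set τ : S.K := ⟨S.t, S.tK⟩ with hτ
  set P : ℂ := 1 + conj (D.Ξ g) / (D.F : ℂ) with hP
  set R : ℂ := (1 + conj (D.Ξ g)) / (1 + (D.F : ℂ)) with hR
  have hF : ((D.F : ℤ) : ℂ) ≠ 0 := Int.cast_ne_zero.mpr D.F_ne
  have hXterm : (D.e : ℂ) * ((D.X : G → ℂ) S.t * conj ((D.X : G → ℂ) g) / (deg D.X : ℂ)) =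
      conj (D.Ξ g) / (D.F : ℂ) := by
    rw [S.centre_t D.aX, Ξ, map_mul, map_intCast, F]
    push_cast
    rcases D.he with h | h <;> rw [h] <;> push_cast <;> ring
  have hin : ∀ l : S.Dual, l ≠ 1 →
      ∑ χ : Cfsg.IrrCharacter G,
          (S.a χ l : ℂ) * ((χ : G → ℂ) S.t * conj ((χ : G → ℂ) g) / (deg χ : ℂ)) =
        P - 2 * (l τ : ℂ) * R := by
    intro l hl
    by_cases hl' : l = S.l0
    · subst hl'
      rw [D.sum0, hXterm, show ((triv : Cfsg.IrrCharacter G) : G → ℂ) S.t = 1 from rfl,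
        show ((triv : Cfsg.IrrCharacter G) : G → ℂ) g = 1 from rfl, deg_triv, D.E1_t, D.E2_t]
      simp only [map_one, Int.cast_one, one_mul, div_one]
      have hE : ((D.E : ℤ) : ℂ) ≠ 0 := Int.cast_ne_zero.mpr D.E_ne
      have hs : (1 : ℂ) + (D.F : ℂ) = -2 * (D.E : ℂ) := by
        have : (1 : ℂ) + (D.F : ℂ) + 2 * (D.E : ℂ) = 0 := by exact_mod_cast D.sum_eq
        linear_combination this
      have hl := congrArg conj (D.leaf_other hg)
      simp only [map_add, map_mul, map_intCast, map_sub, map_neg, map_one] at hl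
      have h1 : (D.e1 : ℂ) * (-(D.e1 : ℂ) * (S.l0 τ : ℂ) * conj ((D.E1 : G → ℂ) g) /
          (deg D.E1 : ℂ)) = -(S.l0 τ : ℂ) * ((D.e1 : ℂ) * conj ((D.E1 : G → ℂ) g)) / (D.E : ℂ) := by
        rw [E]; rcases D.he1 with h | h <;> rw [h] <;> push_cast <;> ring
      have h2 : (D.e2 : ℂ) * (-(D.e2 : ℂ) * (S.l0 τ : ℂ) * conj ((D.E2 : G → ℂ) g) /
          (deg D.E2 : ℂ)) = -(S.l0 τ : ℂ) * ((D.e2 : ℂ) * conj ((D.E2 : G → ℂ) g)) / (D.E : ℂ) := by
        rw [E, D.hE]; rcases D.he2 with h | h <;> rw [h] <;> push_cast <;> ring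
      rw [h1, h2, hP, hR, hs]
      linear_combination (-(S.l0 τ : ℂ) / (D.E : ℂ)) * hl
    · obtain ⟨B, e', -, -, he', hf, hBt, -, hdeg⟩ := S.exists_leaf D.he D.hX D.aX hl hl'
      rw [hf, hXterm, show ((triv : Cfsg.IrrCharacter G) : G → ℂ) S.t = 1 from rfl,
        show ((triv : Cfsg.IrrCharacter G) : G → ℂ) g = 1 from rfl, deg_triv, hBt]
      simp only [map_one, Int.cast_one, one_mul, div_one]
      have hb : ((e' * deg B : ℤ) : ℂ) ≠ 0 :=
        Int.cast_ne_zero.mpr (sign_mul_deg_ne_zero he' B)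
      have hs : (1 : ℂ) + (D.F : ℂ) = -((e' * deg B : ℤ) : ℂ) := by
        have : (D.F : ℂ) + ((e' * deg B : ℤ) : ℂ) = -1 := by
          rw [F]; exact_mod_cast hdeg
        linear_combination this
      have hl := congrArg conj (S.sum_a_other l hg)
      rw [hf (fun χ => (χ : G → ℂ) g),
        show ((triv : Cfsg.IrrCharacter G) : G → ℂ) g = 1 from rfl] at hl
      simp only [map_add, map_mul, map_intCast, map_zero, map_one] at hl
      have hB : (e' : ℂ) * (-2 * (e' : ℂ) * (l τ : ℂ) * conj ((B : G → ℂ) g) / (deg B : ℂ)) =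
          -2 * (l τ : ℂ) * ((e' : ℂ) * conj ((B : G → ℂ) g)) / ((e' * deg B : ℤ) : ℂ) := by
        rcases he' with h | h <;> rw [h] <;> push_cast <;> ring
      have hY : conj (D.Ξ g) = (D.e : ℂ) * conj ((D.X : G → ℂ) g) := by
        rw [Ξ, map_mul, map_intCast]
      rw [hB, hP, hR, hs, hY]
      linear_combination (-2 * (l τ : ℂ) / ((e' * deg B : ℤ) : ℂ)) * hl
  have hS : ∑ χ : Cfsg.IrrCharacter G,
      (χ : G → ℂ) S.t ^ 2 * conj ((χ : G → ℂ) g) / (χ : G → ℂ) 1 =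
      -∑ l : S.Dual, (l τ : ℂ) * ∑ χ : Cfsg.IrrCharacter G,
          (S.a χ l : ℂ) * ((χ : G → ℂ) S.t * conj ((χ : G → ℂ) g) / (deg χ : ℂ)) := by
    simp only [Finset.mul_sum]
    rw [Finset.sum_comm, ← Finset.sum_neg_distrib]
    refine Finset.sum_congr rfl fun χ _ => ?_
    rw [deg_spec, show (χ : G → ℂ) S.t ^ 2 * conj ((χ : G → ℂ) g) / (deg χ : ℂ) =
      (χ : G → ℂ) S.t * ((χ : G → ℂ) S.t * conj ((χ : G → ℂ) g) / (deg χ : ℂ)) by ring]
    conv_lhs => arg 1; rw [S.apply_t χ]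
    rw [neg_mul, Finset.sum_mul]
    refine congrArg Neg.neg (Finset.sum_congr rfl fun l _ => ?_)
    rw [hτ]; ring
  have hval : ∀ l : S.Dual, (l τ : ℂ) * ∑ χ : Cfsg.IrrCharacter G,
          (S.a χ l : ℂ) * ((χ : G → ℂ) S.t * conj ((χ : G → ℂ) g) / (deg χ : ℂ)) =
      (l τ : ℂ) * P - 2 * R - (if l = 1 then P - 2 * R else 0) := by
    intro l
    by_cases hl : l = 1
    · subst hl
      rw [if_pos rfl, MonoidHom.one_apply, Units.val_one]
      simp [a_one]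
    · rw [if_neg hl, hin l hl]
      rcases S.l_t l with u | u <;> rw [hτ, u] <;> ring
  have h := S.card_pairs_char g
  rw [hS] at h
  simp only [hτ] at hval h
  simp only [hval, Finset.sum_sub_distrib, ← Finset.sum_mul, Finset.sum_const, Finset.card_univ,
    card_dual, nsmul_eq_mul, Finset.sum_ite_eq', Finset.mem_univ, if_true, sum_t] at h
  have hG : (Nat.card G : ℂ) =
      (Nat.card {y : G // orderOf y = 2} : ℂ) * (2 * (Nat.card S.K : ℂ)) := by
    exact_mod_cast S.card_involutions_mul.symm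
  have hn : (Nat.card {y : G // orderOf y = 2} : ℂ) ≠ 0 := by
    intro h0
    exact S.card_involutions_odd (by rw [Nat.cast_eq_zero.mp h0]; exact dvd_zero 2)
  refine mul_left_cancel₀ hn ?_
  rw [hG] at h
  linear_combination h

end Shape

end Setup

end Cfsg.Agent.BSW7
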