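import Mathlib

/-!
# Integer vectors of small norm
-/

set_option autoImplicit false

namespace Cfsg.Agent.BSW7

variable {ι : Type*} [Fintype ι]

theorem val_of_norm_lt_four {f : ι → ℤ} {N : ℤ} (h : ∑ i, f i * f i = N) (hN : N < 4) (i : ι) :
    f i = 1 ∨ f i = 0 ∨ f i = -1 := by
  have h1 : f i * f i ≤ ∑ j, f j * f j :=
    Finset.single_le_sum (fun j _ => mul_self_nonneg (f j)) (Finset.mem_univ i)
  have h2 : -2 < f i ∧ f i < 2 := by constructor <;> nlinarith
  omega

theorem card_support {f : ι → ℤ} {N : ℤ} (h : ∑ i, f i * f i = N) (hN : N < 4) :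
    ((Finset.univ.filter fun i => f i ≠ 0).card : ℤ) = N := by
  have hs : ∑ i, f i * f i = ∑ i, if f i ≠ 0 then (1 : ℤ) else 0 := by
    refine Finset.sum_congr rfl fun i _ => ?_
    rcases val_of_norm_lt_four h hN i with h1 | h1 | h1 <;> simp [h1]
  rw [← h, hs, Finset.sum_boole]

theorem exists_two {f : ι → ℤ} (h : ∑ i, f i * f i = 2) :
    ∃ i j, i ≠ j ∧ (f i = 1 ∨ f i = -1) ∧ (f j = 1 ∨ f j = -1) ∧
      ∀ x, f x ≠ 0 → x = i ∨ x = j := by
  classical
  have h1 : (Finset.univ.filter fun i => f i ≠ 0).card = 2 := by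
    exact_mod_cast card_support h (by norm_num)
  obtain ⟨i, j, hij, he⟩ := Finset.card_eq_two.mp h1
  have hm : ∀ x, f x ≠ 0 ↔ x = i ∨ x = j := fun x => by
    simpa using Finset.ext_iff.mp he x
  refine ⟨i, j, hij, ?_, ?_, fun x hx => (hm x).mp hx⟩
  · have := (hm i).mpr (Or.inl rfl)
    have := val_of_norm_lt_four h (by norm_num) i
    omega
  · have := (hm j).mpr (Or.inr rfl)
    have := val_of_norm_lt_four h (by norm_num) j
    omega

theorem exists_three {f : ι → ℤ} (h : ∑ i, f i * f i = 3) :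
    ∃ i j l, i ≠ j ∧ i ≠ l ∧ j ≠ l ∧ (f i = 1 ∨ f i = -1) ∧ (f j = 1 ∨ f j = -1) ∧
      (f l = 1 ∨ f l = -1) ∧ ∀ x, f x ≠ 0 → x = i ∨ x = j ∨ x = l := by
  classical
  have h1 : (Finset.univ.filter fun i => f i ≠ 0).card = 3 := by
    exact_mod_cast card_support h (by norm_num)
  obtain ⟨i, j, l, hij, hil, hjl, he⟩ := Finset.card_eq_three.mp h1
  have hm : ∀ x, f x ≠ 0 ↔ x = i ∨ x = j ∨ x = l := fun x => by
    simpa using Finset.ext_iff.mp he x
  refine ⟨i, j, l, hij, hil, hjl, ?_, ?_, ?_, fun x hx => (hm x).mp hx⟩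
  · have := (hm i).mpr (Or.inl rfl)
    have := val_of_norm_lt_four h (by norm_num) i
    omega
  · have := (hm j).mpr (Or.inr (Or.inl rfl))
    have := val_of_norm_lt_four h (by norm_num) j
    omega
  · have := (hm l).mpr (Or.inr (Or.inr rfl))
    have := val_of_norm_lt_four h (by norm_num) l
    omega

/-- A sum weighted by a vector supported on two points. -/
theorem sum_two {R : Type*} [CommRing R] {f : ι → ℤ} {i j : ι} (hij : i ≠ j)
    (hsupp : ∀ x, f x ≠ 0 → x = i ∨ x = j) (g : ι → R) :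
    ∑ x, (f x : R) * g x = (f i : R) * g i + (f j : R) * g j := by
  classical
  rw [← Finset.sum_pair (f := fun x => (f x : R) * g x) hij]
  refine (Finset.sum_subset (Finset.subset_univ _) fun x _ hx => ?_).symm
  have h0 : f x = 0 := by
    by_contra hne
    exact hx (by simpa using hsupp x hne)
  rw [h0, Int.cast_zero, zero_mul]

/-- A sum weighted by a vector supported on three points. -/
theorem sum_three {R : Type*} [CommRing R] {f : ι → ℤ} {i j l : ι} (hij : i ≠ j) (hil : i ≠ l)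
    (hjl : j ≠ l) (hsupp : ∀ x, f x ≠ 0 → x = i ∨ x = j ∨ x = l) (g : ι → R) :
    ∑ x, (f x : R) * g x = (f i : R) * g i + (f j : R) * g j + (f l : R) * g l := by
  classical
  have h : ∑ x ∈ ({i, j, l} : Finset ι), (f x : R) * g x =
      (f i : R) * g i + (f j : R) * g j + (f l : R) * g l := by
    rw [Finset.sum_insert (by simp [hij, hil]), Finset.sum_pair hjl, add_assoc]
  rw [← h]
  refine (Finset.sum_subset (Finset.subset_univ _) fun x _ hx => ?_).symm
  have h0 : f x = 0 := by
    by_contra hne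
    exact hx (by simpa using hsupp x hne)
  rw [h0, Int.cast_zero, zero_mul]

/-- A two point vector against a small vector with inner product one: one common point. -/
theorem cross_two {f g : ι → ℤ} {i j : ι} (hij : i ≠ j) (hi : f i = 1 ∨ f i = -1)
    (hj : f j = 1 ∨ f j = -1) (hsupp : ∀ x, f x ≠ 0 → x = i ∨ x = j)
    (hg : ∀ x, g x = 1 ∨ g x = 0 ∨ g x = -1) (h : ∑ x, f x * g x = 1) :
    (g i = f i ∧ g j = 0) ∨ (g i = 0 ∧ g j = f j) := by
  have h1 := sum_two (R := ℤ) hij hsupp g
  simp only [Int.cast_id] at h1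
  rw [h] at h1
  rcases hi with hi | hi <;> rcases hj with hj | hj <;> rcases hg i with a | a | a <;>
    rcases hg j with b | b | b <;> rw [hi, hj, a, b] at h1 ⊢ <;> omega

end Cfsg.Agent.BSW7
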