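import Cfsg.Agent.BSW7.Char
import Cfsg.Agent.BSW7.Signed

/-!
# Abstract Brauer–Suzuki–Wall: decomposition of the induced class functions
-/

set_option autoImplicit false
set_option linter.unusedSectionVars false

open scoped ComplexConjugate

namespace Cfsg.Agent.BSW7.Setup

open Subgroup

variable {G : Type*} [Group G] [Fintype G] (S : Setup G)

theorem A_inv (l : S.Dual) : S.A l⁻¹ = S.A l := by
  funext g
  by_cases hg : S.InConjK g
  · obtain ⟨x, hx⟩ := hg
    rw [← S.A_classFun l⁻¹ g x, ← S.A_classFun l g x,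
      show x * g * x⁻¹ = ((⟨_, hx⟩ : S.K) : G) from rfl, A_K, A_K]
    simp only [MonoidHom.inv_apply, map_inv, inv_inv]
    ring
  · rw [A_other S _ hg, A_other S _ hg]

theorem a_inv (χ : Cfsg.IrrCharacter G) (l : S.Dual) : S.a χ l⁻¹ = S.a χ l := by
  have h := S.a_spec χ l⁻¹
  rw [A_inv, a_spec] at h
  exact_mod_cast h.symm

open scoped Classical in
/-- The coefficient vector without the trivial character. -/
noncomputable def v (l : S.Dual) (χ : Cfsg.IrrCharacter G) : ℤ :=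
  if χ = triv then 0 else S.a χ l

theorem v_triv (l : S.Dual) : S.v l triv = 0 := by
  rw [v, if_pos rfl]

theorem v_of_ne {χ : Cfsg.IrrCharacter G} (l : S.Dual) (h : χ ≠ triv) : S.v l χ = S.a χ l := by
  rw [v, if_neg h]

theorem ne_triv_of_v {χ : Cfsg.IrrCharacter G} {l : S.Dual} (h : S.v l χ ≠ 0) : χ ≠ triv :=
  fun h' => h (h' ▸ S.v_triv l)

theorem sum_split {R : Type*} [CommRing R] {l : S.Dual} (hl : l ≠ 1)
    (f : Cfsg.IrrCharacter G → R) :
    ∑ χ : Cfsg.IrrCharacter G, (S.a χ l : R) * f χ =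
      f triv + ∑ χ : Cfsg.IrrCharacter G, (S.v l χ : R) * f χ := by
  classical
  have : ∀ χ : Cfsg.IrrCharacter G, (S.a χ l : R) * f χ =
      (if χ = triv then f triv else 0) + (S.v l χ : R) * f χ := by
    intro χ
    by_cases h : χ = triv
    · subst h
      rw [if_pos rfl, v_triv, S.a_triv hl]
      simp
    · rw [if_neg h, v_of_ne S l h, zero_add]
  simp only [this, Finset.sum_add_distrib, Finset.sum_ite_eq', Finset.mem_univ, if_true]

open scoped Classical in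
theorem sum_v_mul (l m : S.Dual) (hl : l ≠ 1) (hm : m ≠ 1) :
    ∑ χ : Cfsg.IrrCharacter G, S.v l χ * S.v m χ =
      1 + (if l = m then 1 else 0) + (if l = m⁻¹ then 1 else 0) := by
  have h := S.sum_a_mul l m hl hm
  have h1 := S.sum_split (R := ℤ) hl (fun χ => S.a χ m)
  simp only [Int.cast_id, S.a_triv hm] at h1
  rw [h1] at h
  have h2 : ∀ χ : Cfsg.IrrCharacter G, S.v l χ * S.a χ m = S.v l χ * S.v m χ := by
    intro χ
    by_cases hχ : χ = triv
    · subst hχ; simp [v_triv]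
    · rw [v_of_ne S m hχ]
  simp only [h2] at h
  omega

/-- The degree of an irreducible character, as an integer. -/
noncomputable def deg (χ : Cfsg.IrrCharacter G) : ℤ :=
  ((CharCore.IsIrrCharacter.exists_degree χ.2).choose : ℤ)

theorem deg_spec (χ : Cfsg.IrrCharacter G) : (χ : G → ℂ) 1 = (deg χ : ℂ) := by
  rw [deg, Int.cast_natCast]
  exact (CharCore.IsIrrCharacter.exists_degree χ.2).choose_spec.2

theorem deg_pos (χ : Cfsg.IrrCharacter G) : 0 < deg χ :=
  Int.natCast_pos.mpr (CharCore.IsIrrCharacter.exists_degree χ.2).choose_spec.1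

theorem deg_triv : deg (triv : Cfsg.IrrCharacter G) = 1 := by
  have h := deg_spec (triv : Cfsg.IrrCharacter G)
  rw [show ((triv : Cfsg.IrrCharacter G) : G → ℂ) 1 = 1 from rfl] at h
  exact_mod_cast h.symm

theorem sum_v_deg {l : S.Dual} (hl : l ≠ 1) :
    ∑ χ : Cfsg.IrrCharacter G, S.v l χ * deg χ = -1 := by
  have h : (∑ χ : Cfsg.IrrCharacter G, S.a χ l * deg χ : ℤ) = 0 := by
    have := S.sum_a_degree l
    simp only [deg_spec] at this
    exact_mod_cast this
  have h1 := S.sum_split (R := ℤ) hl (fun χ => deg χ)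
  simp only [Int.cast_id, deg_triv] at h1
  omega

theorem exists_l0 : ∃ m : S.Dual, m ≠ 1 ∧ m⁻¹ = m ∧ ∀ l : S.Dual, l⁻¹ = l → l = 1 ∨ l = m := by
  obtain ⟨m, h1, h2, h3⟩ := exists_unique_dual_involution (A := S.K) (t := ⟨S.t, S.tK⟩)
    (fun h => S.t_ne_one (congrArg Subtype.val h)) (Subtype.ext S.t_mul_self) fun x hx =>
      (S.eq_t_of_sq x.2 (congrArg Subtype.val hx)).imp (fun h => Subtype.ext h)
        (fun h => Subtype.ext h)
  exact ⟨m, h1, inv_eq_of_mul_eq_one_right (G := S.Dual) h2,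
    fun l hl => h3 l (by rw [← inv_mul_cancel l, hl])⟩

/-- The linear character of order two. -/
noncomputable def l0 : S.Dual := S.exists_l0.choose

theorem l0_ne_one : S.l0 ≠ 1 := S.exists_l0.choose_spec.1

theorem l0_inv : S.l0⁻¹ = S.l0 := S.exists_l0.choose_spec.2.1

theorem l0_unique {l : S.Dual} (hl : l⁻¹ = l) : l = 1 ∨ l = S.l0 :=
  S.exists_l0.choose_spec.2.2 l hl

theorem inv_ne_one' {l : S.Dual} (hl : l ≠ 1) : l⁻¹ ≠ 1 := fun h =>
  hl (MonoidHom.ext fun x => inv_eq_one.mp (DFunLike.congr_fun h x))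

theorem inv_ne_self {l : S.Dual} (hl : l ≠ 1) (hl' : l ≠ S.l0) : l⁻¹ ≠ l := fun h =>
  (S.l0_unique h).elim hl hl'

theorem norm_two {l : S.Dual} (hl : l ≠ 1) (hl' : l ≠ S.l0) :
    ∑ χ : Cfsg.IrrCharacter G, S.v l χ * S.v l χ = 2 := by
  classical
  rw [S.sum_v_mul l l hl hl, if_pos rfl, if_neg (S.inv_ne_self hl hl').symm]
  norm_num

theorem norm_three : ∑ χ : Cfsg.IrrCharacter G, S.v S.l0 χ * S.v S.l0 χ = 3 := by
  classical
  rw [S.sum_v_mul _ _ S.l0_ne_one S.l0_ne_one, l0_inv, if_pos rfl]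
  norm_num

theorem v_small {m : S.Dual} (hm : m ≠ 1) (χ : Cfsg.IrrCharacter G) :
    S.v m χ = 1 ∨ S.v m χ = 0 ∨ S.v m χ = -1 := by
  by_cases h : m = S.l0
  · exact val_of_norm_lt_four (h ▸ S.norm_three) (by norm_num) χ
  · exact val_of_norm_lt_four (S.norm_two hm h) (by norm_num) χ

theorem cross {l m : S.Dual} (hl : l ≠ 1) (hm : m ≠ 1) (h1 : l ≠ m) (h2 : l ≠ m⁻¹) :
    ∑ χ : Cfsg.IrrCharacter G, S.v l χ * S.v m χ = 1 := by
  classical
  rw [S.sum_v_mul l m hl hm, if_neg h1, if_neg h2]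
  norm_num

/-- `x` takes the values `1` or `-1` on linear characters evaluated at `t`. -/
theorem l_t (l : S.Dual) : (l ⟨S.t, S.tK⟩ : ℂ) = 1 ∨ (l ⟨S.t, S.tK⟩ : ℂ) = -1 := by
  have h : (⟨S.t, S.tK⟩ : S.K) * ⟨S.t, S.tK⟩ = 1 := Subtype.ext S.t_mul_self
  have h2 := congrArg (fun u => ((l u : ℂˣ) : ℂ)) h
  simp only [map_mul, Units.val_mul, map_one, Units.val_one] at h2
  exact mul_self_eq_one_iff.mp h2

theorem l_t_inv (l : S.Dual) : (l⁻¹ ⟨S.t, S.tK⟩ : ℂ) = (l ⟨S.t, S.tK⟩ : ℂ) := by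
  rw [MonoidHom.inv_apply, ← map_inv,
    inv_eq_of_mul_eq_one_right (show (⟨S.t, S.tK⟩ : S.K) * ⟨S.t, S.tK⟩ = 1 from
      Subtype.ext S.t_mul_self)]

theorem sum_t : ∑ l : S.Dual, (l ⟨S.t, S.tK⟩ : ℂ) = 0 :=
  sum_dual_eq_zero fun h => S.t_ne_one (congrArg Subtype.val h)

theorem apply_t (χ : Cfsg.IrrCharacter G) :
    (χ : G → ℂ) S.t = - ∑ l : S.Dual, (S.a χ l : ℂ) * (l ⟨S.t, S.tK⟩ : ℂ) :=
  S.apply_K χ (x := ⟨S.t, S.tK⟩) fun h => S.t_ne_one (congrArg Subtype.val h)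

theorem equation' (l : S.Dual) (hl : l ≠ 1) :
    (Nat.card {y : G // orderOf y = 2} : ℂ) *
        (1 + ∑ χ : Cfsg.IrrCharacter G, (S.v l χ : ℂ) * ((χ : G → ℂ) S.t ^ 2 / (deg χ : ℂ))) =
      2 * (Nat.card S.K : ℂ) ^ 2 := by
  have h := S.equation l hl
  rw [Finset.sum_congr rfl fun (χ : Cfsg.IrrCharacter G) _ => show (χ : G → ℂ) S.t ^ 2 * (S.a χ l : ℂ) / (χ : G → ℂ) 1 =
    (S.a χ l : ℂ) * ((χ : G → ℂ) S.t ^ 2 / (deg χ : ℂ)) by rw [deg_spec]; ring,
    S.sum_split hl] at h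
  rwa [show ((triv : Cfsg.IrrCharacter G) : G → ℂ) S.t = 1 from rfl, deg_triv,
    Int.cast_one, one_pow, div_one] at h

/-- Two linear characters whose coefficient vectors avoid a common point with that of `l0`
cannot exist. -/
theorem no_second_centre {l1 l : S.Dual} (hl1 : l1 ≠ 1) (hl1' : l1 ≠ S.l0) (hl : l ≠ 1)
    (hl' : l ≠ S.l0) (hne : l ≠ l1) (hne' : l ≠ l1⁻¹) {X B : Cfsg.IrrCharacter G} (hXB : X ≠ B)
    (hX1 : S.v l1 X = 1 ∨ S.v l1 X = -1) (hB1 : S.v l1 B = 1 ∨ S.v l1 B = -1)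
    (hs1 : ∀ x, S.v l1 x ≠ 0 → x = X ∨ x = B)
    (h0X : S.v S.l0 X = S.v l1 X) (h0B : S.v S.l0 B = 0)
    (hlX : S.v l X = 0) (hlB : S.v l B = S.v l1 B) : False := by
  classical
  obtain ⟨p, q, hpq, hp, hq, hs⟩ := exists_two (S.norm_two hl hl')
  -- the second point `C` of `l`
  obtain ⟨C, hBC, hC, hsl⟩ : ∃ C, B ≠ C ∧ (S.v l C = 1 ∨ S.v l C = -1) ∧
      ∀ x, S.v l x ≠ 0 → x = B ∨ x = C := by
    rcases hs B (by omega) with h | h
    · exact ⟨q, h ▸ hpq, hq, fun x hx => h ▸ hs x hx⟩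
    · exact ⟨p, h ▸ hpq.symm, hp, fun x hx => h ▸ (hs x hx).symm⟩
  have hXC : X ≠ C := fun h => by rw [← h] at hC; omega
  have hBl : S.v l B = 1 ∨ S.v l B = -1 := hlB ▸ hB1
  have h0C : S.v S.l0 C = S.v l C := by
    rcases cross_two hBC hBl hC hsl (fun x => S.v_small S.l0_ne_one x)
      (S.cross hl S.l0_ne_one hl' (by rw [l0_inv]; exact hl')) with h | h
    · omega
    · exact h.2
  have d1 := S.sum_v_deg hl1
  have e1 := sum_two (R := ℤ) hXB hs1 deg
  have d2 := S.sum_v_deg hl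
  have e2 := sum_two (R := ℤ) hBC hsl deg
  simp only [Int.cast_id] at e1 e2
  rw [e1] at d1
  rw [e2, hlB] at d2
  -- every linear character is among six
  have huniv : ∀ m : S.Dual, m = 1 ∨ m = S.l0 ∨ m = l1 ∨ m = l1⁻¹ ∨ m = l ∨ m = l⁻¹ := by
    intro m
    by_contra hcon
    simp only [not_or] at hcon
    obtain ⟨hm, hm', a1, a2, a3, a4⟩ := hcon
    have c1 := cross_two hXB hX1 hB1 hs1 (fun x => S.v_small hm x)
      (S.cross hl1 hm (Ne.symm a1) (fun h => a2 (by rw [h]; exact (inv_inv m).symm)))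
    have c2 := cross_two hBC hBl hC hsl (fun x => S.v_small hm x)
      (S.cross hl hm (Ne.symm a3) (fun h => a4 (by rw [h]; exact (inv_inv m).symm)))
    obtain ⟨p', q', hpq', hp', hq', hs'⟩ := exists_two (S.norm_two hm hm')
    have d3 := S.sum_v_deg hm
    rcases c1 with ⟨m1, m2⟩ | ⟨m1, m2⟩
    · rcases c2 with ⟨m3, m4⟩ | ⟨m3, m4⟩
      · omega
      · have hsm : ∀ x, S.v m x ≠ 0 → x = X ∨ x = C := by
          intro x hx
          rcases hs' X (by omega) with h | h <;> rcases hs' C (by omega) with h'' | h'' <;>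
            rcases hs' x hx with h' | h'
          all_goals first
            | exact absurd (h.trans h''.symm) hXC
            | exact Or.inl (h'.trans h.symm)
            | exact Or.inr (h'.trans h''.symm)
        have e3 := sum_two (R := ℤ) hXC hsm deg
        simp only [Int.cast_id] at e3
        rw [e3, m1, m4] at d3
        omega
    · rcases c2 with ⟨m3, m4⟩ | ⟨m3, m4⟩
      · -- `m` is supported on `B` and a new point `D`
        obtain ⟨D, hBD, hD, hsm⟩ : ∃ D, B ≠ D ∧ (S.v m D = 1 ∨ S.v m D = -1) ∧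
            ∀ x, S.v m x ≠ 0 → x = B ∨ x = D := by
          rcases hs' B (by omega) with h | h
          · exact ⟨q', h ▸ hpq', hq', fun x hx => h ▸ hs' x hx⟩
          · exact ⟨p', h ▸ hpq'.symm, hp', fun x hx => h ▸ (hs' x hx).symm⟩
        have hm0 : S.v S.l0 D = S.v m D := by
          rcases cross_two hBD (by omega) hD hsm (fun x => S.v_small S.l0_ne_one x)
            (S.cross hm S.l0_ne_one hm' (by rw [l0_inv]; exact hm')) with h | h
          · omega
          · exact h.2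
        have hXD : X ≠ D := fun h => by rw [← h] at hD; omega
        have hCD : C ≠ D := fun h => by rw [← h] at hD; omega
        obtain ⟨i, j, r, hij, hir, hjr, -, -, -, hs0⟩ := exists_three S.norm_three
        have hcov : ∀ x, S.v S.l0 x ≠ 0 → x = X ∨ x = C ∨ x = D := by
          intro x hx
          rcases hs0 X (by omega) with a | a | a <;> rcases hs0 C (by omega) with b | b | b <;>
            rcases hs0 D (by omega) with c | c | c <;> rcases hs0 x hx with d | d | d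
          all_goals first
            | exact absurd (a.trans b.symm) hXC
            | exact absurd (a.trans c.symm) hXD
            | exact absurd (b.trans c.symm) hCD
            | exact Or.inl (d.trans a.symm)
            | exact Or.inr (Or.inl (d.trans b.symm))
            | exact Or.inr (Or.inr (d.trans c.symm))
        have e3 := sum_three (R := ℤ) hXC hXD hCD hcov deg
        have e4 := sum_two (R := ℤ) hBD hsm deg
        have d4 := S.sum_v_deg S.l0_ne_one
        simp only [Int.cast_id] at e3 e4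
        rw [e4, m3, hlB] at d3
        rw [e3, h0X, h0C, hm0] at d4
        omega
      · omega
  -- evaluation at `t`
  set τ : S.K := ⟨S.t, S.tK⟩ with hτ
  have hU : (Finset.univ : Finset S.Dual) = {1, S.l0, l1, l1⁻¹, l, l⁻¹} := by
    ext m; simpa using huniv m
  have hd1 : l1⁻¹ ≠ S.l0 := fun h => hl1' (by rw [← inv_inv l1, h, l0_inv])
  have hd2 : l⁻¹ ≠ S.l0 := fun h => hl' (by rw [← inv_inv l, h, l0_inv])
  have hd3 : l⁻¹ ≠ l1 := fun h => hne' (by rw [← h]; exact (inv_inv l).symm)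
  have hd4 : l⁻¹ ≠ l1⁻¹ := fun h => hne (inv_injective h)
  have hsix : ∀ f : S.Dual → ℂ, ∑ m, f m = f 1 + (f S.l0 + (f l1 + (f l1⁻¹ + (f l + f l⁻¹)))) := by
    intro f
    rw [show (Finset.univ : Finset S.Dual) = _ from hU,
      Finset.sum_insert (by
        simp only [Finset.mem_insert, Finset.mem_singleton, not_or]
        exact ⟨S.l0_ne_one.symm, hl1.symm, (S.inv_ne_one' hl1).symm, hl.symm,
          (S.inv_ne_one' hl).symm⟩),
      Finset.sum_insert (by simp [hl1'.symm, hd1.symm, hl'.symm, hd2.symm]),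
      Finset.sum_insert (by
        simp [(S.inv_ne_self hl1 hl1').symm, hne.symm, hd3.symm]),
      Finset.sum_insert (by simp [hne'.symm, hd4.symm]),
      Finset.sum_pair (S.inv_ne_self hl hl').symm]
  have hsum := S.sum_t
  rw [hsix] at hsum
  simp only [l_t_inv, MonoidHom.one_apply, Units.val_one] at hsum
  have hval : ∀ χ : Cfsg.IrrCharacter G, χ ≠ triv → (χ : G → ℂ) S.t =
      -((S.v S.l0 χ : ℂ) * (S.l0 τ : ℂ) + 2 * (S.v l1 χ : ℂ) * (l1 τ : ℂ) +
        2 * (S.v l χ : ℂ) * (l τ : ℂ)) := by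
    intro χ hχ
    rw [S.apply_t, hsix]
    simp only [l_t_inv, a_inv, a_one, v_of_ne S _ hχ, hτ]
    push_cast
    ring
  have hXt : X ≠ triv := S.ne_triv_of_v (l := l1) (by omega)
  have hBt : B ≠ triv := S.ne_triv_of_v (l := l1) (by omega)
  have hCt : C ≠ triv := S.ne_triv_of_v (l := l) (by omega)
  have hl1C : S.v l1 C = 0 := by
    by_contra h
    rcases hs1 C h with h' | h'
    exacts [hXC h'.symm, hBC h'.symm]
  have q1 := S.equation' l1 hl1
  have q2 := S.equation' l hl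
  rw [sum_two hXB hs1] at q1
  rw [sum_two hBC hsl] at q2
  rw [hval X hXt, hval B hBt, h0X, h0B, hlX, hlB] at q1
  rw [hval B hBt, hval C hCt, h0C, h0B, hlB, hl1C] at q2
  have hs0 : (S.l0 τ : ℂ) = -1 ∧ (l τ : ℂ) = -(l1 τ : ℂ) := by
    rcases S.l_t S.l0 with a | a <;> rcases S.l_t l1 with b | b <;> rcases S.l_t l with c | c <;>
      rw [a, b, c] at hsum <;> first
        | (exfalso; norm_num at hsum; done)
        | (refine ⟨a, ?_⟩; rw [b, c]; done)
        | (refine ⟨a, ?_⟩; rw [b, c]; norm_num)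
  obtain ⟨ha, hc⟩ := hs0
  rw [ha, hc] at q1 q2
  have hn : (Nat.card {y : G // orderOf y = 2} : ℂ) ≠ 0 := by
    intro h
    exact S.card_involutions_odd (by rw [Nat.cast_eq_zero.mp h]; exact dvd_zero 2)
  have q3 := mul_left_cancel₀ hn (q1.trans q2.symm)
  -- the signed degrees of `X` and `C` agree
  have hxc : S.v l1 X * deg X = S.v l C * deg C := by omega
  have hu : (S.v l1 X : ℂ) ^ 2 = 1 := by
    rcases hX1 with u | u <;> simp [u]
  have hz : (S.v l C : ℂ) ^ 2 = 1 := by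
    rcases hC with u | u <;> simp [u]
  have hxc' : (S.v l1 X : ℂ) * (deg X : ℂ) = (S.v l C : ℂ) * (deg C : ℂ) := by exact_mod_cast hxc
  have hdX : (deg X : ℂ) ≠ 0 := Int.cast_ne_zero.mpr (deg_pos X).ne'
  have hdC : (deg C : ℂ) ≠ 0 := Int.cast_ne_zero.mpr (deg_pos C).ne'
  set b : ℂ := (l1 τ : ℂ) with hb
  have q4 : (S.v l1 X : ℂ) * (S.v l1 X : ℂ) ^ 2 * (2 * b - 1) ^ 2 * (deg C : ℂ) =
      (S.v l C : ℂ) * (S.v l C : ℂ) ^ 2 * (1 + 2 * b) ^ 2 * (deg X : ℂ) := by
    have hBdeg : (deg B : ℂ) ≠ 0 := Int.cast_ne_zero.mpr (deg_pos B).ne'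
    push_cast at q3
    field_simp at q3
    refine mul_left_cancel₀ hBdeg ?_
    linear_combination q3
  rw [hu, hz] at q4
  have q5 : (deg X : ℂ) * (deg C : ℂ) * ((2 * b - 1) ^ 2 - (1 + 2 * b) ^ 2) = 0 := by
    linear_combination (S.v l1 X : ℂ) * (deg X : ℂ) * q4
      - (S.v l C : ℂ) * (1 + 2 * b) ^ 2 * (deg X : ℂ) * hxc'.symm
      - (deg X : ℂ) * (deg C : ℂ) * (2 * b - 1) ^ 2 * hu
      + (deg X : ℂ) * (deg C : ℂ) * (1 + 2 * b) ^ 2 * hz
  rcases S.l_t l1 with hb1 | hb1 <;> rw [← hb] at hb1 <;> rw [hb1] at q5 <;>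
    norm_num [hdX, hdC] at q5

/-- There is a common constituent of all the `A l`. -/
theorem exists_centre : ∃ (X : Cfsg.IrrCharacter G) (e : ℤ), X ≠ triv ∧ (e = 1 ∨ e = -1) ∧
    ∀ l : S.Dual, l ≠ 1 → S.a X l = e := by
  classical
  by_cases hex : ∃ l : S.Dual, l ≠ 1 ∧ l ≠ S.l0
  · obtain ⟨l1, hl1, hl1'⟩ := hex
    obtain ⟨p, q, hpq, hp, hq, hs⟩ := exists_two (S.norm_two hl1 hl1')
    obtain ⟨X, B, hXB, hX, hB, hs1, h0X, h0B⟩ : ∃ X B, X ≠ B ∧
        (S.v l1 X = 1 ∨ S.v l1 X = -1) ∧ (S.v l1 B = 1 ∨ S.v l1 B = -1) ∧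
        (∀ x, S.v l1 x ≠ 0 → x = X ∨ x = B) ∧ S.v S.l0 X = S.v l1 X ∧ S.v S.l0 B = 0 := by
      rcases cross_two hpq hp hq hs (fun x => S.v_small S.l0_ne_one x)
        (S.cross hl1 S.l0_ne_one hl1' (by rw [l0_inv]; exact hl1')) with h | h
      · exact ⟨p, q, hpq, hp, hq, hs, h.1, h.2⟩
      · exact ⟨q, p, hpq.symm, hq, hp, fun x hx => (hs x hx).symm, h.2, h.1⟩
    have hXt : X ≠ triv := S.ne_triv_of_v (l := l1) (by omega)
    refine ⟨X, S.v l1 X, hXt, hX, fun l hl => ?_⟩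
    rw [← v_of_ne S l hXt]
    by_cases h0 : l = S.l0
    · rw [h0, h0X]
    by_cases h1 : l = l1
    · rw [h1]
    by_cases h2 : l = l1⁻¹
    · rw [h2, v_of_ne S _ hXt, a_inv, ← v_of_ne S _ hXt]
    rcases cross_two hXB hX hB hs1 (fun x => S.v_small hl x)
      (S.cross hl1 hl (Ne.symm h1) (fun h => h2 (by rw [h]; exact (inv_inv l).symm))) with h | h
    · exact h.1
    · exact (S.no_second_centre hl1 hl1' hl h0 h1 h2 hXB hX hB hs1 h0X h0B h.1 h.2).elim
  · obtain ⟨i, j, r, -, -, -, hi, -, -, -⟩ := exists_three S.norm_three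
    have hit : i ≠ triv := S.ne_triv_of_v (l := S.l0) (by omega)
    refine ⟨i, S.v S.l0 i, hit, hi, fun l hl => ?_⟩
    have : l = S.l0 := by
      by_contra h
      exact hex ⟨l, hl, h⟩
    rw [this, v_of_ne S _ hit]

end Cfsg.Agent.BSW7.Setup
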