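import Cfsg.Agent.BSW7.PSL
import Cfsg.Agent.S0514
import Cfsg.Agent.Lib.Involution.IndexTwo
import Cfsg.Agent.InvChar.ZStarApps

/-!
# Brauer–Suzuki–Wall: simple groups with dihedral Sylow 2-subgroups and small centralizer core
-/

set_option autoImplicit false
set_option linter.unusedSectionVars false

namespace Cfsg.Agent.BSW7

open Subgroup

/-- A cyclic subgroup of index two of a dihedral group is inverted by every element outside, all
of which are involutions. -/
theorem dihedral_outside {n : ℕ} (hn : 2 ≤ n) (Z : Subgroup (DihedralGroup n)) [IsCyclic Z]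
    (hidx : Z.index = 2) {x : DihedralGroup n} (hx : x ∉ Z) :
    x * x = 1 ∧ ∀ z ∈ Z, x * z * x⁻¹ = z⁻¹ := by
  haveI : NeZero n := ⟨by omega⟩
  have hcard : Nat.card Z = n := by
    have h := Z.card_mul_index
    rw [hidx, DihedralGroup.nat_card] at h
    omega
  obtain ⟨g, hg⟩ := IsCyclic.exists_generator (α := Z)
  have hgen : ∀ z ∈ Z, z ∈ zpowers (g : DihedralGroup n) := fun z hz => by
    obtain ⟨j, hj⟩ := mem_zpowers_iff.mp (hg ⟨z, hz⟩)
    exact mem_zpowers_iff.mpr ⟨j, by rw [← Subgroup.coe_zpow, hj]⟩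
  have hord : orderOf (g : DihedralGroup n) = n := by
    rw [Subgroup.orderOf_coe, orderOf_eq_card_of_forall_mem_zpowers hg, hcard]
  rcases hgv : (g : DihedralGroup n) with i | i
  · -- `Z` is the rotation subgroup
    let R : Subgroup (DihedralGroup n) := zpowers (DihedralGroup.r 1)
    have hr : ∀ z ∈ Z, ∃ j, z = DihedralGroup.r j := by
      intro z hz
      obtain ⟨j, hj⟩ := mem_zpowers_iff.mp (hgen z hz)
      exact ⟨i * j, by rw [← hj, hgv, DihedralGroup.r_zpow]⟩
    have hrot : ∀ j : ZMod n, DihedralGroup.r j ∈ Z := by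
      have hle : Z ≤ R := fun z hz => by
        obtain ⟨j, rfl⟩ := hr z hz
        exact mem_zpowers_iff.mpr ⟨(j.val : ℤ), by
          rw [DihedralGroup.r_one_zpow, Int.cast_natCast, ZMod.natCast_zmod_val]⟩
      have heq : Z = R := Subgroup.eq_of_le_of_card_ge hle (by
        rw [Nat.card_zpowers, DihedralGroup.orderOf_r_one, hcard])
      intro j
      rw [heq]
      exact mem_zpowers_iff.mpr ⟨(j.val : ℤ), by
        rw [DihedralGroup.r_one_zpow, Int.cast_natCast, ZMod.natCast_zmod_val]⟩
    rcases x with j | j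
    · exact absurd (hrot j) hx
    · refine ⟨DihedralGroup.sr_mul_self j, fun z hz => ?_⟩
      obtain ⟨l, rfl⟩ := hr z hz
      simp [DihedralGroup.inv_sr]
  · -- `n = 2`
    have h2 : n = 2 := by rw [← hord, hgv, DihedralGroup.orderOf_sr]
    subst h2
    have hsq : ∀ y : DihedralGroup 2, y * y = 1 := by decide
    have hcm : ∀ y z : DihedralGroup 2, y * z = z * y := by decide
    refine ⟨hsq x, fun z _ => ?_⟩
    rw [hcm x z, mul_inv_cancel_right]
    exact (inv_eq_of_mul_eq_one_right (hsq z)).symm

/-- A central involution of a dihedral group lies in a cyclic subgroup of index two. -/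
theorem dihedral_cyclic_index_two {n : ℕ} (hn : 2 ≤ n) {t : DihedralGroup n} (ht : orderOf t = 2)
    (hc : ∀ x, x * t = t * x) :
    ∃ Z : Subgroup (DihedralGroup n), IsCyclic Z ∧ Z.index = 2 ∧ t ∈ Z := by
  haveI : NeZero n := ⟨by omega⟩
  rcases eq_or_ne n 2 with rfl | h2
  · refine ⟨zpowers t, inferInstance, ?_, mem_zpowers t⟩
    have h := (zpowers t).card_mul_index
    rw [Nat.card_zpowers, ht, DihedralGroup.nat_card] at h
    omega
  · refine ⟨zpowers (DihedralGroup.r 1), inferInstance, ?_, ?_⟩
    · have h := (zpowers (DihedralGroup.r (1 : ZMod n))).card_mul_index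
      rw [Nat.card_zpowers, DihedralGroup.orderOf_r_one, DihedralGroup.nat_card,
        mul_comm 2 n] at h
      exact Nat.eq_of_mul_eq_mul_left (by omega) h
    · rcases t with j | j
      · exact mem_zpowers_iff.mpr ⟨(j.val : ℤ), by
          rw [DihedralGroup.r_one_zpow, Int.cast_natCast, ZMod.natCast_zmod_val]⟩
      · exfalso
        have h := hc (DihedralGroup.r 1)
        simp only [DihedralGroup.r_mul_sr, DihedralGroup.sr_mul_r, DihedralGroup.sr.injEq] at h
        have h' : ((2 : ℕ) : ZMod n) = 0 := by push_cast; linear_combination -h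
        exact h2 (Nat.le_antisymm
          (Nat.le_of_dvd two_pos ((ZMod.natCast_eq_zero_iff 2 n).mp h') |>.trans le_rfl) hn)

variable {G : Type*} [Group G] [Finite G]

theorem exists_setup [IsSimpleGroup G] (hG : ¬ IsMulCommutative G) (S : Sylow 2 G) (n : ℕ)
    (hn : 2 ≤ n) (hS : Nonempty ((S : Subgroup G) ≃* DihedralGroup n)) (t : G) (ht : orderOf t = 2)
    (htS : t ∈ (S : Subgroup G))
    (htZ : ∀ s ∈ (S : Subgroup G), s * t = t * s) (O : Subgroup G)
    (hO : O = (Cfsg.oddCore (Subgroup.centralizer ({t} : Set G))).map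
      (Subgroup.centralizer ({t} : Set G)).subtype)
    (ha : O ≠ ⊥ → IsCyclic ((S : Subgroup G) ⊓ Subgroup.centralizer (O : Set G) : Subgroup G) ∧
      ((S : Subgroup G) ⊓ Subgroup.centralizer (O : Set G)).relIndex (S : Subgroup G) = 2)
    (hb : ∀ s ∈ (S : Subgroup G), s ∉ Subgroup.centralizer (O : Set G) →
      ∀ y ∈ O, s * y * s⁻¹ = y⁻¹)
    (hc : ∀ Y : Subgroup G, Y ≤ O → Y ≠ ⊥ →
      Subgroup.normalizer (Y : Set G) ≤ Subgroup.centralizer ({t} : Set G)) :
    Nonempty (Setup G) := by
  classical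
  obtain ⟨e⟩ := hS
  set C := centralizer ({t} : Set G) with hC
  have hSC : (S : Subgroup G) ≤ C := fun s hs => mem_centralizer_singleton_iff.mpr (htZ s hs)
  have hOC : O ≤ C := hO ▸ Subgroup.map_subtype_le _
  -- the order of `C` and the core
  obtain ⟨M, hMn, hModd, k, hk⟩ := S0514.result S n hn ⟨e⟩ t ht
  have hMO : M ≤ Cfsg.oddCore C := InvChar.le_oddCore hMn hModd
  have hOodd : Odd (Nat.card O) := by
    rw [hO, Subgroup.card_map_of_injective C.subtype_injective]
    exact InvChar.odd_oddCore
  have hcop2 : ∀ m, Nat.Coprime (Nat.card O) (2 ^ m) := fun m =>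
    Nat.Coprime.pow_right m (Nat.coprime_two_right.mpr hOodd)
  obtain ⟨b, hb2⟩ := S.2.exists_card_eq
  have hcop : Nat.Coprime (Nat.card O) (Nat.card S) := hb2 ▸ hcop2 b
  have hCS : C ≤ O ⊔ S := by
    refine le_of_eq (Subgroup.eq_of_le_of_card_ge (sup_le hOC hSC) ?_).symm
    have h1 : Nat.card M ∣ Nat.card O := by
      rw [hO, Subgroup.card_map_of_injective C.subtype_injective]
      exact card_dvd_of_le hMO
    have h2 : (2 : ℕ) ^ k ∣ Nat.card S := by
      haveI := Fact.mk Nat.prime_two
      refine S.pow_dvd_card_of_pow_dvd_card ?_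
      refine dvd_trans ?_ (C.card_subgroup_dvd_card)
      rw [← M.card_mul_index, hk]
      exact Dvd.intro_left _ rfl
    rw [← M.card_mul_index, hk]
    refine Nat.le_of_dvd Nat.card_pos (dvd_trans (mul_dvd_mul h1 h2) ?_)
    exact hcop.mul_dvd_of_dvd_of_dvd (card_dvd_of_le le_sup_left) (card_dvd_of_le le_sup_right)
  have hdisj : ∀ x, x ∈ O → x ∈ (S : Subgroup G) → x = 1 := fun x hx hx' =>
    Subgroup.mem_bot.mp (Subgroup.inf_eq_bot_of_coprime hcop ▸ Subgroup.mem_inf.mpr ⟨hx, hx'⟩)
  -- the cyclic subgroup of index two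
  obtain ⟨Z, hZS, hZc, hZi, htZ', hZO⟩ : ∃ Z : Subgroup G, Z ≤ S ∧ IsCyclic Z ∧
      Z.relIndex (S : Subgroup G) = 2 ∧ t ∈ Z ∧
      (O ≠ ⊥ → Z = (S : Subgroup G) ⊓ centralizer (O : Set G)) := by
    by_cases hbot : O = ⊥
    · obtain ⟨Z', h1, h2, h3⟩ := dihedral_cyclic_index_two hn (t := e ⟨t, htS⟩)
        (by rw [MulEquiv.orderOf_eq, Subgroup.orderOf_mk, ht]) (fun x => by
          obtain ⟨y, rfl⟩ := e.surjective x
          rw [← map_mul, ← map_mul]
          exact congrArg e (Subtype.ext (htZ y y.2)))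
      set W : Subgroup (S : Subgroup G) := Z'.comap e.toMonoidHom with hW
      haveI : IsCyclic W := by
        have hinj : Function.Injective ((e.toMonoidHom.comp W.subtype).codRestrict Z' fun w => w.2) :=
          fun a b h => Subtype.ext (e.injective (congrArg Subtype.val h))
        exact isCyclic_of_injective _ hinj
      refine ⟨W.map (S : Subgroup G).subtype, Subgroup.map_subtype_le _,
        isCyclic_of_surjective _ (W.equivMapOfInjective _ (Subgroup.subtype_injective _)).surjective,
        ?_, ⟨⟨t, htS⟩, h3, rfl⟩, fun h => absurd hbot h⟩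
      rw [Subgroup.relIndex, Subgroup.subgroupOf,
        Subgroup.comap_map_eq_self_of_injective (Subgroup.subtype_injective _), hW,
        Subgroup.index_comap_of_surjective _ e.surjective, h2]
    · obtain ⟨h1, h2⟩ := ha hbot
      refine ⟨_, inf_le_left, h1, h2, Subgroup.mem_inf.mpr ⟨htS, ?_⟩, fun _ => rfl⟩
      exact mem_centralizer_iff.mpr fun y hy => mem_centralizer_singleton_iff.mp (hOC hy)
  -- elements of `S` outside `Z`
  have hout : ∀ s ∈ (S : Subgroup G), s ∉ Z → s * s = 1 ∧ ∀ z ∈ Z, s * z * s⁻¹ = z⁻¹ := by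
    intro s hs hsZ
    set Z' : Subgroup (DihedralGroup n) := (Z.subgroupOf (S : Subgroup G)).map e.toMonoidHom
      with hZ'
    haveI : IsCyclic (Z.subgroupOf (S : Subgroup G)) :=
      isCyclic_of_surjective (subgroupOfEquivOfLe hZS).symm.toMonoidHom
        (subgroupOfEquivOfLe hZS).symm.surjective
    haveI : IsCyclic Z' := isCyclic_of_surjective _
      ((Z.subgroupOf (S : Subgroup G)).equivMapOfInjective e.toMonoidHom e.injective).surjective
    have hidx : Z'.index = 2 := by
      rw [hZ', Subgroup.index_map_of_bijective e.bijective]; exact hZi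
    have hnot : e ⟨s, hs⟩ ∉ Z' := by
      rintro ⟨y, hy, hey⟩
      exact hsZ (by have := e.injective hey; subst this; exact hy)
    obtain ⟨h1, h2⟩ := dihedral_outside hn Z' hidx hnot
    refine ⟨?_, fun z hz => ?_⟩
    · have : (⟨s, hs⟩ : (S : Subgroup G)) * ⟨s, hs⟩ = 1 := e.injective (by rw [map_mul, h1, map_one])
      exact congrArg Subtype.val this
    · have h3 := h2 (e ⟨z, hZS hz⟩) (Subgroup.mem_map_of_mem _ (show (⟨z, hZS hz⟩ : (S : Subgroup G)) ∈ Z.subgroupOf (S : Subgroup G) from hz))
      rw [← map_inv, ← map_inv, ← map_mul, ← map_mul] at h3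
      exact congrArg Subtype.val (e.injective h3)
  obtain ⟨s, hsS, hsZ⟩ : ∃ s ∈ (S : Subgroup G), s ∉ Z := by
    by_contra h
    push Not at h
    rw [Subgroup.relIndex_eq_one.mpr h] at hZi
    omega
  obtain ⟨hss, hsinv⟩ := hout s hsS hsZ
  have hsO : ∀ y ∈ O, s * y * s⁻¹ = y⁻¹ := by
    intro y hy
    by_cases hbot : O = ⊥
    · rw [hbot, mem_bot] at hy; simp [hy]
    · exact hb s hsS (fun h => hsZ (hZO hbot ▸ Subgroup.mem_inf.mpr ⟨hsS, h⟩)) y hy
  have hOcomm : ∀ a ∈ O, ∀ b ∈ O, a * b = b * a := by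
    intro a ha b hb
    have h1 := hsO _ (mul_mem ha hb)
    rw [show s * (a * b) * s⁻¹ = (s * a * s⁻¹) * (s * b * s⁻¹) by group, hsO a ha, hsO b hb,
      ← mul_inv_rev] at h1
    exact (inv_injective h1).symm
  have hZOc : ∀ z ∈ Z, ∀ a ∈ O, z * a = a * z := by
    intro z hz a ha
    by_cases hbot : O = ⊥
    · rw [hbot, mem_bot] at ha; simp [ha]
    · rw [hZO hbot] at hz
      exact ((mem_centralizer_iff.mp hz.2) a ha).symm
  have hZcomm : ∀ a ∈ Z, ∀ b ∈ Z, a * b = b * a := fun a ha b hb => by
    obtain ⟨g, hg⟩ := IsCyclic.exists_generator (α := Z)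
    obtain ⟨i, hi⟩ := mem_zpowers_iff.mp (hg ⟨a, ha⟩)
    obtain ⟨j, hj⟩ := mem_zpowers_iff.mp (hg ⟨b, hb⟩)
    have := (Commute.zpow_zpow_self g i j).eq
    rw [hi, hj] at this
    exact congrArg Subtype.val this
  have huni : ∀ z ∈ Z, z * z = 1 → z = 1 ∨ z = t := by
    intro z hz h2
    by_contra hne
    simp only [not_or] at hne
    haveI := Fintype.ofFinite Z
    have hle := IsCyclic.card_pow_eq_one_le (α := Z) two_pos
    have htne : t ≠ 1 := fun h => by simp [h] at ht
    have hsub : ({1, ⟨t, htZ'⟩, ⟨z, hz⟩} : Finset Z) ⊆ Finset.univ.filter fun a : Z => a ^ 2 = 1 := by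
      intro a ha
      simp only [Finset.mem_insert, Finset.mem_singleton] at ha
      rw [Finset.mem_filter]
      refine ⟨Finset.mem_univ _, ?_⟩
      rcases ha with rfl | rfl | rfl
      · simp
      · exact Subtype.ext (by simpa [pow_two] using Involution.mul_self_of_orderOf ht)
      · exact Subtype.ext (by simpa [pow_two] using h2)
    have h3 := (Finset.card_le_card hsub).trans hle
    rw [Finset.card_insert_of_notMem (by
        simp only [Finset.mem_insert, Finset.mem_singleton, not_or]
        exact ⟨fun h => htne (congrArg Subtype.val h).symm,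
          fun h => hne.1 (congrArg Subtype.val h).symm⟩),
      Finset.card_pair (fun h => hne.2 (congrArg Subtype.val h).symm)] at h3
    omega
  -- the subgroup `K`
  let K : Subgroup G :=
    { carrier := {x | ∃ o ∈ O, ∃ z ∈ Z, x = o * z}
      one_mem' := ⟨1, O.one_mem, 1, Z.one_mem, (one_mul 1).symm⟩
      mul_mem' := by
        rintro _ _ ⟨o, ho, z, hz, rfl⟩ ⟨o', ho', z', hz', rfl⟩
        refine ⟨o * o', mul_mem ho ho', z * z', mul_mem hz hz', ?_⟩
        calc o * z * (o' * z') = o * (z * o') * z' := by group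
          _ = o * (o' * z) * z' := by rw [hZOc z hz o' ho']
          _ = _ := by group
      inv_mem' := by
        rintro _ ⟨o, ho, z, hz, rfl⟩
        exact ⟨o⁻¹, inv_mem ho, z⁻¹, inv_mem hz,
          by rw [mul_inv_rev, hZOc _ (inv_mem hz) _ (inv_mem ho)]⟩ }
  have hOK : O ≤ K := fun o ho => ⟨o, ho, 1, Z.one_mem, (mul_one o).symm⟩
  have hZK : Z ≤ K := fun z hz => ⟨1, O.one_mem, z, hz, (one_mul z).symm⟩
  have hKcomm : ∀ x ∈ K, ∀ y ∈ K, x * y = y * x := by
    rintro _ ⟨o, ho, z, hz, rfl⟩ _ ⟨o', ho', z', hz', rfl⟩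
    calc o * z * (o' * z') = o * (z * o') * z' := by group
      _ = o * (o' * z) * z' := by rw [hZOc z hz o' ho']
      _ = (o * o') * (z * z') := by group
      _ = (o' * o) * (z' * z) := by rw [hOcomm o ho o' ho', hZcomm z hz z' hz']
      _ = o' * (o * z') * z := by group
      _ = o' * (z' * o) * z := by rw [hZOc z' hz' o ho]
      _ = _ := by group
  have hKC : K ≤ C := by
    rintro _ ⟨o, ho, z, hz, rfl⟩
    exact mul_mem (hOC ho) (hSC (hZS hz))
  have hKinv : ∀ x ∈ K, s * x * s⁻¹ = x⁻¹ := by
    rintro _ ⟨o, ho, z, hz, rfl⟩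
    rw [show s * (o * z) * s⁻¹ = (s * o * s⁻¹) * (s * z * s⁻¹) by group, hsO o ho, hsinv z hz,
      mul_inv_rev, hZOc _ (inv_mem hz) _ (inv_mem ho)]
  have hsq : ∀ x ∈ K, x * x = 1 → x = 1 ∨ x = t := by
    rintro _ ⟨o, ho, z, hz, rfl⟩ h2
    have h3 : (o * o) * (z * z) = 1 := by
      rw [← h2]
      calc o * o * (z * z) = o * (o * z) * z := by group
        _ = o * (z * o) * z := by rw [hZOc z hz o ho]
        _ = _ := by group
    have ho2 : o * o = 1 := hdisj _ (mul_mem ho ho) (by
      rw [eq_inv_of_mul_eq_one_left h3]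
      exact inv_mem (mul_mem (hZS hz) (hZS hz)))
    have ho1 : o = 1 := by
      by_contra hne
      have := orderOf_eq_prime (p := 2) (by rw [pow_two, ho2]) hne
      exact Nat.not_even_iff_odd.mpr hOodd (even_iff_two_dvd.mpr (this ▸ O.orderOf_dvd_natCard ho))
    subst ho1
    rw [one_mul] at h2 ⊢
    exact huni z hz h2
  have hsK : s ∉ K := by
    rintro ⟨o, ho, z, hz, hoz⟩
    have : o = 1 := hdisj o ho (by
      rw [eq_mul_inv_of_mul_eq hoz.symm]; exact mul_mem hsS (inv_mem (hZS hz)))
    rw [this, one_mul] at hoz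
    exact hsZ (hoz ▸ hz)
  have hgen : K ⊔ zpowers s = C := by
    refine le_antisymm (sup_le hKC (zpowers_le.mpr (hSC hsS))) (hCS.trans (sup_le ?_ ?_))
    · exact hOK.trans le_sup_left
    · intro x hx
      by_cases hxZ : x ∈ Z
      · exact le_sup_left (a := K) (hZK hxZ)
      · have h1 : x * s⁻¹ ∈ Z := by
          have := (Subgroup.mul_mem_iff_of_index_two hZi (a := (⟨x, hx⟩ : (S : Subgroup G)))
            (b := ⟨s⁻¹, inv_mem hsS⟩)).mpr ?_
          · exact this
          · simp only [mem_subgroupOf]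
            exact ⟨fun h => absurd h hxZ, fun h => absurd (inv_mem_iff.mp h) hsZ⟩
        have h2 : x = (x * s⁻¹) * s := by group
        rw [h2]
        exact mul_mem (le_sup_left (b := zpowers s) (hZK h1))
          (le_sup_right (a := K) (mem_zpowers s))
  have hcases : ∀ h ∈ C, h ∈ K ∨ h * s ∈ K := by
    intro h hh
    have hs' : s⁻¹ = s := inv_eq_of_mul_eq_one_right hss
    let L : Subgroup G :=
      { carrier := {g | g ∈ K ∨ g * s ∈ K}
        one_mem' := Or.inl K.one_mem
        mul_mem' := by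
          intro p q hp hq
          rcases hp with hp | hp <;> rcases hq with hq | hq
          · exact Or.inl (mul_mem hp hq)
          · exact Or.inr (by rw [mul_assoc]; exact mul_mem hp hq)
          · refine Or.inr ?_
            have e1 : p * q * s = (p * s) * (s * q * s⁻¹) := by
              rw [hs']
              calc p * q * s = p * (s * s) * q * s := by rw [hss, mul_one]
                _ = _ := by group
            rw [e1, hKinv q hq]
            exact mul_mem hp (inv_mem hq)
          · refine Or.inl ?_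
            have e1 : p * q = (p * s) * (s * (q * s) * s⁻¹) := by
              rw [hs']
              calc p * q = p * (s * s) * q * (s * s) := by rw [hss, mul_one, mul_one]
                _ = _ := by group
            rw [e1, hKinv _ hq]
            exact mul_mem hp (inv_mem hq)
        inv_mem' := by
          intro p hp
          rcases hp with hp | hp
          · exact Or.inl (inv_mem hp)
          · refine Or.inr ?_
            have e1 : p⁻¹ * s = s * (p * s)⁻¹ * s⁻¹ := by
              rw [hs', mul_inv_rev, hs']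
              calc p⁻¹ * s = (s * s) * p⁻¹ * s := by rw [hss, one_mul]
                _ = _ := by group
            rw [e1, hKinv _ (inv_mem hp), inv_inv]
            exact hp }
    have hle : K ⊔ zpowers s ≤ L := sup_le (fun p hp => Or.inl hp)
      (zpowers_le.mpr (Or.inr (by rw [hss]; exact K.one_mem)))
    exact hle (hgen ▸ hh)
  -- one class of involutions
  have hconj : ∀ x : G, orderOf x = 2 → IsConj t x := by
    intro x hx
    have hxx := Involution.mul_self_of_orderOf hx
    by_cases h : ∀ g : G, g * x * g⁻¹ ∉ Z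
    · exfalso
      obtain ⟨N, hN, hNi, hxN⟩ := Involution.thompson_transfer S Z hZS hZi hxx h
      rcases hN.eq_bot_or_eq_top with hb' | ht'
      · refine hG ⟨⟨fun a b => ?_⟩⟩
        rw [hb', Subgroup.index_bot] at hNi
        haveI := Fact.mk Nat.prime_two
        haveI : IsCyclic G := isCyclic_of_prime_card hNi
        obtain ⟨g, hg⟩ := IsCyclic.exists_generator (α := G)
        obtain ⟨i, rfl⟩ := mem_zpowers_iff.mp (hg a)
        obtain ⟨j, rfl⟩ := mem_zpowers_iff.mp (hg b)
        exact (Commute.zpow_zpow_self g i j).eq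
      · exact hxN (ht' ▸ mem_top x)
    · push Not at h
      obtain ⟨g, hg⟩ := h
      have h2 : g * x * g⁻¹ * (g * x * g⁻¹) = 1 := by
        calc g * x * g⁻¹ * (g * x * g⁻¹) = g * (x * x) * g⁻¹ := by group
          _ = 1 := by rw [hxx, mul_one, mul_inv_cancel]
      rcases huni _ hg h2 with h1 | h1
      · exfalso; rw [conj_eq_one_iff] at h1; rw [h1, orderOf_one] at hx; omega
      · exact (isConj_iff.mpr ⟨g, h1⟩).symm
  have htK : t ∈ K := hZK htZ'
  refine ⟨Setup.mk t K s ht hKcomm hKC htK
    (orderOf_eq_prime (by rw [pow_two, hss]) fun h => hsK (h ▸ K.one_mem))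
    (hSC hsS) hsK hgen ?_ hKinv ?_ fun x y hx hy => (hconj x hx).symm.trans (hconj y hy)⟩
  · refine le_antisymm (fun x hx => ?_) (zpowers_le.mpr ⟨htK, ?_⟩)
    · have h1 := mem_centralizer_singleton_iff.mp hx.2
      have h2 := hKinv x hx.1
      rw [← h1, mul_inv_cancel_right] at h2
      rcases hsq x hx.1 (eq_inv_iff_mul_eq_one.mp h2) with h | h <;> rw [h]
      exacts [one_mem _, mem_zpowers t]
    · exact mem_centralizer_singleton_iff.mpr (htZ s hsS).symm
  · -- the TI property
    intro g hg
    rw [Subgroup.eq_bot_iff_forall]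
    rintro x ⟨hx, y, hy, hyx⟩
    have hyx' : g * y * g⁻¹ = x := hyx
    by_contra hx1
    obtain ⟨p, hp, hpo⟩ := Nat.exists_prime_and_dvd (fun h => hx1 (orderOf_eq_one_iff.mp h))
    set m := orderOf x / p with hm
    have hxo : orderOf (x ^ m) = p := orderOf_pow_orderOf_div (orderOf_pos x).ne' hpo
    have hgy : g * y ^ m * g⁻¹ = x ^ m := by
      rw [← hyx']
      exact (conj_pow).symm
    have hxK : x ^ m ∈ K := pow_mem hx m
    have hyK : y ^ m ∈ K := pow_mem hy m
    have hne : x ^ m ≠ 1 := fun h => by rw [h, orderOf_one] at hxo; exact hp.ne_one hxo.symm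
    have hyne : y ^ m ≠ 1 := fun h => hne (by rw [← hgy, h, mul_one, mul_inv_cancel])
    by_cases hp2 : p = 2
    · subst hp2
      have hxt : x ^ m = t := (hsq _ hxK (Involution.mul_self_of_orderOf hxo)).resolve_left hne
      have hyo : orderOf (y ^ m) = 2 := by
        rw [← hxo, ← hgy, ← MulAut.conj_apply, MulEquiv.orderOf_eq]
      have hyt : y ^ m = t := (hsq _ hyK (Involution.mul_self_of_orderOf hyo)).resolve_left hyne
      rw [hxt, hyt] at hgy
      exact hg (mem_centralizer_singleton_iff.mpr (by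
        calc g * t = g * t * g⁻¹ * g := by group
          _ = t * g := by rw [hgy]))
    · have hxO : x ^ m ∈ O := by
        obtain ⟨o, ho, z, hz, hoz⟩ := hxK
        have hpow : o ^ p * z ^ p = 1 := by
          rw [← (show Commute o z from (hZOc z hz o ho).symm).mul_pow, ← hoz, ← hxo,
            pow_orderOf_eq_one]
        have hzp : z ^ p = 1 := hdisj _ (by
          rw [eq_inv_of_mul_eq_one_right hpow]; exact inv_mem (pow_mem ho p))
          (pow_mem (hZS hz) p)
        have hz1 : z = 1 := by
          obtain ⟨e', he'⟩ := IsPGroup.iff_orderOf.mp S.2 ⟨z, hZS hz⟩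
          rw [Subgroup.orderOf_mk] at he'
          have hd := orderOf_dvd_of_pow_eq_one hzp
          rw [he'] at hd
          rcases Nat.eq_zero_or_pos e' with h0 | h0
          · rw [h0, pow_zero] at he'; exact orderOf_eq_one_iff.mp he'
          · exact absurd ((Nat.prime_dvd_prime_iff_eq Nat.prime_two hp).mp
              ((dvd_pow_self 2 h0.ne').trans hd)).symm hp2
        rw [hoz, hz1, mul_one]; exact ho
      have hN := hc (zpowers (x ^ m)) (zpowers_le.mpr hxO)
        (fun h => hne (Subgroup.zpowers_eq_bot.mp h))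
      set u := g * t * g⁻¹ with hu
      have hux : u * x ^ m = x ^ m * u := by
        rw [hu, ← hgy]
        calc g * t * g⁻¹ * (g * y ^ m * g⁻¹) = g * (t * y ^ m) * g⁻¹ := by group
          _ = g * (y ^ m * t) * g⁻¹ := by rw [hKcomm t htK _ hyK]
          _ = _ := by group
      have huC : u ∈ C := hN (Subgroup.centralizer_le_normalizer _ (by
        rw [Subgroup.zpowers_eq_closure, Subgroup.centralizer_closure]
        exact mem_centralizer_singleton_iff.mpr hux))
      have huo : orderOf u = 2 := by rw [hu, ← MulAut.conj_apply, MulEquiv.orderOf_eq, ht]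
      have huK : u ∈ K := by
        refine (hcases u huC).resolve_right fun hus => ?_
        have h1 : (u * s) * (s * (x ^ m) * s⁻¹) * (u * s)⁻¹ = x ^ m := by
          rw [mul_inv_rev, inv_eq_of_mul_eq_one_right hss]
          calc u * s * (s * x ^ m * s) * (s * u⁻¹) = u * (s * s) * x ^ m * (s * s) * u⁻¹ := by group
            _ = (u * x ^ m) * u⁻¹ := by rw [hss, mul_one, mul_one]
            _ = _ := by rw [hux, mul_inv_cancel_right]
        rw [hKinv _ hxK, hKcomm _ hus _ (inv_mem hxK), mul_inv_cancel_right] at h1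
        have h2 := orderOf_dvd_of_pow_eq_one
          (show (x ^ m) ^ 2 = 1 by rw [pow_two]; exact eq_inv_iff_mul_eq_one.mp h1.symm)
        rw [hxo] at h2
        exact hp2 ((Nat.prime_dvd_prime_iff_eq hp Nat.prime_two).mp h2)
      have hut : u = t := (hsq u huK (Involution.mul_self_of_orderOf huo)).resolve_left
        fun h => by rw [h, orderOf_one] at huo; omega
      exact hg (mem_centralizer_singleton_iff.mpr (by
        calc g * t = g * t * g⁻¹ * g := by group
          _ = t * g := by rw [← hu, hut]))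

end Cfsg.Agent.BSW7
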