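import Cfsg.Agent.BSW7.Minus

/-!
# Abstract Brauer–Suzuki–Wall: the theorem
-/

set_option autoImplicit false

namespace Cfsg.Agent.BSW7.Setup

theorem concl {G : Type*} [Group G] [Finite G] (S : Setup G) : Concl G := by
  have := Fintype.ofFinite G
  obtain ⟨D⟩ := S.exists_shape
  rcases lt_trichotomy D.F 0 with h | h | h
  · exact D.concl_minus h
  · exact absurd h D.F_ne
  · exact D.concl_plus h

end Cfsg.Agent.BSW7.Setup
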