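import Cfsg.Agent.BSW7.Plus

/-!
# Abstract Brauer–Suzuki–Wall: the case of degree `q = 2k - 1`
-/

set_option autoImplicit false
set_option linter.unusedSectionVars false

open scoped ComplexConjugate

namespace Cfsg.Agent.BSW7.Setup.Shape

open Subgroup

variable {G : Type*} [Group G] [Fintype G] {S : Setup G} (D : Shape S)

theorem minus_eq (hF : D.F < 0) : D.F = -(D.q : ℤ) ∧ D.q + 1 = 2 * Nat.card S.K := by
  rcases D.q_cases with h | h
  · omega
  · exact h

theorem card_minus (hF : D.F < 0) :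
    Nat.card G = D.q * (Nat.card S.K * (D.q - 1)) ∧
      Nat.card {y : G // orderOf y = 2} = D.q * (Nat.card S.K - 1) := by
  obtain ⟨a, b⟩ := D.minus_eq hF
  have := two_le_k (S := S)
  refine ⟨by rw [D.card_eq_q_mul, show (D.F + 1).natAbs = D.q - 1 by omega], ?_⟩
  have h := D.basic.2
  have b' : (D.q : ℤ) + 1 = 2 * (Nat.card S.K : ℤ) := by exact_mod_cast b
  refine Nat.cast_injective (R := ℤ) ?_
  push_cast [Nat.cast_sub (show 1 ≤ Nat.card S.K by omega)]
  rw [a] at h
  refine mul_left_cancel₀ (two_ne_zero (α := ℤ)) ?_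
  linear_combination h + (D.q : ℤ) * b'

theorem not_inverted (hF : D.F < 0) {g i : G} (hg : D.InP g) (hi : orderOf i = 2) :
    i * g * i⁻¹ ≠ g⁻¹ := by
  intro hig
  have h := S.card_pairs_eq_centralizer (D.not_inConjK_of_inP hg) hi hig
  rw [D.pairs_inP hg, if_neg (by omega)] at h
  exact Nat.card_pos.ne h

theorem not_real (hF : D.F < 0) {g : G} (hg : D.InP g) : ¬ IsConj g g⁻¹ := by
  intro h
  obtain ⟨x, hx⟩ := isConj_iff.mp h
  obtain ⟨i, hi, hig⟩ := S.exists_involution_inverting (D.not_inConjK_of_inP hg) hx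
  exact D.not_inverted hF hg hi hig

theorem minus_R (hF : D.F < 0) {g : G} (hg : ¬ S.InConjK g) (hP : ¬ D.InP g) :
    ∃ i : G, orderOf i = 2 ∧ i * g * i⁻¹ = g⁻¹ ∧
      Nat.card (centralizer ({g} : Set G)) = Nat.card S.K - 1 ∧
      IsMulCommutative (centralizer ({g} : Set G)) ∧
      (∀ a ∈ centralizer ({g} : Set G), a ≠ 1 →
        centralizer ({a} : Set G) = centralizer ({g} : Set G)) ∧
      ∀ a ∈ centralizer ({g} : Set G), a ≠ 1 → ¬ S.InConjK a ∧ ¬ D.InP a := by
  have hk := two_le_k (S := S)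
  obtain ⟨a, b⟩ := D.minus_eq hF
  have hp : Nat.card {p : G × G // orderOf p.1 = 2 ∧ orderOf p.2 = 2 ∧ p.1 * p.2 = g} =
      Nat.card S.K - 1 := by
    have e := D.pairs hg
    rw [D.Ξ_of_not_inP hg hP, map_neg, map_one, add_neg_cancel, zero_div, mul_zero,
      add_zero] at e
    rw [(D.card_minus hF).2, Nat.cast_mul] at e
    apply Nat.cast_injective (R := ℂ)
    refine mul_right_cancel₀ (show (2 * (Nat.card S.K : ℂ)) ≠ 0 from
      mul_ne_zero two_ne_zero (Nat.cast_ne_zero.mpr (by omega))) (e.trans ?_)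
    have a' : (D.F : ℂ) = -(D.q : ℂ) := by exact_mod_cast a
    have b' : (D.q : ℂ) + 1 = 2 * (Nat.card S.K : ℂ) := by exact_mod_cast b
    have hq0 : (D.q : ℂ) ≠ 0 := Nat.cast_ne_zero.mpr (by have := D.q_ge; omega)
    push_cast [Nat.cast_sub (show 1 ≤ Nat.card S.K by omega)]
    rw [a']
    field_simp
    linear_combination ((Nat.card S.K : ℂ) - 1) * b'
  obtain ⟨i, hi, hig⟩ := S.exists_inverting hg (by rw [hp]; omega)
  refine ⟨i, hi, hig, ?_, ⟨⟨fun a b => Subtype.ext ?_⟩⟩,
    fun a ha ha1 => S.centralizer_of_inverted hg hi hig ha ha1, fun a ha ha1 => ?_⟩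
  · rw [← S.card_pairs_eq_centralizer hg hi hig, hp]
  · exact S.centralizer_comm hg hi hig
      (mem_centralizer_singleton_iff.mp a.2) (mem_centralizer_singleton_iff.mp b.2)
  · have hag := mem_centralizer_singleton_iff.mp ha
    exact ⟨S.not_inConjK_of_commute hg ha1 hag,
      fun h => D.not_inverted hF h hi (S.inverts_centralizer hg hi hig hag)⟩

theorem card_normalizer_R (hF : D.F < 0) {g : G} (hg : ¬ S.InConjK g) (hP : ¬ D.InP g) :
    Nat.card (normalizer (centralizer ({g} : Set G) : Set G)) = 2 * (Nat.card S.K - 1) := by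
  classical
  have hk := two_le_k (S := S)
  obtain ⟨a, b⟩ := D.minus_eq hF
  obtain ⟨i, hi, hig, hc, hab, hcen, hR⟩ := D.minus_R hF hg hP
  set A := centralizer ({g} : Set G) with hA
  have h := card_conjugates fun x a ha ha1 hx => ti_normalizer hcen ha ha1 hx
  have hset : Nat.card {z : G // z ≠ 1 ∧ ∃ x : G, x * z * x⁻¹ ∈ A} =
      Nat.card {z : G // ¬ S.InConjK z ∧ ¬ D.InP z} := by
    refine Nat.card_congr (Equiv.subtypeEquivRight fun z => ⟨?_, fun hz => ⟨?_, ?_⟩⟩)
    · rintro ⟨h1, x, hx⟩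
      obtain ⟨h2, h3⟩ := hR _ hx fun h' => h1 (conj_eq_one_iff.mp h')
      refine ⟨fun hh => h2 (S.inConjK_conj x⁻¹ (by simpa [mul_assoc] using hh)), fun hh => h3 ?_⟩
      obtain ⟨p, hp, hpq, hpo⟩ := hh
      exact ⟨p, hp, hpq, by rwa [← MulAut.conj_apply, MulEquiv.orderOf_eq]⟩
    · exact fun h' => hz.1 (h' ▸ S.inConjK_one)
    · obtain ⟨-, -, -, hzc, hzab, -, -⟩ := D.minus_R hF hz.1 hz.2
      obtain ⟨x, hx⟩ := Transfer.nilpotent_hall_conj (centralizer ({z} : Set G)) A
        (by open scoped IsMulCommutative in infer_instance)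
        (by open scoped IsMulCommutative in infer_instance)
        (by
          have h1 := (centralizer ({z} : Set G)).card_mul_index
          rw [hzc, (D.card_minus hF).1, show D.q - 1 = (Nat.card S.K - 1) * 2 by omega,
            show D.q * (Nat.card S.K * ((Nat.card S.K - 1) * 2)) =
              (Nat.card S.K - 1) * (2 * (D.q * Nat.card S.K)) by ring] at h1
          have hne : 0 < Nat.card S.K - 1 := hzc ▸ Nat.card_pos
          rw [hzc, Nat.eq_of_mul_eq_mul_left hne h1]
          have hd : (D.F + 1).natAbs = 2 * (Nat.card S.K - 1) := by omega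
          refine Nat.coprime_of_dvd fun p hp h2 h3 => ?_
          have h4 : p ∣ (D.F + 1).natAbs := hd ▸ h2.mul_left 2
          have hp2 : p ≠ 2 := fun hh => by
            subst hh
            have := S.two_dvd_card_K
            omega
          obtain ⟨u, v⟩ := D.not_dvd_of_dvd_succ hp hp2 h4
          rcases hp.dvd_mul.mp h3 with h5 | h5
          · exact hp2 ((Nat.prime_dvd_prime_iff_eq hp Nat.prime_two).mp h5)
          · exact (hp.dvd_mul.mp h5).elim v u) (hzc.trans hc.symm)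
      exact ⟨x, hx ▸ ⟨z, mem_centralizer_singleton_iff.mpr rfl, rfl⟩⟩
  have hgt : 2 < Nat.card S.K := by
    by_contra hle
    have h1 : g = 1 := by
      have hb : A = ⊥ := Subgroup.eq_bot_of_card_eq A (by omega)
      exact Subgroup.mem_bot.mp (hb ▸ mem_centralizer_singleton_iff.mpr rfl)
    exact hg (h1 ▸ S.inConjK_one)
  obtain ⟨c, hc2⟩ : ∃ c, Nat.card S.K = c + 3 := ⟨Nat.card S.K - 3, by omega⟩
  have hRc := D.card_types.2
  rw [(D.card_minus hF).2, a, hc2] at hRc
  have hRn : Nat.card {z : G // ¬ S.InConjK z ∧ ¬ D.InP z} = D.q * ((c + 1) * (c + 3)) := by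
    refine Nat.cast_injective (R := ℤ) (hRc.trans ?_)
    rw [show c + 3 - 1 = c + 2 from rfl]
    push_cast
    ring
  rw [hset, hRn, hc, (D.card_minus hF).1, hc2, show D.q - 1 = 2 * (c + 2) by omega,
    show c + 3 - 1 - 1 = c + 1 from rfl] at h
  rw [hc2, show c + 3 - 1 = c + 2 from rfl]
  refine Nat.eq_of_mul_eq_mul_left (show 0 < D.q * ((c + 1) * (c + 3)) by
    have := D.q_ge; positivity) (h.trans ?_)
  ring

/-- An element of odd order acts trivially on an abelian centralizer of non-`P` type. -/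
theorem commute_of_conj (hF : D.F < 0) {y n : G} (hy1 : y ≠ 1) (hy2 : ¬ 2 ∣ orderOf y)
    (hP : ¬ D.InP y) (hn : ¬ 2 ∣ orderOf n) (hconj : n * y * n⁻¹ ∈ centralizer ({y} : Set G)) :
    n * y = y * n := by
  by_cases hK : S.InConjK y
  · obtain ⟨x, hx⟩ := hK
    have hne : x * y * x⁻¹ ≠ 1 := fun h => hy1 (conj_eq_one_iff.mp h)
    have hnt : x * y * x⁻¹ ≠ S.t := fun h => hy2 (by
      rw [← MulEquiv.orderOf_eq (MulAut.conj x) y, MulAut.conj_apply, h, S.ht])
    have hmem : (x * n * x⁻¹) * (x * y * x⁻¹) * (x * n * x⁻¹)⁻¹ ∈ S.K := by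
      rw [← S.centralizer_eq hx hne hnt, mem_centralizer_singleton_iff]
      have e := mem_centralizer_singleton_iff.mp hconj
      calc x * n * x⁻¹ * (x * y * x⁻¹) * (x * n * x⁻¹)⁻¹ * (x * y * x⁻¹)
          = x * (n * y * n⁻¹ * y) * x⁻¹ := by group
        _ = x * (y * (n * y * n⁻¹)) * x⁻¹ := by rw [e]
        _ = _ := by group
    have hH := S.mem_H_of_conj_mem hx hne hmem
    have hnK : x * n * x⁻¹ ∈ S.K := by
      by_contra h
      exact hn (by rw [← MulEquiv.orderOf_eq (MulAut.conj x) n, MulAut.conj_apply,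
        S.reflection hH h])
    have e := S.comm _ hnK _ hx
    calc n * y = x⁻¹ * ((x * n * x⁻¹) * (x * y * x⁻¹)) * x := by group
      _ = x⁻¹ * ((x * y * x⁻¹) * (x * n * x⁻¹)) * x := by rw [e]
      _ = _ := by group
  · obtain ⟨i, hi, hig, hc, hab, hcen, -⟩ := D.minus_R hF hK hP
    set A := centralizer ({y} : Set G) with hA
    have hnN : n ∈ normalizer (A : Set G) :=
      ti_normalizer hcen (mem_centralizer_singleton_iff.mpr rfl) hy1 hconj
    set N := normalizer (A : Set G) with hNdef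
    have hidx : (A.subgroupOf N).index = 2 := by
      have h1 := (A.subgroupOf N).card_mul_index
      rw [D.card_normalizer_R hF hK hP, Nat.card_congr (subgroupOfEquivOfLe le_normalizer).toEquiv,
        hc, mul_comm 2] at h1
      exact Nat.eq_of_mul_eq_mul_left (hc ▸ Nat.card_pos) h1
    have h2 : n ^ 2 ∈ A := Subgroup.sq_mem_of_index_two hidx (⟨n, hnN⟩ : N)
    have hodd : Nat.Coprime 2 (orderOf n) := Nat.prime_two.coprime_iff_not_dvd.mpr hn
    obtain ⟨m, hm⟩ := exists_pow_eq_self_of_coprime hodd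
    exact mem_centralizer_singleton_iff.mp (hm ▸ pow_mem h2 m)

/-- The group theoretic facts used through transfer in subgroups of odd order. -/
theorem odd_subgroup (hF : D.F < 0) {p : ℕ} (hp : ∀ r : ℕ, r.Prime → r ∣ D.q → r = p)
    {M : Subgroup G} (hM : ¬ 2 ∣ Nat.card M) :
    (∀ a ∈ M, ∀ b ∈ M, (∀ r : ℕ, r.Prime → r ∣ orderOf a → r = p) →
      (∀ r : ℕ, r.Prime → r ∣ orderOf b → r = p) →
      ∀ r : ℕ, r.Prime → r ∣ orderOf (a * b) → r = p) ∧
    (¬ p ∣ Nat.card M → ∀ a ∈ M, ∀ b ∈ M, a * b = b * a) := by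
  have hodd : ∀ {z : G}, z ∈ M → ¬ 2 ∣ orderOf z := fun hz h =>
    hM (h.trans (M.orderOf_dvd_natCard hz))
  -- the transfer homomorphisms
  have key : ∀ r : ℕ, r.Prime → r ≠ p → ∃ f : M →* M, ¬ r ∣ Nat.card f.ker ∧
      (∀ u v : M, f u * f v = f v * f u) ∧ ∀ u : M, ∃ e : ℕ, orderOf (f u) = r ^ e := by
    intro r hr hrp
    haveI := Fact.mk hr
    obtain ⟨R⟩ := (inferInstance : Nonempty (Sylow r M))
    have hRodd : ∀ c : M, c ∈ R → (c : G) ≠ 1 → ¬ D.InP (c : G) := by
      intro c hc hc1 hP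
      obtain ⟨e, he⟩ := IsPGroup.iff_orderOf.mp R.2 ⟨c, hc⟩
      rw [Subgroup.orderOf_mk, ← Subgroup.orderOf_coe] at he
      refine hrp (hp r hr (D.prime_dvd_q_of_inP hP hr ?_))
      rw [he]
      refine dvd_pow_self r fun h0 => hc1 ?_
      rw [h0, pow_zero] at he
      exact orderOf_eq_one_iff.mp he
    have hRab : ∀ a b : M, a ∈ R → b ∈ R → a * b = b * a := by
      intro a b ha hb
      rcases eq_or_ne (R : Subgroup M) ⊥ with hbot | hbot
      · have ha' : a ∈ (R : Subgroup M) := ha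
        rw [hbot, mem_bot] at ha'
        subst ha'; simp
      haveI : Nontrivial R := (Subgroup.nontrivial_iff_ne_bot _).mpr hbot
      haveI := R.2.center_nontrivial
      obtain ⟨z, hz⟩ := exists_ne (1 : Subgroup.center R)
      have hz1 : (((z : R) : M) : G) ≠ 1 := fun h => hz (Subtype.ext (Subtype.ext (Subtype.ext h)))
      have hzP := hRodd _ (z : R).2 hz1
      have hcom : ∀ c : M, c ∈ R → (c : G) ∈ centralizer ({(((z : R) : M) : G)} : Set G) :=
        fun c hc => mem_centralizer_singleton_iff.mpr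
          (congrArg (fun w : R => ((w : M) : G)) (Subgroup.mem_center_iff.mp z.2 ⟨c, hc⟩))
      apply Subtype.ext
      by_cases hK : S.InConjK (((z : R) : M) : G)
      · obtain ⟨x, hx⟩ := hK
        have hne : x * (((z : R) : M) : G) * x⁻¹ ≠ 1 := fun h => hz1 (conj_eq_one_iff.mp h)
        have hnt : x * (((z : R) : M) : G) * x⁻¹ ≠ S.t := fun h => by
          refine hodd ((z : R) : M).2 ?_
          rw [← MulEquiv.orderOf_eq (MulAut.conj x), MulAut.conj_apply, h, S.ht]
        have hin : ∀ c : M, c ∈ R → x * (c : G) * x⁻¹ ∈ S.K := by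
          intro c hc
          rw [← S.centralizer_eq hx hne hnt, mem_centralizer_singleton_iff]
          have e := mem_centralizer_singleton_iff.mp (hcom c hc)
          calc x * (c : G) * x⁻¹ * (x * (((z : R) : M) : G) * x⁻¹)
              = x * ((c : G) * (((z : R) : M) : G)) * x⁻¹ := by group
            _ = x * ((((z : R) : M) : G) * (c : G)) * x⁻¹ := by rw [e]
            _ = _ := by group
        have e := S.comm _ (hin a ha) _ (hin b hb)
        show (a : G) * (b : G) = (b : G) * (a : G)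
        calc (a : G) * (b : G) = x⁻¹ * ((x * a * x⁻¹) * (x * b * x⁻¹)) * x := by group
          _ = x⁻¹ * ((x * b * x⁻¹) * (x * a * x⁻¹)) * x := by rw [e]
          _ = _ := by group
      · obtain ⟨i, hi, hig, -, -, -, -⟩ := D.minus_R hF hK hzP
        exact S.centralizer_comm hK hi hig (mem_centralizer_singleton_iff.mp (hcom a ha))
          (mem_centralizer_singleton_iff.mp (hcom b hb))
    have hNC : normalizer (R : Set M) ≤ centralizer (R : Set M) := by
      intro n hn
      rw [Subgroup.mem_centralizer_iff]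
      intro a ha
      rcases eq_or_ne a 1 with rfl | ha1
      · simp
      have ha1' : (a : G) ≠ 1 := fun h => ha1 (Subtype.ext h)
      have hna : n * a * n⁻¹ ∈ (R : Subgroup M) := (Subgroup.mem_normalizer_iff.mp hn a).mp ha
      have h := D.commute_of_conj hF ha1' (hodd a.2) (hRodd a ha ha1') (hodd n.2)
        (mem_centralizer_singleton_iff.mpr
          (congrArg Subtype.val (hRab (n * a * n⁻¹) a hna ha) : _))
      exact Subtype.ext h.symm
    refine ⟨(R : Subgroup M).subtype.comp (MonoidHom.transferSylow R hNC), ?_, ?_, fun u => ?_⟩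
    · rw [MonoidHom.ker_comp_of_injective _ _ (Subgroup.subtype_injective _)]
      exact MonoidHom.not_dvd_card_ker_transferSylow R hNC
    · intro u v
      exact hRab _ _ (SetLike.coe_mem _) (SetLike.coe_mem _)
    · obtain ⟨e, he⟩ := IsPGroup.iff_orderOf.mp R.2 (MonoidHom.transferSylow R hNC u)
      exact ⟨e, by rw [MonoidHom.comp_apply, Subgroup.coe_subtype, Subgroup.orderOf_coe, he]⟩
  have hker : ∀ (f : M →* M) (r : ℕ), r.Prime → r ≠ p →
      (∀ u : M, ∃ e : ℕ, orderOf (f u) = r ^ e) →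
      ∀ u : M, (∀ l : ℕ, l.Prime → l ∣ orderOf (u : G) → l = p) → f u = 1 := by
    intro f r hr hrp hf u hu
    obtain ⟨e, he⟩ := hf u
    rcases Nat.eq_zero_or_pos e with rfl | he0
    · exact orderOf_eq_one_iff.mp (by rw [he, pow_zero])
    · refine absurd (hu r hr ?_) hrp
      rw [Subgroup.orderOf_coe]
      exact ((dvd_pow_self r he0.ne').trans he.symm.dvd).trans (orderOf_map_dvd f u)
  refine ⟨fun a ha b hb hpa hpb r hr hro => ?_, fun hpM a ha b hb => ?_⟩
  · by_contra hrp
    obtain ⟨f, h1, -, h3⟩ := key r hr hrp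
    have hab : (⟨a, ha⟩ : M) * ⟨b, hb⟩ ∈ f.ker := by
      rw [MonoidHom.mem_ker, map_mul, hker f r hr hrp h3 _ hpa, hker f r hr hrp h3 _ hpb, one_mul]
    refine h1 (hro.trans ?_)
    rw [show a * b = (((⟨a, ha⟩ : M) * ⟨b, hb⟩ : M) : G) from rfl, Subgroup.orderOf_coe]
    exact Subgroup.orderOf_dvd_natCard _ hab
  · set c : M := ⟨a, ha⟩ * ⟨b, hb⟩ * (⟨b, hb⟩ * ⟨a, ha⟩)⁻¹ with hc
    have hc1 : c = 1 := by
      rw [← orderOf_eq_one_iff]
      by_contra hne
      obtain ⟨r, hr, hro⟩ := Nat.exists_prime_and_dvd hne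
      have hrp : r ≠ p := fun h => hpM (h ▸ hro.trans (orderOf_dvd_natCard c))
      obtain ⟨f, h1, h2, -⟩ := key r hr hrp
      refine h1 (hro.trans (Subgroup.orderOf_dvd_natCard _ ?_))
      rw [MonoidHom.mem_ker, hc, map_mul, map_inv, map_mul, map_mul, h2, mul_inv_cancel]
    exact congrArg Subtype.val (mul_inv_eq_one.mp hc1)

theorem minus_P (hF : D.F < 0) :
    ∃ p : ℕ, p.Prime ∧ (∀ r : ℕ, r.Prime → r ∣ D.q → r = p) ∧ p ∣ D.q ∧
      ∀ g : G, D.InP g → orderOf g = p ∧ Nat.card (centralizer ({g} : Set G)) = D.q := by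
  classical
  have hq := D.q_ge
  have inv_inP : ∀ {g : G}, D.InP g → D.InP g⁻¹ := fun ⟨p, hp, a, b⟩ =>
    ⟨p, hp, a, by rwa [orderOf_inv]⟩
  have conj_inP : ∀ {g z : G}, D.InP g → IsConj g z → D.InP z := fun ⟨p, hp, a, b⟩ h => by
    obtain ⟨x, rfl⟩ := isConj_iff.mp h
    exact ⟨p, hp, a, by rwa [← MulAut.conj_apply, MulEquiv.orderOf_eq]⟩
  have main : ∀ g : G, D.InP g → Nat.card (centralizer ({g} : Set G)) = D.q ∧
      ∀ z : G, D.InP z → orderOf z = orderOf g := by
    intro g hg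
    set C := centralizer ({g} : Set G) with hC
    have hCdvd : Nat.card C ∣ D.q := by
      have h := C.card_subgroup_dvd_card
      rw [D.card_eq_q_mul] at h
      refine (Nat.coprime_of_dvd fun r hr h1 h2 => ?_).dvd_of_dvd_mul_right h
      haveI := Fact.mk hr
      obtain ⟨⟨z, hz⟩, hzo⟩ := exists_prime_orderOf_dvd_card' r h1
      rw [Subgroup.orderOf_mk] at hzo
      have hzg := mem_centralizer_singleton_iff.mp hz
      have hz1 : z ≠ 1 := fun h' => by rw [h', orderOf_one] at hzo; exact hr.ne_one hzo.symm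
      have hzK := S.not_inConjK_of_commute (D.not_inConjK_of_inP hg) hz1 hzg
      have hzP : D.InP z := by
        by_contra hzP
        obtain ⟨i, hi, hiz, -, -, -, -⟩ := D.minus_R hF hzK hzP
        exact D.not_inverted hF hg hi (S.inverts_centralizer hzK hi hiz hzg.symm)
      have hrq := D.prime_dvd_q_of_inP hzP hr hzo.symm.dvd
      exact Nat.Prime.not_coprime_iff_dvd.mpr ⟨r, hr, hrq, h2⟩ D.coprime_q
    have hcl1 := Involution.card_isConj_mul_card_centralizer g
    have hcl2 := Involution.card_isConj_mul_card_centralizer g⁻¹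
    have hCinv : centralizer ({g⁻¹} : Set G) = C := by
      ext z
      rw [hC, mem_centralizer_singleton_iff, mem_centralizer_singleton_iff]
      exact ⟨fun h => (Commute.inv_right_iff.mp (show Commute z g⁻¹ from h)).eq,
        fun h => (Commute.inv_right (show Commute z g from h)).eq⟩
    rw [hCinv] at hcl2
    simp only [Nat.card_eq_fintype_card (α := {y : G // IsConj g y}),
      Nat.card_eq_fintype_card (α := {y : G // IsConj g⁻¹ y}), Fintype.card_subtype] at hcl1 hcl2
    have hsub : Finset.univ.filter (fun z => IsConj g z) ∪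
        Finset.univ.filter (fun z => IsConj g⁻¹ z) ⊆ Finset.univ.filter (fun z => D.InP z) := by
      intro z hz
      simp only [Finset.mem_union, Finset.mem_filter, Finset.mem_univ, true_and] at hz ⊢
      rcases hz with h | h
      exacts [conj_inP hg h, conj_inP (inv_inP hg) h]
    have hdis : Disjoint (Finset.univ.filter (fun z : G => IsConj g z))
        (Finset.univ.filter (fun z => IsConj g⁻¹ z)) :=
      Finset.disjoint_filter.mpr fun z _ h h' => D.not_real hF hg (h.trans h'.symm)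
    have hPc : (Finset.univ.filter (fun z => D.InP z)).card = D.q ^ 2 - 1 := by
      rw [← Fintype.card_subtype, ← Nat.card_eq_fintype_card]
      exact D.card_types.1
    have hle := Finset.card_le_card hsub
    rw [Finset.card_union_of_disjoint hdis, hPc] at hle
    obtain ⟨r, hr⟩ : ∃ r, D.q = r + 1 := ⟨D.q - 1, by omega⟩
    have hG := D.card_eq
    rw [hr, show r + 1 - 1 = r from rfl] at hG
    rw [hr, show (r + 1) ^ 2 - 1 = r * (r + 2) by
      have : (r + 1) ^ 2 = r * (r + 2) + 1 := by ring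
      omega] at hle hPc
    set A := (Finset.univ.filter (fun z : G => IsConj g z)).card
    set B := (Finset.univ.filter (fun z : G => IsConj g⁻¹ z)).card
    have hpos : 0 < r * (r + 2) := by
      have : 0 < r := by omega
      positivity
    have heq : (A + B) * Nat.card C = r * (r + 2) * (r + 1) := by
      rw [add_mul, hcl1, hcl2, ← two_mul, hG]; ring
    have hge : r + 1 ≤ Nat.card C := by
      refine Nat.le_of_mul_le_mul_left ?_ hpos
      rw [← heq]
      exact Nat.mul_le_mul_right _ hle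
    have hCq : Nat.card C = r + 1 :=
      le_antisymm (hr ▸ Nat.le_of_dvd (by omega) hCdvd) hge
    refine ⟨hr ▸ hCq, fun z hz => ?_⟩
    have hAB : A + B = r * (r + 2) := by
      rw [hCq] at heq
      exact Nat.eq_of_mul_eq_mul_right (Nat.succ_pos r) heq
    have hall := Finset.eq_of_subset_of_card_le hsub (by
      rw [hPc, Finset.card_union_of_disjoint hdis]; exact hAB.ge)
    have hzmem : z ∈ Finset.univ.filter (fun z => D.InP z) := by simpa using hz
    rw [← hall] at hzmem
    simp only [Finset.mem_union, Finset.mem_filter, Finset.mem_univ, true_and] at hzmem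
    rcases hzmem with h | h <;> obtain ⟨x, rfl⟩ := isConj_iff.mp h <;>
      rw [← MulAut.conj_apply, MulEquiv.orderOf_eq]
    exact orderOf_inv g
  have helem : ∀ r : ℕ, r.Prime → r ∣ D.q → ∃ z : G, D.InP z ∧ orderOf z = r := by
    intro r hr hrq
    haveI := Fact.mk hr
    obtain ⟨z, hz⟩ := exists_prime_orderOf_dvd_card' (G := G) r
      (hrq.trans ⟨_, D.card_eq_q_mul⟩)
    exact ⟨z, ⟨r, hr, hrq, hz.symm.dvd⟩, hz⟩
  obtain ⟨p, hp, hpq⟩ := Nat.exists_prime_and_dvd (show D.q ≠ 1 by omega)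
  obtain ⟨g, hg, hgo⟩ := helem p hp hpq
  refine ⟨p, hp, fun r hr hrq => ?_, hpq,
    fun z hz => ⟨((main g hg).2 z hz).trans hgo, (main z hz).1⟩⟩
  obtain ⟨z, hz, hzo⟩ := helem r hr hrq
  rw [← hzo, (main g hg).2 z hz, hgo]

/-- Sylow subgroups of order `q` are TI. -/
theorem minus_TI (hF : D.F < 0) {Q1 Q2 : Subgroup G} (h1 : Nat.card Q1 = D.q)
    (h2 : Nat.card Q2 = D.q) (hne : Q1 ≠ Q2) : Q1 ⊓ Q2 = ⊥ := by
  classical
  obtain ⟨p, hp, huniq, hpq, hP⟩ := D.minus_P hF
  haveI := Fact.mk hp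
  have hqpow : D.q = p ^ D.q.primeFactorsList.length :=
    Nat.eq_prime_pow_of_unique_prime_dvd (by have := D.q_ge; omega) fun {d} hd hdq => huniq d hd hdq
  by_contra hbad
  obtain ⟨⟨A, B⟩, hmem, hmax⟩ := Finset.exists_max_image
    ((Finset.univ : Finset (Subgroup G × Subgroup G)).filter fun z =>
      Nat.card z.1 = D.q ∧ Nat.card z.2 = D.q ∧ z.1 ≠ z.2 ∧ z.1 ⊓ z.2 ≠ ⊥)
    (fun z => Nat.card (z.1 ⊓ z.2 : Subgroup G)) ⟨(Q1, Q2), Finset.mem_filter.mpr ⟨Finset.mem_univ _, h1, h2, hne, hbad⟩⟩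
  simp only [Finset.mem_filter, Finset.mem_univ, true_and] at hmem hmax
  obtain ⟨hA, hB, hAB, hD0⟩ := hmem
  set E := A ⊓ B with hE
  set M := normalizer (E : Set G) with hM
  have hInP : ∀ {C : Subgroup G}, Nat.card C = D.q → ∀ c ∈ C, c ≠ 1 → D.InP c := by
    intro C hC c hc hc1
    obtain ⟨r, hr, hro⟩ := Nat.exists_prime_and_dvd (fun h => hc1 (orderOf_eq_one_iff.mp h))
    exact ⟨r, hr, hC ▸ hro.trans (C.orderOf_dvd_natCard hc), hro⟩
  have hpel : ∀ {C : Subgroup G}, Nat.card C = D.q → ∀ c ∈ C,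
      ∀ r : ℕ, r.Prime → r ∣ orderOf c → r = p := fun {C} hC c hc r hr hro =>
    huniq r hr (hC ▸ hro.trans (C.orderOf_dvd_natCard hc))
  have hModd : ¬ 2 ∣ Nat.card M := by
    intro h
    obtain ⟨⟨i, hiM⟩, hi⟩ := exists_prime_orderOf_dvd_card' 2 h
    rw [Subgroup.orderOf_mk] at hi
    obtain ⟨⟨c, hc⟩, hc1⟩ := @exists_ne E ((Subgroup.nontrivial_iff_ne_bot E).mpr hD0) 1
    have hc1' : c ≠ 1 := fun h' => hc1 (Subtype.ext h')
    refine D.not_inverted hF (hInP hA c hc.1 hc1') hi
      (inverts_of_fpf (Involution.mul_self_of_orderOf hi)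
        (fun a ha => (Subgroup.mem_normalizer_iff.mp hiM a).mp ha) (fun a ha hai => ?_) hc)
    by_contra ha1
    refine D.not_inConjK_of_inP (hInP hA a ha.1 ha1) (S.inConjK_of_commute_involution hi ?_)
    calc a * i = i * a * i⁻¹ * i := by rw [hai]
      _ = _ := by group
  obtain ⟨hmul, -⟩ := D.odd_subgroup hF huniq hModd
  let P0 : Subgroup G :=
    { carrier := {z | z ∈ M ∧ ∀ r : ℕ, r.Prime → r ∣ orderOf z → r = p}
      one_mem' := ⟨M.one_mem, fun r hr h => by
        rw [orderOf_one] at h; exact absurd (Nat.dvd_one.mp h) hr.ne_one⟩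
      mul_mem' := fun {a b} ha hb => ⟨mul_mem ha.1 hb.1, hmul a ha.1 b hb.1 ha.2 hb.2⟩
      inv_mem' := fun {a} ha => ⟨inv_mem ha.1, by rw [orderOf_inv]; exact ha.2⟩ }
  have hP0 : IsPGroup p P0 := IsPGroup.iff_orderOf.mpr fun z =>
    ⟨_, by
      rw [← Subgroup.orderOf_coe]
      exact Nat.eq_prime_pow_of_unique_prime_dvd (orderOf_pos _).ne' fun {d} hd h => z.2.2 d hd h⟩
  obtain ⟨Q3, hQ3⟩ := hP0.exists_le_sylow
  have hQ3c : Nat.card (Q3 : Subgroup G) = D.q := by
    have hmulidx := (Q3 : Subgroup G).card_mul_index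
    rw [D.card_eq_q_mul] at hmulidx
    refine Nat.dvd_antisymm ?_ ?_
    · refine (Nat.coprime_of_dvd fun r hr a b => ?_).dvd_of_dvd_mul_right ⟨_, hmulidx.symm⟩
      obtain ⟨e, he⟩ := Q3.2.exists_card_eq
      rw [he] at a
      have := (Nat.prime_dvd_prime_iff_eq hr hp).mp (hr.dvd_of_dvd_pow a)
      subst this
      exact Nat.Prime.not_coprime_iff_dvd.mpr ⟨r, hr, hpq, b⟩ D.coprime_q
    · refine (Nat.coprime_of_dvd fun r hr a b => ?_).dvd_of_dvd_mul_right ⟨_, hmulidx⟩
      exact Q3.not_dvd_index (huniq r hr a ▸ b)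
  have hstep : ∀ C : Subgroup G, Nat.card C = D.q → E < C → (C : Subgroup G) = Q3 := by
    intro C hC hEC
    have hnil : Group.IsNilpotent C := (IsPGroup.of_card (hC.trans hqpow)).isNilpotent
    have hlt := Group.normalizerCondition_of_isNilpotent (E.subgroupOf C) (lt_top_iff_ne_top.mpr
      fun h => hEC.not_ge (Subgroup.subgroupOf_eq_top.mp h))
    obtain ⟨⟨n, hnC⟩, hnN, hnE⟩ := SetLike.exists_of_lt hlt
    have hnM : n ∈ M := by
      rw [hM, Subgroup.mem_normalizer_iff]
      intro h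
      constructor
      · intro hh
        exact (Subgroup.mem_normalizer_iff.mp hnN ⟨h, hEC.le hh⟩).mp hh
      · intro hh
        have hhC : h ∈ C := by
          have := mul_mem (mul_mem (inv_mem hnC) (hEC.le hh)) hnC
          simpa [mul_assoc] using this
        exact (Subgroup.mem_normalizer_iff.mp hnN ⟨h, hhC⟩).mpr hh
    by_contra hne3
    have hlt' : E < C ⊓ Q3 := by
      refine lt_of_le_of_ne (le_inf hEC.le fun e he =>
        hQ3 ⟨le_normalizer he, hpel hA e he.1⟩) fun h => hnE ?_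
      show n ∈ E
      rw [h]
      exact ⟨hnC, hQ3 ⟨hnM, hpel hC n hnC⟩⟩
    have hbot : C ⊓ (Q3 : Subgroup G) ≠ ⊥ := fun h => by rw [h] at hlt'; exact not_lt_bot hlt'
    have h := hmax (C, (Q3 : Subgroup G)) ⟨hC, hQ3c, hne3, hbot⟩
    exact absurd h (not_le.mpr (Set.Finite.card_lt_card (Set.toFinite _) hlt'))
  refine hAB ((hstep A hA ?_).trans (hstep B hB ?_).symm)
  · refine lt_of_le_of_ne inf_le_left fun h => hAB ?_
    exact Subgroup.eq_of_le_of_card_ge (inf_eq_left.mp h) (by rw [hA, hB])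
  · refine lt_of_le_of_ne inf_le_right fun h => hAB ?_
    exact (Subgroup.eq_of_le_of_card_ge (inf_eq_right.mp h) (by rw [hA, hB])).symm

theorem concl_minus (hF : D.F < 0) : Concl G := by
  classical
  have hk := two_le_k (S := S)
  have hq := D.q_ge
  obtain ⟨hFq, hqk⟩ := D.minus_eq hF
  obtain ⟨p, hp, huniq, hpq, hP⟩ := D.minus_P hF
  have hcen : ∀ g : G, D.InP g → ∀ a ∈ centralizer ({g} : Set G), a ≠ 1 →
      centralizer ({a} : Set G) = centralizer ({g} : Set G) := by
    intro g hg a ha ha1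
    obtain ⟨r, hr, hro⟩ := Nat.exists_prime_and_dvd (fun h => ha1 (orderOf_eq_one_iff.mp h))
    have haP : D.InP a :=
      ⟨r, hr, (hP g hg).2 ▸ hro.trans (Subgroup.orderOf_dvd_natCard _ ha), hro⟩
    by_contra hne
    have h := D.minus_TI hF (hP a haP).2 (hP g hg).2 hne
    exact ha1 (Subgroup.mem_bot.mp (h ▸ ⟨mem_centralizer_singleton_iff.mpr rfl, ha⟩))
  have hab : ∀ g : G, D.InP g → IsMulCommutative (centralizer ({g} : Set G)) := by
    intro g hg
    refine ⟨⟨fun a b => Subtype.ext ?_⟩⟩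
    rcases eq_or_ne (a : G) 1 with h | h
    · simp [h]
    · have hb := b.2
      simp only [← hcen g hg a a.2 h] at hb
      exact (mem_centralizer_singleton_iff.mp hb).symm
  obtain ⟨⟨g, hg⟩⟩ : Nonempty {g : G // D.InP g} := by
    refine (Nat.card_ne_zero.mp ?_).1
    rw [D.card_types.1]
    have : 9 ≤ D.q ^ 2 := by nlinarith
    omega
  set Q := centralizer ({g} : Set G) with hQ
  have hQc : Nat.card Q = D.q := (hP g hg).2
  have hQP : ∀ a ∈ Q, a ≠ 1 → D.InP a := fun a ha ha1 => by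
    obtain ⟨r, hr, hro⟩ := Nat.exists_prime_and_dvd (fun h => ha1 (orderOf_eq_one_iff.mp h))
    exact ⟨r, hr, hQc ▸ hro.trans (Q.orderOf_dvd_natCard ha), hro⟩
  set N := normalizer (Q : Set G) with hN
  have hNc : Nat.card N = D.q * (Nat.card S.K - 1) := by
    have h := D.card_normalizer hQc (hcen g hg) (fun a ha => ⟨(hP a ha).2, hab a ha⟩) hQP (hab g hg)
    rw [(D.card_minus hF).1, show D.q - 1 = 2 * (Nat.card S.K - 1) by omega,
      show D.q * (Nat.card S.K * (2 * (Nat.card S.K - 1))) =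
        D.q * (Nat.card S.K - 1) * (2 * Nat.card S.K) by ring, ← hqk] at h
    exact Nat.eq_of_mul_eq_mul_right (Nat.succ_pos _) h
  have hcop : Nat.Coprime D.q (Nat.card S.K - 1) := by
    refine Nat.Coprime.coprime_dvd_right ?_ D.coprime_q
    exact Dvd.dvd.mul_left ⟨2, by omega⟩ _
  haveI : (Q.subgroupOf N).Normal := Subgroup.normal_in_normalizer
  have hidx : (Q.subgroupOf N).index = Nat.card S.K - 1 := by
    have h := (Q.subgroupOf N).card_mul_index
    rw [Nat.card_congr (subgroupOfEquivOfLe le_normalizer).toEquiv, hQc, hNc] at h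
    exact Nat.eq_of_mul_eq_mul_left (by omega) h
  obtain ⟨Wc, hWc⟩ := Subgroup.exists_right_complement'_of_coprime (N := Q.subgroupOf N)
    (by rw [Nat.card_congr (subgroupOfEquivOfLe le_normalizer).toEquiv, hQc, hidx]; exact hcop)
  set W : Subgroup G := Wc.map N.subtype with hW
  have hWle : W ≤ N := Subgroup.map_subtype_le _
  have hWcard : Nat.card W = Nat.card S.K - 1 := by
    rw [hW, ← Nat.card_congr (Wc.equivMapOfInjective _ N.subtype_injective).toEquiv, ← hidx,
      hWc.symm.index_eq_card]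
  have hWodd : ¬ 2 ∣ Nat.card W := by
    rw [hWcard]; have := S.two_dvd_card_K; omega
  obtain ⟨-, hWab⟩ := D.odd_subgroup hF huniq hWodd
  have hWab' : ∀ a ∈ W, ∀ b ∈ W, a * b = b * a := hWab fun h => by
    rw [hWcard] at h
    exact Nat.Prime.not_coprime_iff_dvd.mpr ⟨p, hp, hpq, h⟩ hcop
  have hcop' : Nat.Coprime (Nat.card Q) (Nat.card W) := by rw [hQc, hWcard]; exact hcop
  refine ⟨Q, W, ?_, hcen g hg, ⟨⟨fun a b => Subtype.ext (hWab' a a.2 b b.2)⟩⟩, ?_,
    Subgroup.inf_eq_bot_of_coprime hcop', ?_, fun X hX hne => ?_⟩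
  · rw [hQc]; exact D.card_eq
  · rw [hQc, hWcard]; omega
  · symm
    refine Subgroup.eq_of_le_of_card_ge (sup_le le_normalizer hWle)
      (Nat.le_of_dvd Nat.card_pos ?_)
    rw [hNc, ← hQc, ← hWcard]
    exact hcop'.mul_dvd_of_dvd_of_dvd (Subgroup.card_dvd_of_le le_sup_left)
      (Subgroup.card_dvd_of_le le_sup_right)
  obtain ⟨⟨w, hwX⟩, hw1'⟩ := @exists_ne X ((Subgroup.nontrivial_iff_ne_bot X).mpr hne) 1
  have hw1 : w ≠ 1 := fun h => hw1' (Subtype.ext h)
  have hwW := hX hwX
  have hwo : orderOf w ∣ Nat.card S.K - 1 := hWcard ▸ W.orderOf_dvd_natCard hwW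
  have hwK : ¬ S.InConjK w := by
    rintro ⟨x, hx⟩
    have h := S.K.orderOf_dvd_natCard hx
    rw [← MulAut.conj_apply, MulEquiv.orderOf_eq] at h
    refine hw1 (orderOf_eq_one_iff.mp (Nat.dvd_one.mp ?_))
    have h' := Nat.dvd_sub h hwo
    rwa [Nat.sub_sub_self (by omega)] at h'
  have hwP : ¬ D.InP w := fun ⟨r, hr, hrq, hro⟩ =>
    Nat.Prime.not_coprime_iff_dvd.mpr ⟨r, hr, hrq, hro.trans hwo⟩ hcop
  obtain ⟨i, hi, hiw, hAc, -, hAcen, -⟩ := D.minus_R hF hwK hwP
  have hWA : W = centralizer ({w} : Set G) :=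
    Subgroup.eq_of_le_of_card_ge
      (fun z hz => mem_centralizer_singleton_iff.mpr (hWab' z hz w hwW)) (by rw [hAc, hWcard])
  have hinv : ∀ d ∈ W, i * d * i⁻¹ = d⁻¹ := fun d hd =>
    S.inverts_centralizer hwK hi hiw (mem_centralizer_singleton_iff.mp (hWA ▸ hd))
  have hiW : i ∉ W := fun h => hWodd (hi ▸ W.orderOf_dvd_natCard h)
  have hii : i⁻¹ = i := inv_eq_of_mul_eq_one_right (Involution.mul_self_of_orderOf hi)
  have hpres : ∀ Y : Subgroup G, Y ≤ W → W ⊔ zpowers i ≤ normalizer (Y : Set G) := by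
    intro Y hY
    refine sup_le (fun d hd => ?_) ?_
    · rw [Subgroup.mem_normalizer_iff]
      intro h
      refine ⟨fun hh => ?_, fun hh => ?_⟩
      · rw [hWab' d hd h (hY hh), mul_inv_cancel_right]; exact hh
      · have e := hWab' d hd (d * h * d⁻¹) (hY hh)
        have e' : d * h * d⁻¹ = h := by
          calc d * h * d⁻¹ = d⁻¹ * (d * (d * h * d⁻¹)) := by group
            _ = d⁻¹ * ((d * h * d⁻¹) * d) := by rw [e]
            _ = _ := by group
        rwa [e'] at hh
    · rw [zpowers_le, Subgroup.mem_normalizer_iff]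
      intro h
      refine ⟨fun hh => by rw [hinv h (hY hh)]; exact inv_mem hh, fun hh => ?_⟩
      have e := hinv _ (hY hh)
      have e' : i * (i * h * i⁻¹) * i⁻¹ = h := by
        rw [hii]
        calc i * (i * h * i) * i = (i * i) * h * (i * i) := by group
          _ = h := by rw [Involution.mul_self_of_orderOf hi, one_mul, mul_one]
      rw [e'] at e
      rw [e]
      exact inv_mem hh
  have hNW : normalizer (W : Set G) = W ⊔ zpowers i := by
    symm
    refine Subgroup.eq_of_le_of_card_ge (hpres W le_rfl) ?_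
    have hc : Nat.card (normalizer (W : Set G)) = 2 * Nat.card W := by
      rw [hWA, D.card_normalizer_R hF hwK hwP, hAc]
    rw [hc]
    obtain ⟨m, hm⟩ := Subgroup.card_dvd_of_le (le_sup_left (a := W) (b := zpowers i))
    rw [hm, mul_comm 2]
    refine Nat.mul_le_mul_left _ ?_
    by_contra hlt
    have hm0 : m ≠ 0 := fun h => by
      rw [h, mul_zero] at hm
      exact Nat.card_pos.ne' hm
    have hm1 : m = 1 := by omega
    rw [hm1, mul_one] at hm
    have hsup := Subgroup.eq_of_le_of_card_ge (le_sup_left (a := W) (b := zpowers i)) hm.le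
    have hmem : i ∈ W ⊔ zpowers i := (le_sup_right (a := W)) (mem_zpowers i)
    rw [← hsup] at hmem
    exact hiW hmem
  refine ⟨le_antisymm (fun x hx => ?_) (hNW ▸ hpres X hX), i, hi, hiW, hinv, hNW⟩
  rw [hWA]
  refine ti_normalizer hAcen (hWA ▸ hwW) hw1 (hWA ▸ hX ?_)
  exact (Subgroup.mem_normalizer_iff.mp hx w).mp hwX

end Cfsg.Agent.BSW7.Setup.Shape
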