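import Cfsg.Agent.BSW7.Main
import Cfsg.Agent.Lib.Zassenhaus.OddPSL
import Cfsg.Agent.Lib.Zassenhaus.EvenPSL
import Cfsg.Agent.S0496

/-!
# Brauer–Suzuki–Wall: identification with `PSL(2, q)`

From the conclusion of the abstract theorem a simple group acts on the `q + 1` conjugates of `Q`
as a Zassenhaus group.
-/

set_option autoImplicit false
set_option linter.unusedSectionVars false

namespace Cfsg.Agent.BSW7

open Subgroup MulAction

/-- The data of the conclusion, unbundled. -/
structure Frame (G : Type*) [Group G] (Q D : Subgroup G) : Prop where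
  card : 2 * Nat.card G = Nat.card ↥Q * (Nat.card ↥Q + 1) * (Nat.card ↥Q - 1)
  cen : ∀ x ∈ Q, x ≠ 1 → Subgroup.centralizer ({x} : Set G) = Q
  comm : IsMulCommutative ↥D
  half : 2 * Nat.card ↥D + 1 = Nat.card ↥Q
  disj : Q ⊓ D = ⊥
  norm : Subgroup.normalizer (Q : Set G) = Q ⊔ D
  inv : ∀ X : Subgroup G, X ≤ D → X ≠ ⊥ →
    Subgroup.normalizer (X : Set G) = Subgroup.normalizer (D : Set G) ∧
    ∃ u : G, orderOf u = 2 ∧ u ∉ D ∧ (∀ d ∈ D, u * d * u⁻¹ = d⁻¹) ∧
      Subgroup.normalizer (D : Set G) = D ⊔ Subgroup.zpowers u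

namespace Frame

variable {G : Type*} [Group G] [Finite G] {Q D : Subgroup G} (W : Frame G Q D)

include W

theorem q_ge : 3 ≤ Nat.card Q := by
  have h1 := W.half
  have h2 : 0 < Nat.card D := Nat.card_pos
  omega

theorem coprime : Nat.Coprime (Nat.card Q) (Nat.card D) := by
  rw [← W.half, mul_comm]
  refine Nat.coprime_of_dvd fun p hp h1 h2 => ?_
  have h3 : p ∣ Nat.card D * 2 := h2.mul_right 2
  exact hp.ne_one (Nat.dvd_one.mp ((Nat.dvd_add_right h3).mp h1))

theorem Q_comm : ∀ a ∈ Q, ∀ b ∈ Q, a * b = b * a := by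
  intro a ha b hb
  rcases eq_or_ne a 1 with h | h
  · simp [h]
  · have hb' := hb
    rw [← W.cen a ha h, Subgroup.mem_centralizer_singleton_iff] at hb'
    exact hb'.symm

theorem le_D : D ≤ normalizer (Q : Set G) := W.norm ▸ le_sup_right

theorem card_N : Nat.card (normalizer (Q : Set G)) = Nat.card Q * Nat.card D := by
  have h1 : Nat.card Q * Nat.card D ∣ Nat.card (normalizer (Q : Set G)) :=
    W.coprime.mul_dvd_of_dvd_of_dvd (card_dvd_of_le le_normalizer) (card_dvd_of_le W.le_D)
  have h2 : ∀ x ∈ normalizer (Q : Set G), ∃ y ∈ Q, ∃ d ∈ D, x = y * d := by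
    let L : Subgroup G :=
      { carrier := {x | ∃ y ∈ Q, ∃ d ∈ D, x = y * d}
        one_mem' := ⟨1, Q.one_mem, 1, D.one_mem, (one_mul 1).symm⟩
        mul_mem' := by
          rintro _ _ ⟨y, hy, d, hd, rfl⟩ ⟨y', hy', d', hd', rfl⟩
          exact ⟨y * (d * y' * d⁻¹),
            mul_mem hy ((Subgroup.mem_normalizer_iff.mp (W.le_D hd) y').mp hy'),
            d * d', mul_mem hd hd', by group⟩
        inv_mem' := by
          rintro _ ⟨y, hy, d, hd, rfl⟩
          exact ⟨d⁻¹ * y⁻¹ * d⁻¹⁻¹,
            (Subgroup.mem_normalizer_iff.mp (inv_mem (W.le_D hd)) _).mp (inv_mem hy),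
            d⁻¹, inv_mem hd, by group⟩ }
    intro x hx
    rw [W.norm] at hx
    have hle : Q ⊔ D ≤ L := sup_le (fun y hy => ⟨y, hy, 1, D.one_mem, (mul_one y).symm⟩)
      fun d hd => ⟨1, Q.one_mem, d, hd, (one_mul d).symm⟩
    exact hle hx
  have h3 : Nat.card (normalizer (Q : Set G)) ≤ Nat.card (Q × D) := by
    refine Nat.card_le_card_of_injective (fun x => ((⟨_, (h2 x x.2).choose_spec.1⟩ : Q),
      (⟨_, (h2 x x.2).choose_spec.2.choose_spec.1⟩ : D))) fun a b hab => Subtype.ext ?_
    simp only [Prod.mk.injEq, Subtype.mk.injEq] at hab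
    exact (h2 a a.2).choose_spec.2.choose_spec.2.trans
      ((congrArg₂ (· * ·) hab.1 hab.2).trans (h2 b b.2).choose_spec.2.choose_spec.2.symm)
  rw [Nat.card_prod] at h3
  exact le_antisymm h3 (Nat.le_of_dvd Nat.card_pos h1)

theorem index_N : (normalizer (Q : Set G)).index = Nat.card Q + 1 := by
  have h := (normalizer (Q : Set G)).card_mul_index
  have h1 := W.card
  rw [← h, W.card_N, show Nat.card Q - 1 = 2 * Nat.card D by have := W.half; omega] at h1
  refine Nat.eq_of_mul_eq_mul_left (show 0 < 2 * (Nat.card Q * Nat.card D) from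
    Nat.mul_pos two_pos (Nat.mul_pos Nat.card_pos Nat.card_pos)) ?_
  linarith

/-- Elements of `N(Q)` of order dividing `q` lie in `Q`. -/
theorem mem_Q_of_pow {y : G} (hy : y ∈ normalizer (Q : Set G)) (h : y ^ Nat.card Q = 1) :
    y ∈ Q := by
  set N := normalizer (Q : Set G)
  haveI : (Q.subgroupOf N).Normal := Subgroup.normal_in_normalizer
  have hidx : (Q.subgroupOf N).index = Nat.card D := by
    have h1 := (Q.subgroupOf N).card_mul_index
    rw [Nat.card_congr (subgroupOfEquivOfLe le_normalizer).toEquiv, W.card_N] at h1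
    exact Nat.eq_of_mul_eq_mul_left Nat.card_pos h1
  have h2 : (⟨y, hy⟩ : N) ^ (Q.subgroupOf N).index ∈ Q.subgroupOf N := Subgroup.pow_index_mem _ _
  rw [hidx, mem_subgroupOf, SubgroupClass.coe_pow] at h2
  obtain ⟨m, hm⟩ := exists_pow_eq_self_of_coprime
    (x := y) (n := Nat.card D) (W.coprime.symm.coprime_dvd_right (orderOf_dvd_of_pow_eq_one h))
  exact hm ▸ pow_mem h2 m

theorem fix_Q {y x : G} (hy : y ∈ Q) (hy1 : y ≠ 1)
    (h : x⁻¹ * y * x ∈ normalizer (Q : Set G)) : x ∈ normalizer (Q : Set G) := by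
  have hmem : x⁻¹ * y * x ∈ Q := by
    refine W.mem_Q_of_pow h ?_
    have : x⁻¹ * y * x = MulAut.conj x⁻¹ y := by simp
    rw [this, ← map_pow, show y ^ Nat.card Q = 1 from
      congrArg Subtype.val (pow_card_eq_one' (x := (⟨y, hy⟩ : Q))), map_one]
  have := ti_normalizer W.cen hy hy1 (x := x⁻¹) (by rwa [inv_inv])
  exact inv_mem_iff.mp this

theorem D_ne_bot [IsSimpleGroup G] (hG : ¬ IsMulCommutative G) : 1 < Nat.card D := by
  by_contra h
  have h1 : Nat.card D = 1 := by have : 0 < Nat.card D := Nat.card_pos; omega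
  have hq : Nat.card Q = 3 := by have := W.half; omega
  have hc := W.card
  rw [hq] at hc
  have h12 : Nat.card G = 12 := by omega
  rcases Cfsg.Agent.S0496.result hG (by omega) with e | e | e | e | e | e <;> omega

end Frame

/-- A simple group in which the conclusion of the abstract theorem holds is `PSL(2, q)`. -/
theorem psl_of_frame {G : Type*} [Group G] [Finite G] [IsSimpleGroup G]
    (hG : ¬ IsMulCommutative G) {Q D : Subgroup G} (W : Frame G Q D) :
    ∃ (F : Type) (_ : Field F) (_ : Fintype F), Fintype.card F = Nat.card Q ∧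
      Nonempty (G ≃* Matrix.ProjectiveSpecialLinearGroup (Fin 2) F) := by
  classical
  haveI := Fintype.ofFinite G
  set N := normalizer (Q : Set G) with hN
  haveI : Fintype (G ⧸ N) := Fintype.ofFinite _
  have hq := W.q_ge
  have hd := W.D_ne_bot hG
  have hΩ : Fintype.card (G ⧸ N) = Nat.card Q + 1 := by
    rw [← Nat.card_eq_fintype_card]; exact W.index_N
  have hDne : D ≠ ⊥ := fun h => by rw [h, Subgroup.card_bot] at hd; omega
  obtain ⟨-, u, hu, huD, hinv, hND⟩ := W.inv D le_rfl hDne
  have huu : u * u = 1 := Involution.mul_self_of_orderOf hu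
  have hu' : u⁻¹ = u := inv_eq_of_mul_eq_one_right huu
  have hfixiff : ∀ g x : G, g • (↑x : G ⧸ N) = ↑x ↔ x⁻¹ * g * x ∈ N := by
    intro g x
    rw [MulAction.Quotient.smul_coe, eq_comm, QuotientGroup.eq, smul_eq_mul, mul_assoc]
  have hDab : ∀ a ∈ D, ∀ b ∈ D, a * b = b * a := fun a ha b hb =>
    congrArg Subtype.val (W.comm.is_comm.comm (⟨a, ha⟩ : D) ⟨b, hb⟩)
  have huN : u ∉ N := by
    intro h
    obtain ⟨e, he⟩ := @exists_ne D ((Subgroup.nontrivial_iff_ne_bot D).mpr hDne) 1
    have he1 : (e : G) ≠ 1 := fun h' => he (Subtype.ext h')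
    -- decompose `u = y * d`
    have hsup : u ∈ Q ⊔ D := by rw [← W.norm]; exact h
    haveI : (Q.subgroupOf N).Normal := Subgroup.normal_in_normalizer
    have hdec : ∃ y ∈ Q, ∃ d ∈ D, u = y * d := by
      have := Subgroup.mem_sup_of_normal_left (s := Q.subgroupOf N) (t := D.subgroupOf N)
        (x := ⟨u, h⟩)
      rw [← Subgroup.subgroupOf_sup le_normalizer W.le_D, mem_subgroupOf] at this
      obtain ⟨y, hy, d, hd', hyd⟩ := this.mp hsup
      exact ⟨y, hy, d, hd', congrArg Subtype.val hyd.symm⟩
    obtain ⟨y, hy, d, hd', rfl⟩ := hdec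
    have hy1 : y ≠ 1 := fun h' => huD (by rw [h', one_mul]; exact hd')
    have hde : y * (e : G) * y⁻¹ = (e : G)⁻¹ := by
      rw [← hinv e e.2]
      calc y * (e : G) * y⁻¹ = y * ((d * e) * d⁻¹) * y⁻¹ := by
            rw [hDab d hd' e e.2, mul_inv_cancel_right]
        _ = _ := by group
    have hc : (e : G)⁻¹ * y * (e : G) * y⁻¹ ∈ Q :=
      mul_mem (by
        have := (Subgroup.mem_normalizer_iff.mp (inv_mem (W.le_D e.2)) y).mp hy
        rwa [inv_inv] at this) (inv_mem hy)
    have hee : (e : G)⁻¹ * (y * (e : G) * y⁻¹) ∈ D := by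
      rw [hde]; exact mul_mem (inv_mem e.2) (inv_mem e.2)
    have hz : (e : G)⁻¹ * y * (e : G) * y⁻¹ = 1 := by
      rw [← Subgroup.mem_bot, ← W.disj]
      exact ⟨hc, by rw [show (e : G)⁻¹ * y * (e : G) * y⁻¹ = (e : G)⁻¹ * (y * (e : G) * y⁻¹) by group]; exact hee⟩
    have hey : (e : G) ∈ centralizer ({y} : Set G) := by
      rw [Subgroup.mem_centralizer_singleton_iff]
      calc (e : G) * y = (e : G) * ((e : G)⁻¹ * y * (e : G) * y⁻¹) * y := by rw [hz, mul_one]
        _ = y * (e : G) := by group
    rw [W.cen y hy hy1] at hey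
    exact he1 (by rw [← Subgroup.mem_bot, ← W.disj]; exact ⟨hey, e.2⟩)
  set a : G ⧸ N := ((1 : G) : G ⧸ N) with ha
  set b : G ⧸ N := ((u : G) : G ⧸ N) with hb
  have hab : a ≠ b := fun h => huN (by simpa using QuotientGroup.eq.mp h)
  have hstab : stabilizer G a = N := by
    ext g
    rw [mem_stabilizer_iff, ha, hfixiff]
    simp
  have hfixQ : ∀ y ∈ Q, y ≠ 1 → ∀ c : G ⧸ N, y • c = c → c = a := by
    intro y hy hy1 c
    induction c using QuotientGroup.induction_on with
    | H x =>
      intro hc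
      rw [ha, QuotientGroup.eq, mul_one]
      exact inv_mem (W.fix_Q hy hy1 ((hfixiff y x).mp hc))
  have hQN : Q ≤ stabilizer G a := by rw [hstab]; exact le_normalizer
  -- `Q` is transitive on the other points
  have hQtrans : ∀ c : G ⧸ N, c ≠ a → ∃ y ∈ Q, y • b = c := by
    intro c hc
    let f : Q → {z : G ⧸ N // z ≠ a} := fun y => ⟨(y : G) • b, fun h => hab (by
      have h' := congrArg (fun z => (y : G)⁻¹ • z) h
      simp only [inv_smul_smul] at h'
      rw [h']
      exact (mem_stabilizer_iff.mp (inv_mem (hQN y.2))).symm)⟩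
    have hinj : Function.Injective f := by
      intro y y' h
      by_contra hne
      have h' : ((y' : G)⁻¹ * (y : G)) • b = b := by
        rw [mul_smul, inv_smul_eq_iff]; exact congrArg Subtype.val h
      refine hab.symm (hfixQ _ (mul_mem (inv_mem y'.2) y.2) ?_ b h')
      exact fun hh => hne (Subtype.ext (inv_mul_eq_one.mp hh).symm)
    have hbij := (Fintype.bijective_iff_injective_and_card f).mpr ⟨hinj, by
      rw [Fintype.card_subtype_compl, Fintype.card_subtype_eq, hΩ, Nat.add_sub_cancel,
        Nat.card_eq_fintype_card]⟩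
    obtain ⟨y, hy⟩ := hbij.2 ⟨c, hc⟩
    exact ⟨y, y.2, congrArg Subtype.val hy⟩
  have h2t : IsMultiplyPretransitive G (G ⧸ N) 2 := by
    rw [is_two_pretransitive_iff]
    intro p q r s hpq hrs
    have key : ∀ c d : G ⧸ N, c ≠ d → ∃ g : G, g • a = c ∧ g • b = d := by
      intro c d hcd
      obtain ⟨g, hg⟩ := exists_smul_eq G a c
      obtain ⟨y, hy, hyb⟩ := hQtrans (g⁻¹ • d) (fun h => hcd (by
        rw [← hg, ← h, smul_inv_smul]))
      exact ⟨g * y, by rw [mul_smul, mem_stabilizer_iff.mp (hQN hy), hg],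
        by rw [mul_smul, hyb, smul_inv_smul]⟩
    obtain ⟨g1, h1, h1'⟩ := key p q hpq
    obtain ⟨g2, h2, h2'⟩ := key r s hrs
    exact ⟨g2 * g1⁻¹, by rw [mul_smul, ← h1, inv_smul_smul, h2],
      by rw [mul_smul, ← h1', inv_smul_smul, h2']⟩
  have hDfix : ∀ d ∈ D, d • a = a ∧ d • b = b := by
    intro d hd'
    refine ⟨mem_stabilizer_iff.mp (hstab.ge (W.le_D hd')), ?_⟩
    rw [hb, hfixiff, hu']
    have := hinv d hd'
    rw [hu'] at this
    rw [this]
    exact W.le_D (inv_mem hd')
  set T := stabilizer G a ⊓ stabilizer G b with hT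
  have hTD : T = D := by
    symm
    refine Subgroup.eq_of_le_of_card_ge (fun d hd' => ⟨(hDfix d hd').1, (hDfix d hd').2⟩) ?_
    have hinj : Function.Injective (fun p : Q × T => (p.1 : G) * (p.2 : G)) := by
      rintro ⟨y, x⟩ ⟨y', x'⟩ h
      have hyy : (y' : G)⁻¹ * y = (x' : G) * (x : G)⁻¹ := by
        calc (y' : G)⁻¹ * y = (y' : G)⁻¹ * ((y : G) * x) * (x : G)⁻¹ := by group
          _ = (y' : G)⁻¹ * ((y' : G) * x') * (x : G)⁻¹ := by rw [show (y : G) * x = _ from h]
          _ = _ := by group
      have h1 : (y' : G)⁻¹ * y = 1 := by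
        by_contra hne
        have hmem : (x' : G) * (x : G)⁻¹ ∈ T := mul_mem x'.2 (inv_mem x.2)
        rw [← hyy] at hmem
        exact hab.symm (hfixQ _ (mul_mem (inv_mem y'.2) y.2) hne b hmem.2)
      have e1 : y = y' := (Subtype.ext (inv_mul_eq_one.mp h1)).symm
      subst e1
      exact Prod.ext rfl (Subtype.ext (mul_left_cancel h))
    have hle : Nat.card (Q × T) ≤ Nat.card N :=
      Nat.card_le_card_of_injective
        (fun p => (⟨(p.1 : G) * (p.2 : G), mul_mem (le_normalizer p.1.2) (hstab ▸ p.2.2.1)⟩ : N))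
        fun p p' h => hinj (congrArg Subtype.val h)
    rw [Nat.card_prod, W.card_N] at hle
    exact Nat.le_of_mul_le_mul_left hle Nat.card_pos
  -- elements of `N` outside `Q` are conjugate into `D`
  have hconj : ∀ g ∈ N, g ∉ Q → ∃ y ∈ Q, y * g * y⁻¹ ∈ D := by
    intro g hg hgQ
    let f : Q × {e : D // e ≠ 1} → {z : N // (z : G) ∉ Q} := fun p =>
      ⟨⟨(p.1 : G) * ((p.2 : D) : G) * (p.1 : G)⁻¹,
        mul_mem (mul_mem (le_normalizer p.1.2) (W.le_D p.2.1.2)) (inv_mem (le_normalizer p.1.2))⟩,
        fun h => p.2.2 (Subtype.ext (Subgroup.mem_bot.mp (W.disj ▸ ⟨by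
          have := mul_mem (mul_mem (inv_mem p.1.2) h) p.1.2
          simpa [mul_assoc] using this, p.2.1.2⟩)))⟩
    have hinj : Function.Injective f := by
      rintro ⟨y, e⟩ ⟨y', e'⟩ h
      have h1 : (y : G) * (e : D) * (y : G)⁻¹ = (y' : G) * (e' : D) * (y' : G)⁻¹ :=
        congrArg (fun z : {z : N // (z : G) ∉ Q} => ((z : N) : G)) h
      set w : G := (y' : G)⁻¹ * y with hwdef
      have hw : w ∈ Q := mul_mem (inv_mem y'.2) y.2
      have h2 : w * ((e : D) : G) * w⁻¹ = ((e' : D) : G) := by
        calc w * ((e : D) : G) * w⁻¹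
            = (y' : G)⁻¹ * ((y : G) * (e : D) * (y : G)⁻¹) * y' := by rw [hwdef]; group
          _ = (y' : G)⁻¹ * ((y' : G) * (e' : D) * (y' : G)⁻¹) * y' := by rw [h1]
          _ = _ := by group
      have h3 : ((e : D) : G)⁻¹ * ((e' : D) : G) = 1 := by
        rw [← Subgroup.mem_bot, ← W.disj]
        refine Subgroup.mem_inf.mpr ⟨?_, mul_mem (inv_mem e.1.2) e'.1.2⟩
        rw [← h2, show ((e : D) : G)⁻¹ * (w * ((e : D) : G) * w⁻¹) =
          (((e : D) : G)⁻¹ * w * ((e : D) : G)⁻¹⁻¹) * w⁻¹ by group]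
        exact mul_mem ((Subgroup.mem_normalizer_iff.mp (inv_mem (W.le_D e.1.2)) w).mp hw)
          (inv_mem hw)
      have he : e = e' := Subtype.ext (Subtype.ext (inv_mul_eq_one.mp h3))
      subst he
      have hw1 : w = 1 := by
        by_contra hne
        have hmem : ((e : D) : G) ∈ centralizer ({w} : Set G) := by
          rw [Subgroup.mem_centralizer_singleton_iff]
          calc ((e : D) : G) * w = (w * ((e : D) : G) * w⁻¹) * w := by rw [h2]
            _ = _ := by group
        rw [W.cen w hw hne] at hmem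
        exact e.2 (Subtype.ext (Subgroup.mem_bot.mp (W.disj ▸ ⟨hmem, e.1.2⟩)))
      exact Prod.ext (Subtype.ext (inv_mul_eq_one.mp hw1)).symm rfl
    have hbij := (Fintype.bijective_iff_injective_and_card f).mpr ⟨hinj, by
      rw [← Nat.card_eq_fintype_card, ← Nat.card_eq_fintype_card, Nat.card_prod]
      have h1 : Nat.card {e : D // e ≠ 1} = Nat.card D - 1 := by
        rw [Nat.card_eq_fintype_card, Fintype.card_subtype_compl, Fintype.card_subtype_eq,
          Nat.card_eq_fintype_card]
      have h2 : Nat.card {z : N // (z : G) ∉ Q} = Nat.card N - Nat.card Q := by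
        rw [Nat.card_eq_fintype_card, Fintype.card_subtype_compl, ← Nat.card_eq_fintype_card,
          ← Nat.card_eq_fintype_card]
        exact congrArg _ (Nat.card_congr (subgroupOfEquivOfLe le_normalizer).toEquiv)
      rw [h1, h2, W.card_N, Nat.mul_sub, mul_one]⟩
    obtain ⟨⟨y, e⟩, hye⟩ := hbij.2 ⟨⟨g, hg⟩, hgQ⟩
    have hge : (y : G) * (e : D) * (y : G)⁻¹ = g :=
      congrArg (fun z : {z : N // (z : G) ∉ Q} => ((z : N) : G)) hye
    refine ⟨(y : G)⁻¹, inv_mem y.2, ?_⟩
    rw [← hge, show (y : G)⁻¹ * ((y : G) * (e : D) * (y : G)⁻¹) * (y : G)⁻¹⁻¹ = ((e : D) : G) by group]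
    exact e.1.2
  -- centralisers of nontrivial elements of `D`
  have hcases : ∀ h ∈ normalizer (D : Set G), h ∈ D ∨ h * u ∈ D := by
    intro h hh
    let L : Subgroup G :=
      { carrier := {g | g ∈ D ∨ g * u ∈ D}
        one_mem' := Or.inl D.one_mem
        mul_mem' := by
          intro p q hp hq'
          rcases hp with hp | hp <;> rcases hq' with hq' | hq'
          · exact Or.inl (mul_mem hp hq')
          · exact Or.inr (by rw [mul_assoc]; exact mul_mem hp hq')
          · refine Or.inr ?_
            have e : p * q * u = (p * u) * (u * q * u⁻¹) := by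
              rw [hu']
              calc p * q * u = p * (u * u) * q * u := by rw [huu, mul_one]
                _ = _ := by group
            rw [e, hinv q hq']
            exact mul_mem hp (inv_mem hq')
          · refine Or.inl ?_
            have e : p * q = (p * u) * (u * (q * u) * u⁻¹) := by
              rw [hu']
              calc p * q = p * (u * u) * q * (u * u) := by rw [huu, mul_one, mul_one]
                _ = _ := by group
            rw [e, hinv _ hq']
            exact mul_mem hp (inv_mem hq')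
        inv_mem' := by
          intro p hp
          rcases hp with hp | hp
          · exact Or.inl (inv_mem hp)
          · refine Or.inr ?_
            have e : p⁻¹ * u = u * (p * u)⁻¹ * u⁻¹ := by
              rw [hu', mul_inv_rev, hu']
              calc p⁻¹ * u = (u * u) * p⁻¹ * u := by rw [huu, one_mul]
                _ = _ := by group
            rw [e, hinv _ (inv_mem hp), inv_inv]
            exact hp }
    have hle : D ⊔ zpowers u ≤ L := sup_le (fun p hp => Or.inl hp)
      (zpowers_le.mpr (Or.inr (by rw [huu]; exact D.one_mem)))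
    exact hle (hND ▸ hh)
  have hfixD : ∀ g ∈ D, g ≠ 1 → ∀ e ∈ D, ∀ w : G, w * g * w⁻¹ = e →
      w ∈ normalizer (D : Set G) := by
    intro g hgD hg1 e heD w hw
    have he1 : e ≠ 1 := fun h => hg1 (conj_eq_one_iff.mp (hw.trans h))
    have hz : zpowers g ≠ ⊥ := fun h => hg1 (Subgroup.zpowers_eq_bot.mp h)
    have hN2 : centralizer ({g} : Set G) ≤ normalizer (D : Set G) := by
      rw [← (W.inv _ (zpowers_le.mpr hgD) hz).1, ← Subgroup.centralizer_closure,
        ← Subgroup.zpowers_eq_closure]
      exact Subgroup.centralizer_le_normalizer _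
    by_cases hg2 : g * g = 1
    · -- a unique involution
      have hinvQ : ∀ h ∈ D, h * h = 1 → h ≠ 1 → ∀ y ∈ Q, h * y * h⁻¹ = y⁻¹ := by
        intro h hh h2 h1 y hy
        refine inverts_of_fpf h2
          (fun c hc => (Subgroup.mem_normalizer_iff.mp (W.le_D hh) c).mp hc) (fun c hc hfix => ?_) hy
        by_contra hc1
        have hmem : h ∈ centralizer ({c} : Set G) := by
          rw [Subgroup.mem_centralizer_singleton_iff]
          calc h * c = h * c * h⁻¹ * h := by group
            _ = _ := by rw [hfix]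
        rw [W.cen c hc hc1] at hmem
        exact h1 (Subgroup.mem_bot.mp (W.disj ▸ ⟨hmem, hh⟩))
      have he2 : e * e = 1 := by
        rw [← hw]
        calc w * g * w⁻¹ * (w * g * w⁻¹) = w * (g * g) * w⁻¹ := by group
          _ = 1 := by rw [hg2, mul_one, mul_inv_cancel]
      have hge : e = g := by
        obtain ⟨y, hy⟩ := @exists_ne Q (Finite.one_lt_card_iff_nontrivial.mp (by omega)) 1
        have hy1 : (y : G) ≠ 1 := fun h => hy (Subtype.ext h)
        have hmem : g * e ∈ centralizer ({(y : G)} : Set G) := by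
          rw [Subgroup.mem_centralizer_singleton_iff]
          have hey := hinvQ e heD he2 he1 y y.2
          have hgy := hinvQ g hgD hg2 hg1 _ (inv_mem y.2)
          calc g * e * (y : G) = g * (e * y * e⁻¹) * g⁻¹ * (g * e) := by group
            _ = (y : G) * (g * e) := by rw [hey, hgy, inv_inv]
        rw [W.cen _ y.2 hy1] at hmem
        have h1 : g * e = 1 := by
          rw [← Subgroup.mem_bot, ← W.disj]
          exact Subgroup.mem_inf.mpr ⟨hmem, mul_mem hgD heD⟩
        rw [eq_inv_of_mul_eq_one_right h1]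
        exact inv_eq_of_mul_eq_one_right hg2
      refine hN2 ?_
      rw [Subgroup.mem_centralizer_singleton_iff]
      calc w * g = w * g * w⁻¹ * w := by group
        _ = g * w := by rw [hw, hge]
    · -- `C(g) = D`
      have hC : ∀ f ∈ D, f * f ≠ 1 → centralizer ({f} : Set G) = D := by
        intro f hf hf2
        refine le_antisymm (fun z hz' => ?_)
          (fun z hz' => Subgroup.mem_centralizer_singleton_iff.mpr (hDab z hz' f hf))
        have hzf : zpowers f ≠ ⊥ := fun h => hf2 (by rw [Subgroup.zpowers_eq_bot.mp h, mul_one])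
        have hzN : z ∈ normalizer (D : Set G) := by
          rw [← (W.inv _ (zpowers_le.mpr hf) hzf).1]
          refine Subgroup.centralizer_le_normalizer _ ?_
          rwa [Subgroup.zpowers_eq_closure, Subgroup.centralizer_closure]
        refine (hcases z hzN).resolve_right fun hzu => hf2 ?_
        have hcomm := Subgroup.mem_centralizer_singleton_iff.mp hz'
        have h1 : z * f * z⁻¹ = f⁻¹ := by
          have hyu := hDab _ hzu _ (inv_mem hf)
          calc z * f * z⁻¹ = (z * u) * (u * f * u⁻¹) * (z * u)⁻¹ := by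
                rw [mul_inv_rev, hu']
                calc z * f * z⁻¹ = z * (u * u) * f * (u * u) * z⁻¹ := by rw [huu, mul_one, mul_one]
                  _ = _ := by group
            _ = f⁻¹ := by rw [hinv f hf, hyu, mul_inv_cancel_right]
        rw [hcomm, mul_inv_cancel_right] at h1
        exact eq_inv_iff_mul_eq_one.mp h1
      have he2 : e * e ≠ 1 := fun h => hg2 (by
        rw [← hw] at h
        have h' := congrArg (fun z => w⁻¹ * z * w) h
        simpa [mul_assoc] using h')
      have h1 : centralizer ({g} : Set G) = D := hC g hgD hg2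
      have h2 : centralizer ({e} : Set G) = D := hC e heD he2
      rw [Subgroup.mem_normalizer_iff]
      intro h
      constructor
      · intro hh
        rw [← h1, Subgroup.mem_centralizer_singleton_iff] at hh
        rw [← h2, Subgroup.mem_centralizer_singleton_iff, ← hw]
        calc w * h * w⁻¹ * (w * g * w⁻¹) = w * (h * g) * w⁻¹ := by group
          _ = w * (g * h) * w⁻¹ := by rw [hh]
          _ = _ := by group
      · intro hh
        rw [← h2, Subgroup.mem_centralizer_singleton_iff, ← hw] at hh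
        rw [← h1, Subgroup.mem_centralizer_singleton_iff]
        calc h * g = w⁻¹ * (w * h * w⁻¹ * (w * g * w⁻¹)) * w := by group
          _ = w⁻¹ * (w * g * w⁻¹ * (w * h * w⁻¹)) * w := by rw [hh]
          _ = _ := by group
  have hthree : ∀ g ∈ T, g ≠ 1 → ∀ c : G ⧸ N, g • c = c → c = a ∨ c = b := by
    intro g hg hg1 c
    induction c using QuotientGroup.induction_on with
    | H x =>
      intro hc
      rw [hTD] at hg
      have hmem := (hfixiff g x).mp hc
      have hnQ : x⁻¹ * g * x ∉ Q := by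
        intro hh
        have hne : x⁻¹ * g * x ≠ 1 := fun h => hg1 (by
          have := congrArg (fun z => x * z * x⁻¹) h
          simpa [mul_assoc] using this)
        refine hne (orderOf_eq_one_iff.mp (Nat.eq_one_of_dvd_coprimes W.coprime
          (Q.orderOf_dvd_natCard hh) ?_))
        rw [show x⁻¹ * g * x = MulAut.conj x⁻¹ g by simp, MulEquiv.orderOf_eq]
        exact D.orderOf_dvd_natCard hg
      obtain ⟨y, hy, hye⟩ := hconj _ hmem hnQ
      have hw := hfixD g hg hg1 _ hye (y * x⁻¹) (by group)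
      rcases hcases _ (inv_mem hw) with h | h
      · left
        rw [ha, QuotientGroup.eq, mul_one]
        refine inv_mem ?_
        have := mul_mem (W.le_D h) (le_normalizer hy)
        simpa [mul_assoc] using this
      · right
        have hxb : (↑x : G ⧸ N) = ((x * y⁻¹ : G) : G ⧸ N) := by
          rw [QuotientGroup.eq]
          simpa using inv_mem (le_normalizer hy)
        rw [hxb, show x * y⁻¹ = ((y * x⁻¹)⁻¹ * u) * u by
          rw [mul_assoc, huu, mul_one]; group]
        show ((y * x⁻¹)⁻¹ * u) • b = b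
        exact (hDfix _ h).2
  have hfaith : FaithfulSMul G (G ⧸ N) := by
    refine ⟨fun {g h} hgh => ?_⟩
    have hk : g⁻¹ * h ∈ (MulAction.toPermHom G (G ⧸ N)).ker := by
      rw [MonoidHom.mem_ker]
      ext c
      simp only [MulAction.toPermHom_apply, MulAction.toPerm_apply, Equiv.Perm.coe_one, id_eq]
      rw [mul_smul, ← hgh c, inv_smul_smul]
    rcases (MonoidHom.normal_ker (MulAction.toPermHom G (G ⧸ N))).eq_bot_or_eq_top with hb' | ht
    · rw [hb', Subgroup.mem_bot] at hk
      exact inv_mul_eq_one.mp hk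
    · exfalso
      have hu2 : u ∈ (MulAction.toPermHom G (G ⧸ N)).ker := ht ▸ mem_top u
      rw [MonoidHom.mem_ker] at hu2
      have := congrArg (fun p : Equiv.Perm (G ⧸ N) => p a) hu2
      simp only [MulAction.toPermHom_apply, MulAction.toPerm_apply, Equiv.Perm.coe_one, id_eq] at this
      apply hab
      rw [hb, ← this, ha, MulAction.Quotient.smul_coe, smul_eq_mul, mul_one]
  have hZ : Cfsg.IsZassenhausGroup G (G ⧸ N) := by
    refine ⟨hfaith, h2t, ?_, ?_, ?_⟩
    · intro g p q r hpq hqr hpr h1 h2 h3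
      obtain ⟨k, hk1, hk2⟩ := is_two_pretransitive_iff.mp h2t hab hpq
      by_contra hne
      have hgT : k⁻¹ * g * k ∈ T := by
        refine Subgroup.mem_inf.mpr ⟨?_, ?_⟩ <;> rw [mem_stabilizer_iff, mul_smul, mul_smul]
        · rw [hk1, h1, ← hk1, inv_smul_smul]
        · rw [hk2, h2, ← hk2, inv_smul_smul]
      have hne' : k⁻¹ * g * k ≠ 1 := fun h => hne (by
        have := congrArg (fun z => k * z * k⁻¹) h
        simpa [mul_assoc] using this)
      rcases hthree _ hgT hne' (k⁻¹ • r)
        (by rw [mul_smul, mul_smul, smul_inv_smul, h3]) with h | h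
      · exact hpr (by rw [← hk1, ← h, smul_inv_smul])
      · exact hqr (by rw [← hk2, ← h, smul_inv_smul])
    · obtain ⟨e, he⟩ := @exists_ne D ((Subgroup.nontrivial_iff_ne_bot D).mpr hDne) 1
      exact ⟨e, fun h => he (Subtype.ext h), a, b, hab, (hDfix e e.2).1, (hDfix e e.2).2⟩
    · intro M hM htr
      refine ⟨a, fun hbot => ?_⟩
      rcases hM.eq_bot_or_eq_top with h | h
      · obtain ⟨m, hm⟩ := htr.exists_smul_eq a b
        have hm1 : (m : G) = 1 := Subgroup.mem_bot.mp (h ▸ m.2)
        exact hab (by rw [← hm, Subgroup.smul_def, hm1, one_smul])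
      · obtain ⟨e, he⟩ := @exists_ne D ((Subgroup.nontrivial_iff_ne_bot D).mpr hDne) 1
        have hmem : (⟨(e : G), h ▸ mem_top _⟩ : M) ∈ stabilizer M a := (hDfix e e.2).1
        have h1 := Subgroup.mem_bot.mp (hbot.le hmem)
        exact he (Subtype.ext (congrArg Subtype.val h1 : (e : G) = 1))
  have hU : CharDeep.Zass.IsKernel a Q := ⟨hQN, hΩ.symm, hfixQ⟩
  have hTcard : Nat.card (CharDeep.Zass.two G a b) = Nat.card D := by
    show Nat.card T = _
    rw [hTD]
  have hhalf := W.half
  rcases Nat.even_or_odd (Nat.card (CharDeep.Zass.two G a b)) with he | ho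
  · obtain ⟨F, hF, hF', h1, -, -, h4⟩ := ZassNormal.exists_psl hZ hab hU he
      (by rw [hTcard, hΩ]; omega)
    exact ⟨F, hF, hF', by omega, h4⟩
  · obtain ⟨F, hF, hF', h1, -, h4⟩ := ZassNormal.exists_psl_odd hZ hab hU
      (by rw [hTcard, hΩ]; omega) ho (fun g hga hgb => by
        have hgu : g * u ∈ D := by
          rw [← hTD]
          have hub : u • b = a := by
            rw [hb, ha, MulAction.Quotient.smul_coe, smul_eq_mul, huu]
          have hua : u • a = b := by
            rw [hb, ha, MulAction.Quotient.smul_coe, smul_eq_mul, mul_one]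
          exact Subgroup.mem_inf.mpr ⟨by rw [mem_stabilizer_iff, mul_smul, hua, hgb],
            by rw [mem_stabilizer_iff, mul_smul, hub, hga]⟩
        have := hinv _ hgu
        calc g * g = (g * u) * (u * (g * u) * u⁻¹) := by
              rw [hu']
              calc g * g = g * (u * u) * g * (u * u) := by rw [huu, mul_one, mul_one]
                _ = _ := by group
          _ = 1 := by rw [this, mul_inv_cancel])
      (fun x y => Subtype.ext (W.Q_comm x x.2 y y.2))
    exact ⟨F, hF, hF', by omega, h4⟩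

end Cfsg.Agent.BSW7
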