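import Cfsg.Agent.BSW7.Common

/-!
# Abstract Brauer–Suzuki–Wall: the case of degree `q = 2k + 1`
-/

set_option autoImplicit false
set_option linter.unusedSectionVars false

namespace Cfsg.Agent.BSW7

open Subgroup

/-- The conclusion of the theorem. -/
def Concl (G : Type*) [Group G] : Prop :=
  ∃ Q D : Subgroup G, 2 * Nat.card G = Nat.card ↥Q * (Nat.card ↥Q + 1) * (Nat.card ↥Q - 1) ∧
      (∀ x ∈ Q, x ≠ 1 → Subgroup.centralizer ({x} : Set G) = Q) ∧
      IsMulCommutative ↥D ∧ 2 * Nat.card ↥D + 1 = Nat.card ↥Q ∧ Q ⊓ D = ⊥ ∧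
      Subgroup.normalizer (Q : Set G) = Q ⊔ D ∧
      ∀ X : Subgroup G, X ≤ D → X ≠ ⊥ →
        Subgroup.normalizer (X : Set G) = Subgroup.normalizer (D : Set G) ∧
        ∃ u : G, orderOf u = 2 ∧ u ∉ D ∧ (∀ d ∈ D, u * d * u⁻¹ = d⁻¹) ∧
          Subgroup.normalizer (D : Set G) = D ⊔ Subgroup.zpowers u

namespace Setup.Shape

variable {G : Type*} [Group G] [Fintype G] {S : Setup G} (D : Shape S)

theorem plus_centralizer (hF : 0 < D.F) {g : G} (hg : D.InP g) :
    ∃ i : G, orderOf i = 2 ∧ i * g * i⁻¹ = g⁻¹ ∧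
      Nat.card (centralizer ({g} : Set G)) = D.q ∧
      IsMulCommutative (centralizer ({g} : Set G)) ∧
      ∀ a ∈ centralizer ({g} : Set G), a ≠ 1 →
        centralizer ({a} : Set G) = centralizer ({g} : Set G) := by
  have hp := D.pairs_inP hg
  rw [if_pos hF] at hp
  have hne : Nat.card {p : G × G // orderOf p.1 = 2 ∧ orderOf p.2 = 2 ∧ p.1 * p.2 = g} ≠ 0 := by
    rw [hp]; have := D.q_ge; omega
  obtain ⟨i, hi, hig⟩ := S.exists_inverting (D.not_inConjK_of_inP hg) hne
  refine ⟨i, hi, hig, ?_, ⟨⟨fun a b => Subtype.ext ?_⟩⟩,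
    fun a ha ha1 => S.centralizer_of_inverted (D.not_inConjK_of_inP hg) hi hig ha ha1⟩
  · rw [← S.card_pairs_eq_centralizer (D.not_inConjK_of_inP hg) hi hig, hp]
  · exact S.centralizer_comm (D.not_inConjK_of_inP hg) hi hig
      (mem_centralizer_singleton_iff.mp a.2) (mem_centralizer_singleton_iff.mp b.2)

theorem concl_plus (hF : 0 < D.F) : Concl G := by
  classical
  have hk := two_le_k (S := S)
  have hq := D.q_ge
  obtain ⟨hFq, hqk⟩ : D.F = (D.q : ℤ) ∧ D.q = 2 * Nat.card S.K + 1 := by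
    rcases D.q_cases with h | h
    · exact h
    · omega
  obtain ⟨⟨g0, hg0⟩⟩ : Nonempty {g : G // D.InP g} := by
    refine (Nat.card_ne_zero.mp ?_).1
    rw [D.card_types.1]
    have : 9 ≤ D.q ^ 2 := by nlinarith
    omega
  obtain ⟨i, hi, hig0, -, -, -⟩ := D.plus_centralizer hF hg0
  obtain ⟨x, hx⟩ := S.exists_conj_t hi
  set g := x * g0 * x⁻¹ with hgdef
  have hg : D.InP g := by
    obtain ⟨p, hp, hpq, hpo⟩ := hg0
    exact ⟨p, hp, hpq, by rwa [hgdef, ← MulAut.conj_apply, MulEquiv.orderOf_eq]⟩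
  have htg : S.t * g * S.t⁻¹ = g⁻¹ := by
    rw [← hx, hgdef]
    calc x * i * x⁻¹ * (x * g0 * x⁻¹) * (x * i * x⁻¹)⁻¹ = x * (i * g0 * i⁻¹) * x⁻¹ := by group
      _ = x * g0⁻¹ * x⁻¹ := by rw [hig0]
      _ = _ := by group
  have hgK := D.not_inConjK_of_inP hg
  set Q := centralizer ({g} : Set G) with hQ
  obtain ⟨-, -, -, hQc, hQab, hcen⟩ := D.plus_centralizer hF hg
  have hgQ : g ∈ Q := mem_centralizer_singleton_iff.mpr rfl
  have hg1 : g ≠ 1 := fun h => hgK (h ▸ S.inConjK_one)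
  have hQP : ∀ a ∈ Q, a ≠ 1 → D.InP a := by
    intro a ha ha1
    obtain ⟨p, hp, hpo⟩ := Nat.exists_prime_and_dvd (fun h => ha1 (orderOf_eq_one_iff.mp h))
    exact ⟨p, hp, hQc ▸ hpo.trans (Q.orderOf_dvd_natCard ha), hpo⟩
  have hN : Nat.card (normalizer (Q : Set G)) = D.q * Nat.card S.K := by
    have h := D.card_normalizer hQc hcen (fun a ha => by
      obtain ⟨-, -, -, h1, h2, -⟩ := D.plus_centralizer hF ha
      exact ⟨h1, h2⟩) hQP hQab
    rw [D.card_eq_q_mul, show (D.F + 1).natAbs = D.q + 1 by omega, ← mul_assoc] at h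
    exact Nat.eq_of_mul_eq_mul_right (Nat.succ_pos _) h
  set N := normalizer (Q : Set G) with hNdef
  have hodd : ∀ c ∈ Q, c * c = 1 → c = 1 := by
    intro c hc h2
    by_contra h1
    exact S.sq_ne_one (S.not_inConjK_of_commute hgK h1 (mem_centralizer_singleton_iff.mp hc)) h2
  have htinv : ∀ c ∈ Q, S.t * c * S.t⁻¹ = c⁻¹ := fun c hc =>
    S.inverts_centralizer hgK S.ht htg (mem_centralizer_singleton_iff.mp hc)
  have hQcomm : ∀ a ∈ Q, ∀ b ∈ Q, a * b = b * a := fun a ha b hb =>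
    S.centralizer_comm hgK S.ht htg (mem_centralizer_singleton_iff.mp ha)
      (mem_centralizer_singleton_iff.mp hb)
  set D' := N ⊓ centralizer ({S.t} : Set G) with hD'
  have hle : D' ≤ S.K := by
    intro n ⟨hnN, hnH⟩
    by_contra hnK
    have hn2 := S.reflection hnH hnK
    have hnn : n * n = 1 := Involution.mul_self_of_orderOf hn2
    have hn' : n⁻¹ = n := inv_eq_of_mul_eq_one_right hnn
    have hb : n * g * n⁻¹ ∈ Q := (Subgroup.mem_normalizer_iff.mp hnN g).mp hgQ
    have hc : g * (n * g * n⁻¹) ∈ Q := mul_mem hgQ hb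
    have hfix : n * (g * (n * g * n⁻¹)) = g * (n * g * n⁻¹) * n := by
      calc n * (g * (n * g * n⁻¹)) = (n * g * n⁻¹) * ((n * n) * g * (n⁻¹ * n⁻¹)) * n := by group
        _ = (n * g * n⁻¹) * g * n := by rw [hnn, hn', hnn, one_mul, mul_one]
        _ = g * (n * g * n⁻¹) * n := by rw [hQcomm _ hb _ hgQ]
    have hc1 : g * (n * g * n⁻¹) = 1 := by
      by_contra h1
      exact D.not_inConjK_of_inP (hQP _ hc h1) (S.inConjK_of_commute_involution hn2 hfix.symm)
    have hng : n * g * n⁻¹ = g⁻¹ := eq_inv_of_mul_eq_one_right hc1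
    have hnt : n * S.t ∈ Q := by
      rw [hQ, mem_centralizer_singleton_iff]
      calc n * S.t * g = n * (S.t * g * S.t⁻¹) * S.t := by group
        _ = (n * g * n⁻¹)⁻¹ * (n * S.t) := by rw [htg]; group
        _ = g * (n * S.t) := by rw [hng, inv_inv]
    have hcomm := S.mem_H.mp hnH
    have h1 := hodd _ hnt (by
      calc n * S.t * (n * S.t) = n * (S.t * n) * S.t := by group
        _ = n * (n * S.t) * S.t := by rw [hcomm]
        _ = (n * n) * (S.t * S.t) := by group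
        _ = 1 := by rw [hnn, S.t_mul_self, one_mul])
    exact hnK (by rw [eq_inv_of_mul_eq_one_left h1, S.inv_t]; exact S.tK)
  have hcount : Nat.card S.K ≤ Nat.card D' := by
    have hf : ∀ n : N, S.t * ((n : G) * S.t * (n : G)⁻¹) ∈ Q := by
      intro n
      have hc : (n : G)⁻¹ * g * (n : G) ∈ Q := by
        have := (Subgroup.mem_normalizer_iff.mp (inv_mem n.2) g).mp hgQ
        rwa [inv_inv] at this
      have h := htinv _ hc
      rw [hQ, mem_centralizer_singleton_iff]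
      have h2 : ((n : G) * S.t * (n : G)⁻¹) * g * ((n : G) * S.t * (n : G)⁻¹)⁻¹ = g⁻¹ := by
        calc _ = (n : G) * (S.t * ((n : G)⁻¹ * g * n) * S.t⁻¹) * (n : G)⁻¹ := by group
          _ = _ := by rw [h]; group
      calc S.t * ((n : G) * S.t * (n : G)⁻¹) * g
          = S.t * (((n : G) * S.t * (n : G)⁻¹) * g * ((n : G) * S.t * (n : G)⁻¹)⁻¹) *
              ((n : G) * S.t * (n : G)⁻¹) := by group
        _ = (S.t * g * S.t⁻¹)⁻¹ * (S.t * ((n : G) * S.t * (n : G)⁻¹)) := by rw [h2]; group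
        _ = _ := by rw [htg, inv_inv]
    let f : N → Q := fun n => ⟨_, hf n⟩
    have hσ : ∀ n : N, (Function.invFun f (f n))⁻¹ * n ∈ D'.subgroupOf N := by
      intro n
      refine ⟨((Function.invFun f (f n))⁻¹ * n).2, ?_⟩
      have h := congrArg Subtype.val (Function.invFun_eq (f := f) ⟨n, rfl⟩)
      have h' := mul_left_cancel h
      set m : G := ((Function.invFun f (f n) : N) : G)
      show (m⁻¹ * (n : G)) ∈ centralizer ({S.t} : Set G)
      rw [S.mem_H]
      calc m⁻¹ * (n : G) * S.t = m⁻¹ * ((n : G) * S.t * (n : G)⁻¹) * n := by group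
        _ = m⁻¹ * (m * S.t * m⁻¹) * n := by rw [h']
        _ = _ := by group
    have hinj : Function.Injective fun n : N => ((f n, ⟨_, hσ n⟩) : Q × D'.subgroupOf N) := by
      intro a b h
      have h1 : f a = f b := congrArg Prod.fst h
      have h2 := congrArg (fun z : Q × D'.subgroupOf N => (z.2 : N)) h
      simp only [h1] at h2
      exact mul_left_cancel h2
    have h := Nat.card_le_card_of_injective _ hinj
    rw [Nat.card_prod, hN, hQc, Nat.card_congr (subgroupOfEquivOfLe inf_le_left).toEquiv] at h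
    exact Nat.le_of_mul_le_mul_left h (by omega)
  have hKeq : D' = S.K := Subgroup.eq_of_le_of_card_ge hle hcount
  have hKN : S.K ≤ N := hKeq ▸ inf_le_left
  have hcop : Nat.Coprime (Nat.card Q) (Nat.card S.K) := by
    rw [hQc]; exact Nat.Coprime.coprime_mul_right_right D.coprime_q
  refine ⟨Q, S.K, ?_, hcen, ⟨⟨fun a b => Subtype.ext (S.comm a a.2 b b.2)⟩⟩, ?_,
    Subgroup.inf_eq_bot_of_coprime hcop, ?_, fun X hX hne => ⟨?_, S.s, S.hs, S.sK, S.inv, ?_⟩⟩
  · rw [hQc]; exact D.card_eq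
  · rw [hQc]; omega
  · symm
    refine Subgroup.eq_of_le_of_card_ge (sup_le le_normalizer hKN) (Nat.le_of_dvd Nat.card_pos ?_)
    rw [hN, ← hQc]
    exact hcop.mul_dvd_of_dvd_of_dvd (Subgroup.card_dvd_of_le le_sup_left)
      (Subgroup.card_dvd_of_le le_sup_right)
  · rw [S.normalizer_of_le hX hne, S.normalizer_K]
  · rw [S.normalizer_K, S.gen]

end Setup.Shape

end Cfsg.Agent.BSW7
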