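import Cfsg.Agent.BSW7.Decomp

/-!
# Abstract Brauer–Suzuki–Wall: the shape of the exceptional characters
-/

set_option autoImplicit false
set_option linter.unusedSectionVars false

open scoped ComplexConjugate

namespace Cfsg.Agent.BSW7

theorem inv_recip_bound {a : ℤ} (ha : 4 ∣ a - 1) (h0 : a ≤ 0) : (-1 : ℚ) / 3 ≤ 1 / (a : ℚ) := by
  have h : a ≤ -3 := by omega
  have h' : (a : ℚ) ≤ -3 := by exact_mod_cast h
  rw [le_div_iff_of_neg (by linarith)]
  linarith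

theorem inv_recip_bound' {a b : ℤ} (ha : 4 ∣ a - 1) (hb : 4 ∣ b - 1) (hab : a ≠ b) (h0 : a ≤ 0)
    (h1 : b ≤ 0) : (-10 : ℚ) / 21 ≤ 1 / (a : ℚ) + 1 / (b : ℚ) := by
  wlog h : a < b generalizing a b with hw
  · rw [add_comm]
    exact hw hb ha hab.symm h1 h0 (lt_of_le_of_ne (not_lt.mp h) hab.symm)
  have h' : (a : ℚ) ≤ -7 := by
    have : a ≤ -7 := by omega
    exact_mod_cast this
  have h2 : (-1 : ℚ) / 7 ≤ 1 / (a : ℚ) := by
    rw [le_div_iff_of_neg (by linarith)]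
    linarith
  have := inv_recip_bound hb h1
  linarith

theorem inv_recip_nonneg {a : ℤ} (h : 0 < a) : (0 : ℚ) ≤ 1 / (a : ℚ) := by
  have : (0 : ℚ) < a := by exact_mod_cast h
  positivity

/-- The numerical analysis of the case `|K| = 2`. -/
theorem arith_two {n : ℕ} {a b c : ℤ} (ha : 4 ∣ a - 1) (hb : 4 ∣ b - 1) (hc : 4 ∣ c - 1)
    (hs : a + b + c = -1) (heq : (n : ℚ) * (1 + 1 / a + 1 / b + 1 / c) = 8)
    (hbd : 1 + a ^ 2 + b ^ 2 + c ^ 2 ≤ 4 * (n : ℤ)) : a = b ∨ a = c ∨ b = c := by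
  by_contra hne
  simp only [not_or] at hne
  obtain ⟨hab, hac, hbc⟩ := hne
  have hlow : (11 : ℚ) / 21 ≤ 1 + 1 / (a : ℚ) + 1 / (b : ℚ) + 1 / (c : ℚ) := by
    by_cases pa : 0 < a <;> by_cases pb : 0 < b <;> by_cases pc : 0 < c
    · linarith [inv_recip_nonneg pa, inv_recip_nonneg pb, inv_recip_nonneg pc]
    · linarith [inv_recip_nonneg pa, inv_recip_nonneg pb, inv_recip_bound hc (not_lt.mp pc)]
    · linarith [inv_recip_nonneg pa, inv_recip_nonneg pc, inv_recip_bound hb (not_lt.mp pb)]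
    · linarith [inv_recip_nonneg pa, inv_recip_bound' hb hc hbc (not_lt.mp pb) (not_lt.mp pc)]
    · linarith [inv_recip_nonneg pb, inv_recip_nonneg pc, inv_recip_bound ha (not_lt.mp pa)]
    · linarith [inv_recip_nonneg pb, inv_recip_bound' ha hc hac (not_lt.mp pa) (not_lt.mp pc)]
    · linarith [inv_recip_nonneg pc, inv_recip_bound' ha hb hab (not_lt.mp pa) (not_lt.mp pb)]
    · exfalso; omega
  have hn : n ≤ 15 := by
    by_contra h
    have h1 : (16 : ℚ) ≤ n := by exact_mod_cast not_le.mp h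
    nlinarith
  have hn' : (n : ℤ) ≤ 15 := by exact_mod_cast hn
  have ra : a = -7 ∨ a = -3 ∨ a = 1 ∨ a = 5 := by
    have : -8 < a ∧ a < 8 := by constructor <;> nlinarith [sq_nonneg b, sq_nonneg c]
    omega
  have rb : b = -7 ∨ b = -3 ∨ b = 1 ∨ b = 5 := by
    have : -8 < b ∧ b < 8 := by constructor <;> nlinarith [sq_nonneg a, sq_nonneg c]
    omega
  have rc : c = -7 ∨ c = -3 ∨ c = 1 ∨ c = 5 := by
    have : -8 < c ∧ c < 8 := by constructor <;> nlinarith [sq_nonneg a, sq_nonneg b]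
    omega
  rcases ra with rfl | rfl | rfl | rfl <;> rcases rb with rfl | rfl | rfl | rfl <;>
    rcases rc with rfl | rfl | rfl | rfl <;> first
      | omega
      | (norm_num at heq
         field_simp at heq
         norm_cast at heq
         omega)

theorem sign_div {e d : ℤ} (he : e = 1 ∨ e = -1) : (e : ℂ) / (d : ℂ) = 1 / ((e * d : ℤ) : ℂ) := by
  rcases he with rfl | rfl <;> simp [neg_div, div_neg]

namespace Setup

open Subgroup

variable {G : Type*} [Group G] [Fintype G] (S : Setup G)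

theorem sign_mul_deg_ne_zero {e : ℤ} (he : e = 1 ∨ e = -1) (χ : Cfsg.IrrCharacter G) :
    e * deg χ ≠ 0 := mul_ne_zero (by omega) (deg_pos χ).ne'

/-- The data of the exceptional characters. -/
structure Shape where
  X : Cfsg.IrrCharacter G
  E1 : Cfsg.IrrCharacter G
  E2 : Cfsg.IrrCharacter G
  e : ℤ
  e1 : ℤ
  e2 : ℤ
  he : e = 1 ∨ e = -1
  he1 : e1 = 1 ∨ e1 = -1
  he2 : e2 = 1 ∨ e2 = -1
  hX : X ≠ triv
  aX : ∀ l : S.Dual, l ≠ 1 → S.a X l = e
  sum0 : ∀ f : Cfsg.IrrCharacter G → ℂ, ∑ χ, (S.a χ S.l0 : ℂ) * f χ =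
    f triv + (e : ℂ) * f X + (e1 : ℂ) * f E1 + (e2 : ℂ) * f E2
  aE1 : S.a E1 S.l0 = e1 ∧ ∀ l : S.Dual, l ≠ S.l0 → S.a E1 l = 0
  aE2 : S.a E2 S.l0 = e2 ∧ ∀ l : S.Dual, l ≠ S.l0 → S.a E2 l = 0
  hE : e1 * deg E1 = e2 * deg E2

section Centre

variable {X : Cfsg.IrrCharacter G} {e : ℤ}

theorem centre_t (aX : ∀ l : S.Dual, l ≠ 1 → S.a X l = e) : (X : G → ℂ) S.t = e := by
  classical
  rw [S.apply_t]
  have h : ∀ l : S.Dual, (S.a X l : ℂ) * (l ⟨S.t, S.tK⟩ : ℂ) =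
      (e : ℂ) * (l ⟨S.t, S.tK⟩ : ℂ) - (if l = 1 then (e : ℂ) else 0) := by
    intro l
    by_cases hl : l = 1
    · subst hl; simp [a_one]
    · rw [aX l hl, if_neg hl, sub_zero]
  simp only [h, Finset.sum_sub_distrib, ← Finset.mul_sum, sum_t, Finset.sum_ite_eq',
    Finset.mem_univ, if_true]
  ring

theorem exists_leaf (he : e = 1 ∨ e = -1) (hX : X ≠ triv)
    (aX : ∀ l : S.Dual, l ≠ 1 → S.a X l = e) {l : S.Dual} (hl : l ≠ 1) (hl' : l ≠ S.l0) :
    ∃ (B : Cfsg.IrrCharacter G) (e' : ℤ), B ≠ X ∧ B ≠ triv ∧ (e' = 1 ∨ e' = -1) ∧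
      (∀ f : Cfsg.IrrCharacter G → ℂ,
        ∑ χ, (S.a χ l : ℂ) * f χ = f triv + (e : ℂ) * f X + (e' : ℂ) * f B) ∧
      (B : G → ℂ) S.t = -2 * (e' : ℂ) * (l ⟨S.t, S.tK⟩ : ℂ) ∧ S.a B S.l0 = 0 ∧
      e * deg X + e' * deg B = -1 := by
  classical
  obtain ⟨p, q, hpq, hp, hq, hs⟩ := exists_two (S.norm_two hl hl')
  have hvX : S.v l X = e := by rw [v_of_ne S l hX, aX l hl]
  obtain ⟨B, hXB, hB, hsl⟩ : ∃ B, X ≠ B ∧ (S.v l B = 1 ∨ S.v l B = -1) ∧
      ∀ x, S.v l x ≠ 0 → x = X ∨ x = B := by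
    rcases hs X (by omega) with h | h
    · exact ⟨q, h ▸ hpq, hq, fun x hx => h ▸ hs x hx⟩
    · exact ⟨p, h ▸ hpq.symm, hp, fun x hx => h ▸ (hs x hx).symm⟩
  have hBt : B ≠ triv := S.ne_triv_of_v (l := l) (by omega)
  have hzero : ∀ m : S.Dual, m ≠ l → m ≠ l⁻¹ → S.a B m = 0 := by
    intro m hm hm'
    by_cases hm1 : m = 1
    · rw [hm1, a_one]
    rcases cross_two hXB (by omega) hB hsl (fun x => S.v_small hm1 x)
      (S.cross hl hm1 (Ne.symm hm) (fun h => hm' (by rw [h]; exact (inv_inv m).symm))) with h | h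
    · rw [← v_of_ne S m hBt]; exact h.2
    · exfalso
      have := h.1
      rw [v_of_ne S m hX, aX m hm1] at this
      omega
  refine ⟨B, S.v l B, hXB.symm, hBt, hB, fun f => ?_, ?_, ?_, ?_⟩
  · rw [S.sum_split hl, sum_two hXB hsl f, hvX, add_assoc]
  · rw [S.apply_t, Finset.sum_eq_add_of_mem (l) (l⁻¹) (Finset.mem_univ _) (Finset.mem_univ _)
      (S.inv_ne_self hl hl').symm fun m _ hm => by rw [hzero m hm.1 hm.2]; simp,
      l_t_inv, a_inv, v_of_ne S l hBt]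
    ring
  · exact hzero _ (Ne.symm hl') fun h => hl' (by rw [← inv_inv l, ← h, l0_inv])
  · have h := S.sum_v_deg hl
    have h1 := sum_two (R := ℤ) hXB hsl deg
    simp only [Int.cast_id] at h1
    rw [h1, hvX] at h
    exact h

end Centre

/-- Build the shape from the constituents of `A l0`. -/
theorem shape_of {X E1 E2 : Cfsg.IrrCharacter G} {e : ℤ} (he : e = 1 ∨ e = -1) (hX : X ≠ triv)
    (aX : ∀ l : S.Dual, l ≠ 1 → S.a X l = e) (h1 : X ≠ E1) (h2 : X ≠ E2) (h12 : E1 ≠ E2)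
    (hE1 : S.v S.l0 E1 = 1 ∨ S.v S.l0 E1 = -1) (hE2 : S.v S.l0 E2 = 1 ∨ S.v S.l0 E2 = -1)
    (hs : ∀ x, S.v S.l0 x ≠ 0 → x = X ∨ x = E1 ∨ x = E2)
    (hdeg : S.v S.l0 E1 * deg E1 = S.v S.l0 E2 * deg E2) : Nonempty (Shape S) := by
  have hz : ∀ Y : Cfsg.IrrCharacter G, Y ≠ X → (S.v S.l0 Y = 1 ∨ S.v S.l0 Y = -1) →
      ∀ l : S.Dual, l ≠ S.l0 → S.a Y l = 0 := by
    intro Y hY hv l hl'
    by_cases hl : l = 1
    · rw [hl, a_one]
    by_contra hne
    have hYt : Y ≠ triv := S.ne_triv_of_v (l := S.l0) (by omega)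
    have hvX : S.v l X = S.v S.l0 X ∧ S.v l X ≠ 0 := by
      rw [v_of_ne S _ hX, v_of_ne S _ hX, aX l hl, aX _ S.l0_ne_one]
      exact ⟨rfl, by omega⟩
    obtain ⟨p, q, hpq, hp, hq, hsl⟩ := exists_two (S.norm_two hl hl')
    have hvY : S.v l Y ≠ 0 := by rwa [v_of_ne S _ hYt]
    have c := cross_two hpq hp hq hsl (fun x => S.v_small S.l0_ne_one x)
      (S.cross hl S.l0_ne_one hl' (by rw [l0_inv]; exact hl'))
    rcases hsl X hvX.2 with rfl | rfl <;> rcases hsl Y hvY with rfl | rfl <;> try exact hY rfl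
    · rcases c with c | c <;> omega
    · rcases c with c | c <;> omega
  have hE1t : E1 ≠ triv := S.ne_triv_of_v (l := S.l0) (by omega)
  have hE2t : E2 ≠ triv := S.ne_triv_of_v (l := S.l0) (by omega)
  refine ⟨{ X := X, E1 := E1, E2 := E2, e := e, e1 := S.v S.l0 E1, e2 := S.v S.l0 E2, he := he,
            he1 := hE1, he2 := hE2, hX := hX, aX := aX, sum0 := fun f => ?_,
            aE1 := ⟨(v_of_ne S _ hE1t).symm, hz E1 h1.symm hE1⟩,
            aE2 := ⟨(v_of_ne S _ hE2t).symm, hz E2 h2.symm hE2⟩, hE := hdeg }⟩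
  rw [S.sum_split S.l0_ne_one, sum_three h1 h2 h12 hs f, v_of_ne S _ hX, aX _ S.l0_ne_one]
  ring

theorem dual_eq_of_two (hk : ∀ l : S.Dual, l ≠ 1 → l = S.l0) (f : S.Dual → ℂ) :
    ∑ l, f l = f 1 + f S.l0 := by
  classical
  refine Fintype.sum_eq_add 1 S.l0 S.l0_ne_one.symm fun l hl => ?_
  exact absurd (hk l hl.1) hl.2

/-- In the case `|K| = 2`, the values at `t` and congruences modulo `4`. -/
theorem value_two (hk : ∀ l : S.Dual, l ≠ 1 → l = S.l0) (χ : Cfsg.IrrCharacter G) :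
    (χ : G → ℂ) S.t = (S.a χ S.l0 : ℂ) ∧ 4 ∣ deg χ + 3 * S.a χ S.l0 := by
  classical
  have h0 : (S.l0 ⟨S.t, S.tK⟩ : ℂ) = -1 := by
    have h := S.sum_t
    rw [S.dual_eq_of_two hk, MonoidHom.one_apply, Units.val_one] at h
    linear_combination h
  have hv : (χ : G → ℂ) S.t = (S.a χ S.l0 : ℂ) := by
    rw [S.apply_t, S.dual_eq_of_two hk, a_one, h0]
    simp
  refine ⟨hv, ?_⟩
  have hcard : Nat.card S.K = 2 := by
    rw [← card_dual, ← Finset.card_univ,
      show (Finset.univ : Finset S.Dual) = {1, S.l0} by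
        ext l; simpa using (em (l = 1)).imp id (hk l)]
    exact Finset.card_pair S.l0_ne_one.symm
  set H := centralizer ({S.t} : Set G) with hH
  have hH4 : Nat.card H = 4 := by rw [hH, S.card_H, hcard]
  obtain ⟨m, hm⟩ := CharCore.IsCharacter.exists_classInner_eq_natCast
    (CharCore.isCharacter_restrict (CharCore.irr_isCharacter χ) H) (CharCore.isCharacter_one (G := H))
  have hval : ∀ h : H, (χ : G → ℂ) (h : G) =
      if h = 1 then (deg χ : ℂ) else (S.a χ S.l0 : ℂ) := by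
    intro h
    by_cases h1 : h = 1
    · rw [if_pos h1, h1, OneMemClass.coe_one, deg_spec]
    rw [if_neg h1, ← hv]
    have hne : (h : G) ≠ 1 := fun h' => h1 (Subtype.ext h')
    have hi : orderOf (h : G) = 2 := by
      by_cases hK : (h : G) ∈ S.K
      · have hd : orderOf (h : G) ∣ 2 := hcard ▸ S.K.orderOf_dvd_natCard hK
        rcases (Nat.dvd_prime Nat.prime_two).mp hd with h' | h'
        · exact absurd (orderOf_eq_one_iff.mp h') hne
        · exact h'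
      · exact S.reflection h.2 hK
    obtain ⟨x, hx⟩ := S.exists_conj_t hi
    rw [← hx, CharCore.irr_isClassFunction χ]
  rw [Cfsg.classInner, Finset.sum_congr rfl fun (h : H) _ => show
    (χ : G → ℂ) (h : G) * conj ((1 : H → ℂ) h) =
      (S.a χ S.l0 : ℂ) + (if h = 1 then (deg χ : ℂ) - (S.a χ S.l0 : ℂ) else 0) by
    rw [hval h, Pi.one_apply, map_one, mul_one]; split_ifs <;> ring] at hm
  rw [Finset.sum_add_distrib, Finset.sum_const, Finset.card_univ, ← Nat.card_eq_fintype_card,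
    hH4, Finset.sum_ite_eq', if_pos (Finset.mem_univ _), nsmul_eq_mul] at hm
  refine ⟨(m : ℤ), ?_⟩
  have : ((deg χ + 3 * S.a χ S.l0 : ℤ) : ℂ) = ((4 * (m : ℤ) : ℤ) : ℂ) := by
    push_cast
    linear_combination (4 : ℂ) * hm
  exact_mod_cast this

theorem sum_four_sq_le {a b c d : Cfsg.IrrCharacter G} (hab : a ≠ b) (hac : a ≠ c) (had : a ≠ d)
    (hbc : b ≠ c) (hbd : b ≠ d) (hcd : c ≠ d) :
    deg a ^ 2 + deg b ^ 2 + deg c ^ 2 + deg d ^ 2 ≤ (Nat.card G : ℤ) := by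
  classical
  have h : ((∑ χ : Cfsg.IrrCharacter G, deg χ ^ 2 : ℤ) : ℂ) = ((Nat.card G : ℤ) : ℂ) := by
    push_cast
    simp only [← deg_spec]
    exact CharCore.sum_degree_sq
  have h' : (∑ χ : Cfsg.IrrCharacter G, deg χ ^ 2 : ℤ) = Nat.card G := by exact_mod_cast h
  rw [← h']
  refine le_trans (le_of_eq ?_) (Finset.sum_le_sum_of_subset_of_nonneg
    (Finset.subset_univ ({a, b, c, d} : Finset _)) fun χ _ _ => sq_nonneg _)
  rw [Finset.sum_insert (by simp [hab, hac, had]), Finset.sum_insert (by simp [hbc, hbd]),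
    Finset.sum_pair hcd]
  ring

theorem exists_shape : Nonempty (Shape S) := by
  classical
  obtain ⟨X, e, hX, he, aX⟩ := S.exists_centre
  obtain ⟨i, j, r, hij, hir, hjr, hi, hj, hr, hs⟩ := exists_three S.norm_three
  have hvX : S.v S.l0 X = e := by rw [v_of_ne S _ hX, aX _ S.l0_ne_one]
  obtain ⟨E1, E2, h1, h2, h12, hE1, hE2, hs'⟩ : ∃ E1 E2, X ≠ E1 ∧ X ≠ E2 ∧ E1 ≠ E2 ∧
      (S.v S.l0 E1 = 1 ∨ S.v S.l0 E1 = -1) ∧ (S.v S.l0 E2 = 1 ∨ S.v S.l0 E2 = -1) ∧
      ∀ x, S.v S.l0 x ≠ 0 → x = X ∨ x = E1 ∨ x = E2 := by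
    rcases hs X (by omega) with h | h | h
    · exact ⟨j, r, h ▸ hij, h ▸ hir, hjr, hj, hr, fun x hx => h ▸ hs x hx⟩
    · exact ⟨i, r, h ▸ hij.symm, h ▸ hjr, hir, hi, hr,
        fun x hx => h ▸ or_left_comm.mp (hs x hx)⟩
    · exact ⟨i, j, h ▸ hir.symm, h ▸ hjr.symm, hij, hi, hj, fun x hx => by
        rcases hs x hx with h' | h' | h'
        exacts [Or.inr (Or.inl h'), Or.inr (Or.inr h'), Or.inl (h'.trans h.symm)]⟩
  have hsum : e * deg X + S.v S.l0 E1 * deg E1 + S.v S.l0 E2 * deg E2 = -1 := by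
    have h := S.sum_v_deg S.l0_ne_one
    have h' := sum_three (R := ℤ) h1 h2 h12 hs' deg
    simp only [Int.cast_id] at h'
    rw [h', hvX] at h
    exact h
  have hE1t : E1 ≠ triv := S.ne_triv_of_v (l := S.l0) (by omega)
  have hE2t : E2 ≠ triv := S.ne_triv_of_v (l := S.l0) (by omega)
  by_cases hex : ∃ l : S.Dual, l ≠ 1 ∧ l ≠ S.l0
  · refine S.shape_of he hX aX h1 h2 h12 hE1 hE2 hs' ?_
    obtain ⟨l, hl, hl'⟩ := hex
    obtain ⟨B, e', -, -, he', hf, hBt, -, hdeg⟩ := S.exists_leaf he hX aX hl hl'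
    have hn : (Nat.card {y : G // orderOf y = 2} : ℂ) ≠ 0 := by
      intro h
      exact S.card_involutions_odd (by rw [Nat.cast_eq_zero.mp h]; exact dvd_zero 2)
    have q1 := S.equation' l hl
    have q2 := S.equation' S.l0 S.l0_ne_one
    have hf' := hf fun χ => (χ : G → ℂ) S.t ^ 2 / (deg χ : ℂ)
    rw [S.sum_split hl, add_assoc] at hf'
    rw [add_left_cancel hf', hBt] at q1
    rw [sum_three h1 h2 h12 hs', hvX] at q2
    have hEt : ∀ Y : Cfsg.IrrCharacter G, Y ≠ X → Y ≠ triv →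
        (S.v S.l0 Y = 1 ∨ S.v S.l0 Y = -1) → (Y : G → ℂ) S.t ^ 2 = 1 := by
      intro Y hY hYt hv
      have hz : ∀ m : S.Dual, m ≠ S.l0 → S.a Y m = 0 := by
        intro m hm'
        by_cases hm : m = 1
        · rw [hm, a_one]
        obtain ⟨B', e'', hB'X, hB't, -, hf'', -, hB0, -⟩ := S.exists_leaf he hX aX hm hm'
        have hg := hf'' fun χ => if χ = Y then 1 else 0
        simp only [mul_ite, mul_one, mul_zero, Finset.sum_ite_eq', Finset.mem_univ, if_true] at hg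
        have hYB : B' ≠ Y := fun h => by
          rw [h] at hB0
          rw [v_of_ne S _ hYt, hB0] at hv
          omega
        rw [if_neg (Ne.symm hYt), if_neg (Ne.symm hY), if_neg hYB] at hg
        norm_num at hg
        exact hg
      rw [S.apply_t, Finset.sum_eq_single S.l0 (fun m _ hm => by rw [hz m hm]; simp)
        (fun h => absurd (Finset.mem_univ _) h), ← v_of_ne S _ hYt, neg_sq, mul_pow]
      rcases hv with hv | hv <;> rcases S.l_t S.l0 with ht | ht <;> rw [hv, ht] <;> norm_num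
    rw [S.centre_t aX] at q1 q2
    rw [hEt E1 h1.symm hE1t hE1, hEt E2 h2.symm hE2t hE2] at q2
    have he2 : (e : ℂ) ^ 2 = 1 := by rcases he with u | u <;> simp [u]
    have he'2 : (e' : ℂ) ^ 2 = 1 := by rcases he' with u | u <;> simp [u]
    have ht2 : (l ⟨S.t, S.tK⟩ : ℂ) ^ 2 = 1 := by rcases S.l_t l with u | u <;> simp [u]
    rw [he2, show (-2 * (e' : ℂ) * (l ⟨S.t, S.tK⟩ : ℂ)) ^ 2 = 4 by
      rw [mul_pow, mul_pow, he'2, ht2]; norm_num] at q1
    rw [he2] at q2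
    have q3 := mul_left_cancel₀ hn (q1.trans q2.symm)
    simp only [mul_div, mul_one] at q3
    rw [show (e' : ℂ) * 4 / (deg B : ℂ) = 4 * ((e' : ℂ) / deg B) by ring, sign_div he',
      sign_div hE1, sign_div hE2] at q3
    set y1 : ℤ := S.v S.l0 E1 * deg E1
    set y2 : ℤ := S.v S.l0 E2 * deg E2
    have hy1 : (y1 : ℂ) ≠ 0 := Int.cast_ne_zero.mpr (sign_mul_deg_ne_zero hE1 E1)
    have hy2 : (y2 : ℂ) ≠ 0 := Int.cast_ne_zero.mpr (sign_mul_deg_ne_zero hE2 E2)
    have hyy : e' * deg B = y1 + y2 := by omega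
    have hb : ((y1 + y2 : ℤ) : ℂ) ≠ 0 :=
      hyy ▸ Int.cast_ne_zero.mpr (sign_mul_deg_ne_zero he' B)
    rw [hyy] at q3
    push_cast at q3 hb
    have q5 : 4 / ((y1 : ℂ) + y2) = 1 / (y1 : ℂ) + 1 / (y2 : ℂ) := by linear_combination q3
    have q4 : ((y1 : ℂ) - y2) ^ 2 = 0 := by
      field_simp at q5
      first
        | linear_combination -q5
        | linear_combination q5
    exact_mod_cast sub_eq_zero.mp (pow_eq_zero_iff two_ne_zero |>.mp q4)
  · have hk : ∀ l : S.Dual, l ≠ 1 → l = S.l0 := fun l hl => by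
      by_contra h; exact hex ⟨l, hl, h⟩
    have aY : ∀ Y : Cfsg.IrrCharacter G, Y ≠ triv → ∀ l : S.Dual, l ≠ 1 →
        S.a Y l = S.v S.l0 Y := fun Y hY l hl => by rw [hk l hl, v_of_ne S _ hY]
    set x := e * deg X with hx
    set y1 := S.v S.l0 E1 * deg E1 with hy1
    set y2 := S.v S.l0 E2 * deg E2 with hy2
    have hmod : ∀ Y : Cfsg.IrrCharacter G, Y ≠ triv → (S.v S.l0 Y = 1 ∨ S.v S.l0 Y = -1) →
        4 ∣ S.v S.l0 Y * deg Y - 1 := by
      intro Y hY hv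
      have h := (S.value_two hk Y).2
      rw [← v_of_ne S _ hY] at h
      rcases hv with hv | hv <;> rw [hv] at h ⊢ <;> omega
    have q := S.equation' S.l0 S.l0_ne_one
    rw [sum_three h1 h2 h12 hs', hvX, (S.value_two hk X).1, (S.value_two hk E1).1,
      (S.value_two hk E2).1, aX _ S.l0_ne_one, ← v_of_ne S _ hE1t, ← v_of_ne S _ hE2t] at q
    have hsq : ∀ {u : ℤ}, (u = 1 ∨ u = -1) → (u : ℂ) ^ 2 = 1 := by
      rintro u (rfl | rfl) <;> simp
    rw [hsq he, hsq hE1, hsq hE2] at q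
    simp only [mul_div, mul_one] at q
    rw [sign_div he, sign_div hE1, sign_div hE2, ← hx, ← hy1, ← hy2] at q
    have hcard : Nat.card S.K = 2 := by
      rw [← card_dual, ← Finset.card_univ,
        show (Finset.univ : Finset S.Dual) = {1, S.l0} by
          ext l; simpa using (em (l = 1)).imp id (hk l)]
      exact Finset.card_pair S.l0_ne_one.symm
    rw [hcard] at q
    set n := Nat.card {y : G // orderOf y = 2} with hn
    have hq : (n : ℚ) * (1 + 1 / x + 1 / y1 + 1 / y2) = 8 := by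
      apply Rat.cast_injective (α := ℂ)
      push_cast
      linear_combination q
    have hG : (Nat.card G : ℤ) = 4 * (n : ℤ) := by
      rw [← S.card_involutions_mul, ← hn, hcard]; push_cast; ring
    have hb := sum_four_sq_le (a := (triv : Cfsg.IrrCharacter G)) hX.symm hE1t.symm hE2t.symm
      h1 h2 h12
    rw [deg_triv, hG] at hb
    have hsq' : ∀ {u : ℤ} {Y : Cfsg.IrrCharacter G}, (u = 1 ∨ u = -1) →
        (u * deg Y) ^ 2 = deg Y ^ 2 := by
      rintro u Y (rfl | rfl) <;> ring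
    have hXs : S.v S.l0 X = 1 ∨ S.v S.l0 X = -1 := by rw [hvX]; exact he
    have hXmod := hmod X hX hXs
    rw [hvX] at hXmod
    have hcase := arith_two (a := x) (b := y1) (c := y2) hXmod
      (hmod E1 hE1t hE1) (hmod E2 hE2t hE2) (by omega) hq
      (by rw [hx, hy1, hy2, hsq' he, hsq' hE1, hsq' hE2]; linarith)
    rcases hcase with h | h | h
    · -- recentre at `E2`
      refine S.shape_of hE2 hE2t (aY E2 hE2t) h2.symm h12.symm h1 hXs hE1 (fun z hz => ?_) ?_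
      · rcases hs' z hz with a | a | a
        exacts [Or.inr (Or.inl a), Or.inr (Or.inr a), Or.inl a]
      · rw [hvX]; exact h
    · -- recentre at `E1`
      refine S.shape_of hE1 hE1t (aY E1 hE1t) h1.symm h12 h2 hXs hE2 (fun z hz => ?_) ?_
      · rcases hs' z hz with a | a | a
        exacts [Or.inr (Or.inl a), Or.inl a, Or.inr (Or.inr a)]
      · rw [hvX]; exact h
    · exact S.shape_of he hX aX h1 h2 h12 hE1 hE2 hs' h

end Setup

end Cfsg.Agent.BSW7
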